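import Mathlib.LinearAlgebra.Matrix.ToLin
import Mathlib.LinearAlgebra.Matrix.Basis
import Mathlib.RingTheory.TensorProduct.Maps
import Mathlib.LinearAlgebra.TensorProduct.Basis
import Mathlib.FieldTheory.Galois.Infinite

/-!
# Descent of a matrix action along points of a projective space
-/

set_option linter.unusedSectionVars false

universe u

open scoped TensorProduct
open Matrix

noncomputable section

namespace Groth.Agent.ASB.Act

variable {K : Type u} [Field K] {n : ℕ}

/-- A vector with a coordinate equal to one. -/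
def Pivot (w : Fin n → K) : Prop := ∃ i, w i = 1

/-- All rows are proportional to the vector. -/
def Row (w : Fin n → K) (M : Matrix (Fin n) (Fin n) K) : Prop := ∀ a i j, M a i * w j = M a j * w i

theorem row_iff {w : Fin n → K} (hw : Pivot w) (M : Matrix (Fin n) (Fin n) K) :
    Row w M ↔ ∀ c, c ⬝ᵥ w = 0 → M.mulVec c = 0 := by
  obtain ⟨i, hi⟩ := hw
  constructor
  · intro h c hc
    funext a
    have hr : ∀ j, M a j = M a i * w j := fun j => by rw [h a i j, hi, mul_one]
    show ∑ j, M a j * c j = 0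
    simp only [dotProduct] at hc
    calc ∑ j, M a j * c j = M a i * ∑ j, c j * w j := by
          rw [Finset.mul_sum]; exact Finset.sum_congr rfl fun j _ => by rw [hr j]; ring
      _ = 0 := by rw [hc, mul_zero]
  · intro h a l j
    have hc : (Pi.single l (w j) - Pi.single j (w l)) ⬝ᵥ w = 0 := by
      rw [sub_dotProduct, single_dotProduct, single_dotProduct, mul_comm, sub_self]
    have := congrFun (h _ hc) a
    rw [Matrix.mulVec_sub, Matrix.mulVec_single, Matrix.mulVec_single] at this
    simp [sub_eq_zero] at this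
    first
      | exact this
      | linear_combination this

/-- A linear map preserving all hyperplanes is a scalar. -/
theorem exists_scalar (f : (Fin n → K) →ₗ[K] Fin n → K)
    (h : ∀ w, Pivot w → ∀ c, c ⬝ᵥ w = 0 → f c ⬝ᵥ w = 0) : ∃ t : K, ∀ c, f c = t • c := by
  classical
  rcases isEmpty_or_nonempty (Fin n) with he | ⟨⟨i₀⟩⟩
  · exact ⟨0, fun c => funext fun j => isEmptyElim j⟩
  have hd : ∀ j l, l ≠ j → f (Pi.single j 1) l = 0 := fun j l hl => by
    have := h (Pi.single l 1) ⟨l, Pi.single_eq_same l 1⟩ (Pi.single j 1) (by simp [hl.symm])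
    simpa using this
  have heq : ∀ j l, f (Pi.single j 1) j = f (Pi.single l 1) l := fun j l => by
    rcases eq_or_ne j l with rfl | hne
    · rfl
    have := h (Pi.single j 1 + Pi.single l 1) ⟨j, by simp [hne]⟩ (Pi.single j 1 - Pi.single l 1)
      (by simp [sub_dotProduct, hne, hne.symm])
    simpa [dotProduct_add, hd j l hne.symm, hd l j hne, sub_eq_zero, ← sub_eq_add_neg] using this
  refine ⟨f (Pi.single i₀ 1) i₀, fun c => ?_⟩
  funext l
  conv_lhs => rw [pi_eq_sum_univ c]
  rw [map_sum, Finset.sum_apply, Finset.sum_eq_single l]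
  · rw [map_smul, Pi.smul_apply, Pi.smul_apply, smul_eq_mul, smul_eq_mul,
      show (fun j => if l = j then (1 : K) else 0) = Pi.single l 1 by funext j; simp [Pi.single_apply, eq_comm],
      heq l i₀, mul_comm]
  · intro j _ hj
    rw [map_smul, Pi.smul_apply,
      show (fun i => if j = i then (1 : K) else 0) = Pi.single j 1 by funext i; simp [Pi.single_apply, eq_comm],
      hd j l hj.symm, smul_zero]
  · exact fun h' => absurd (Finset.mem_univ l) h'

/-- An endomorphism of the matrix algebra fixing all row ideals is the identity. -/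
theorem eq_id_of_row (θ : Matrix (Fin n) (Fin n) K →ₗ[K] Matrix (Fin n) (Fin n) K) (h1 : θ 1 = 1)
    (hmul : ∀ M N, θ (M * N) = θ M * θ N) (h : ∀ w, Pivot w → ∀ M, Row w M → Row w (θ M)) :
    ∀ M, θ M = M := by
  classical
  have hcol : ∀ p q a j, j ≠ q → θ (Matrix.single p q 1) a j = 0 := fun p q a j hj => by
    have hr : Row (Pi.single q (1 : K)) (Matrix.single p q (1 : K)) := fun a i l => by
      have hrw : ∀ i : Fin n, (Matrix.single p q (1 : K) : Matrix (Fin n) (Fin n) K) a i =
          (if p = a then 1 else 0) * (Pi.single q (1 : K) : Fin n → K) i := fun i => by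
        by_cases ha : p = a <;> simp [ha, Matrix.single_apply, Pi.single_apply, eq_comm]
      rw [hrw, hrw]; ring
    have := h _ ⟨q, Pi.single_eq_same q 1⟩ _ hr a j q
    simpa [hj] using this
  have hdiag : ∀ q, θ (Matrix.single q q 1) = Matrix.single q q 1 := fun q => by
    ext a j
    by_cases hj : j = q
    · subst hj
      have h2 : ∑ l, θ (Matrix.single l l 1) = 1 := by
        rw [← map_sum, ← Matrix.diagonal_one, ← Matrix.sum_single_eq_diagonal] at *
        exact h1
      have h3 := congrFun (congrFun h2 a) j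
      rw [Matrix.sum_apply, Finset.sum_eq_single j (fun l _ hl => hcol l l a j hl.symm)
        (fun h' => absurd (Finset.mem_univ j) h')] at h3
      rw [h3, Matrix.single_apply, Matrix.one_apply]
      simp [eq_comm]
    · rw [hcol q q a j hj, Matrix.single_apply, if_neg (fun h' => hj h'.2.symm)]
  have hpq : ∀ p q, θ (Matrix.single p q 1) = θ (Matrix.single p q 1) p q • Matrix.single p q 1 := fun p q => by
    have hs : Matrix.single p p (1 : K) * Matrix.single p q 1 * Matrix.single q q 1 = Matrix.single p q 1 := by simp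
    ext a j
    conv_lhs => rw [← hs, hmul, hmul, hdiag, hdiag]
    by_cases ha : p = a
    · subst ha
      by_cases hj : q = j
      · subst hj; simp
      · simp [hj]
    · simp [ha]
  have ht : ∀ p q, θ (Matrix.single p q 1) p q = 1 := fun p q => by
    rcases eq_or_ne p q with rfl | hne
    · rw [hdiag]; simp
    have hr : Row (Pi.single q (1 : K) + Pi.single p 1) (Matrix.single p q (1 : K) + Matrix.single p p 1) := fun a i l => by
      have hrw : ∀ i : Fin n, (Matrix.single p q (1 : K) + Matrix.single p p 1 : Matrix (Fin n) (Fin n) K) a i =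
          (if p = a then 1 else 0) * (Pi.single q (1 : K) + Pi.single p 1 : Fin n → K) i := fun i => by
        by_cases ha : p = a <;> simp [ha, Matrix.single_apply, Pi.single_apply, eq_comm]
      rw [hrw, hrw]; ring
    have := h _ ⟨q, by simp [hne]⟩ _ hr p q p
    rw [map_add, hpq p q, hdiag p] at this
    simp [hne, hne.symm] at this
    exact this
  intro M
  conv_lhs => rw [Matrix.matrix_eq_sum_single M]
  conv_rhs => rw [Matrix.matrix_eq_sum_single M]
  rw [map_sum]
  refine Finset.sum_congr rfl fun p _ => ?_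
  rw [map_sum]
  refine Finset.sum_congr rfl fun q _ => ?_
  have e : Matrix.single p q (M p q) = M p q • Matrix.single p q (1 : K) := by simp
  rw [e, map_smul, hpq p q, ht p q, one_smul]

variable {k : Type u} [Field k] [Algebra k K] {A : Type u} [Ring A] [Algebra k A]
  (Φ : K ⊗[k] A ≃ₐ[K] Matrix (Fin n) (Fin n) K) {V : Type u} [AddCommGroup V] [Module k V]
  {r : ℕ} (J : (Fin r → Fin n → K) ≃ₗ[K] K ⊗[k] V)

/-- The vectors all of whose components lie in the hyperplane. -/
def Ker (w : Fin n → K) : Set (K ⊗[k] V) := {x | ∀ a, J.symm x a ⬝ᵥ w = 0}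

/-- A matrix acting on every component. -/
def T (M : Matrix (Fin n) (Fin n) K) : Module.End K (K ⊗[k] V) where
  toFun x := J fun a => M.mulVec (J.symm x a)
  map_add' x y := by rw [← map_add]; congr 1; funext a; simp [Matrix.mulVec_add]
  map_smul' c x := by rw [RingHom.id_apply, ← map_smul]; congr 1; funext a; simp [Matrix.mulVec_smul]

theorem T_apply (M : Matrix (Fin n) (Fin n) K) (C : Fin r → Fin n → K) : T J M (J C) = J fun a => M.mulVec (C a) := by
  show J _ = _
  simp

theorem T_mul (M N : Matrix (Fin n) (Fin n) K) (x : K ⊗[k] V) : T J (M * N) x = T J M (T J N x) := by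
  obtain ⟨C, rfl⟩ := J.surjective x
  rw [T_apply, T_apply, T_apply]
  congr 1; funext a; rw [Matrix.mulVec_mulVec]

theorem T_one (x : K ⊗[k] V) : T J 1 x = x := by
  obtain ⟨C, rfl⟩ := J.surjective x
  rw [T_apply]; simp

theorem T_smul (c : K) (M : Matrix (Fin n) (Fin n) K) (x : K ⊗[k] V) : T J (c • M) x = c • T J M x := by
  obtain ⟨C, rfl⟩ := J.surjective x
  rw [T_apply, T_apply, ← map_smul]
  congr 1; funext a; simp [Matrix.smul_mulVec]

theorem T_add (M N : Matrix (Fin n) (Fin n) K) (x : K ⊗[k] V) : T J (M + N) x = T J M x + T J N x := by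
  obtain ⟨C, rfl⟩ := J.surjective x
  rw [T_apply, T_apply, T_apply, ← map_add]
  congr 1; funext a; simp [Matrix.add_mulVec]

theorem T_injective (hr : r ≠ 0) {M N : Matrix (Fin n) (Fin n) K} (h : ∀ x, T J M x = T J N x) : M = N := by
  classical
  refine Matrix.ext_of_mulVec_single fun j => ?_
  have h0 := h (J fun _ => Pi.single j 1)
  rw [T_apply, T_apply] at h0
  exact congrFun (J.injective h0) ⟨0, Nat.pos_of_ne_zero hr⟩

theorem row_iff_T {w : Fin n → K} (hw : Pivot w) (hr : r ≠ 0) (M : Matrix (Fin n) (Fin n) K) :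
    Row w M ↔ ∀ x ∈ Ker J w, T J M x = 0 := by
  rw [row_iff hw]
  constructor
  · intro h x hx
    show J _ = 0
    rw [show (fun a => M.mulVec (J.symm x a)) = 0 from funext fun a => h _ (hx a), map_zero]
  · intro h c hc
    have h0 := h (J fun _ => c) (fun a => by rw [LinearEquiv.symm_apply_apply]; exact hc)
    rw [T_apply, ← map_zero J] at h0
    exact congrFun (J.injective h0) ⟨0, Nat.pos_of_ne_zero hr⟩

/-- An operator preserving all kernels commutes with the matrices. -/
theorem commute_T (R : Module.End K (K ⊗[k] V)) (hR : ∀ w, Pivot w → ∀ x ∈ Ker J w, R x ∈ Ker J w)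
    (M : Matrix (Fin n) (Fin n) K) (x : K ⊗[k] V) : R (T J M x) = T J M (R x) := by
  classical
  let f : Fin r → Fin r → ((Fin n → K) →ₗ[K] Fin n → K) := fun a b =>
    (LinearMap.proj a) ∘ₗ J.symm.toLinearMap ∘ₗ R ∘ₗ J.toLinearMap ∘ₗ LinearMap.single K (fun _ => Fin n → K) b
  have hf : ∀ a b w, Pivot w → ∀ c, c ⬝ᵥ w = 0 → f a b c ⬝ᵥ w = 0 := fun a b w hw c hc =>
    hR w hw (J (Pi.single b c)) (fun a' => by
      rw [LinearEquiv.symm_apply_apply]
      rcases eq_or_ne a' b with rfl | h
      · rw [Pi.single_eq_same]; exact hc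
      · rw [Pi.single_eq_of_ne h, zero_dotProduct]) a
  choose t ht using fun a b => exists_scalar (f a b) (hf a b)
  have key : ∀ C : Fin r → Fin n → K, J.symm (R (J C)) = fun a => ∑ b, t a b • C b := fun C => by
    funext a
    conv_lhs => rw [← Finset.univ_sum_single C, map_sum, map_sum, map_sum, Finset.sum_apply]
    exact Finset.sum_congr rfl fun b _ => ht a b (C b)
  obtain ⟨C, rfl⟩ := J.surjective x
  apply J.symm.injective
  rw [T_apply, key, show R (J C) = J (J.symm (R (J C))) from (J.apply_symm_apply _).symm, T_apply, key,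
    LinearEquiv.symm_apply_apply]
  funext a
  rw [Matrix.mulVec_sum]
  exact Finset.sum_congr rfl fun b _ => (Matrix.mulVec_smul _ _ _).symm

/-- An operator commuting with all operators preserving the kernels is a matrix. -/
theorem exists_T (Q : Module.End K (K ⊗[k] V))
    (hQ : ∀ R : Module.End K (K ⊗[k] V), (∀ w, Pivot w → ∀ x ∈ Ker J w, R x ∈ Ker J w) → ∀ x, Q (R x) = R (Q x))
    (hr : r ≠ 0) : ∃ M, ∀ x, Q x = T J M x := by
  classical
  let a₀ : Fin r := ⟨0, Nat.pos_of_ne_zero hr⟩
  let g : (Fin n → K) →ₗ[K] Fin n → K :=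
    (LinearMap.proj a₀) ∘ₗ J.symm.toLinearMap ∘ₗ Q ∘ₗ J.toLinearMap ∘ₗ LinearMap.single K (fun _ => Fin n → K) a₀
  let P : Fin r → Fin r → Module.End K (K ⊗[k] V) := fun a b =>
    J.toLinearMap ∘ₗ LinearMap.single K (fun _ => Fin n → K) b ∘ₗ LinearMap.proj a ∘ₗ J.symm.toLinearMap
  have hP : ∀ a b, ∀ w, Pivot w → ∀ x ∈ Ker J w, P a b x ∈ Ker J w := fun a b w _ x hx a' => by
    show J.symm (J (Pi.single b (J.symm x a))) a' ⬝ᵥ w = 0
    rw [LinearEquiv.symm_apply_apply]
    rcases eq_or_ne a' b with rfl | h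
    · rw [Pi.single_eq_same]; exact hx a
    · rw [Pi.single_eq_of_ne h, zero_dotProduct]
  have hPa : ∀ a b C, P a b (J C) = J (Pi.single b (C a)) := fun a b C => by
    show J (Pi.single b (J.symm (J C) a)) = _
    rw [LinearEquiv.symm_apply_apply]
  have key : ∀ b c, J.symm (Q (J (Pi.single b c))) = Pi.single b (g c) := fun b c => by
    have h1 := hQ (P a₀ b) (hP a₀ b) (J (Pi.single a₀ c))
    rw [hPa, Pi.single_eq_same] at h1
    rw [h1, show Q (J (Pi.single a₀ c)) = J (J.symm (Q (J (Pi.single a₀ c)))) from (J.apply_symm_apply _).symm,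
      hPa, LinearEquiv.symm_apply_apply]
    rfl
  refine ⟨LinearMap.toMatrix' g, fun x => ?_⟩
  obtain ⟨C, rfl⟩ := J.surjective x
  apply J.symm.injective
  rw [T_apply, LinearEquiv.symm_apply_apply]
  conv_lhs => rw [← Finset.univ_sum_single C, map_sum, map_sum, map_sum]
  simp only [key]
  funext a
  rw [Finset.univ_sum_single (fun b => g (C b))]
  exact (LinearMap.toMatrix'_mulVec g (C a)).symm

variable (V) in
/-- A field automorphism on the coefficients. -/
def sV (σ : K ≃ₐ[k] K) : K ⊗[k] V ≃ₗ[k] K ⊗[k] V := TensorProduct.congr σ.toLinearEquiv (LinearEquiv.refl k V)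

variable (A) in
/-- A field automorphism on the coefficients of the algebra. -/
def sA (σ : K ≃ₐ[k] K) : K ⊗[k] A ≃ₐ[k] K ⊗[k] A := Algebra.TensorProduct.congr σ AlgEquiv.refl

theorem sV_smul (σ : K ≃ₐ[k] K) (c : K) (x : K ⊗[k] V) : sV V σ (c • x) = σ c • sV V σ x := by
  induction x using TensorProduct.induction_on with
  | zero => simp
  | tmul b v => simp [sV, TensorProduct.smul_tmul']
  | add x y hx hy => rw [smul_add, map_add, map_add, hx, hy, smul_add]

theorem sA_smul (σ : K ≃ₐ[k] K) (c : K) (y : K ⊗[k] A) : sA A σ (c • y) = σ c • sA A σ y := by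
  induction y using TensorProduct.induction_on with
  | zero => simp
  | tmul b v => simp [sA, TensorProduct.smul_tmul']
  | add x y hx hy => rw [smul_add, map_add, map_add, hx, hy, smul_add]

theorem sV_symm (σ : K ≃ₐ[k] K) : ∀ x, sV V σ.symm (sV V σ x) = x := fun x => by
  induction x using TensorProduct.induction_on with
  | zero => simp
  | tmul b v => simp [sV]
  | add x y hx hy => rw [map_add, map_add, hx, hy]

theorem sA_symm (σ : K ≃ₐ[k] K) : ∀ x, sA A σ.symm (sA A σ x) = x := fun x => by
  induction x using TensorProduct.induction_on with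
  | zero => simp
  | tmul b v => simp [sA]
  | add x y hx hy => rw [map_add, map_add, hx, hy]

variable (hr : r ≠ 0)
  (hpt : ∀ (σ : K ≃ₐ[k] K) w', Pivot w' → ∃ w, Pivot w ∧ (∀ x, sV V σ x ∈ Ker J w' ↔ x ∈ Ker J w) ∧
    ∀ y, Row w' (Φ (sA A σ y)) ↔ Row w (Φ y))

include hr hpt in
theorem T_comm_sV (σ : K ≃ₐ[k] K) (y : K ⊗[k] A) (x : K ⊗[k] V) :
    sV V σ (T J (Φ y) x) = T J (Φ (sA A σ y)) (sV V σ x) := by
  let τ := σ.symm
  have hτσ : ∀ z, sV V σ (sV V τ z) = z := fun z => sV_symm τ z
  have hσA : ∀ z, sA A σ (sA A τ z) = z := fun z => sA_symm τ z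
  let ρ : K ⊗[k] A → Module.End K (K ⊗[k] V) := fun y =>
    { toFun := fun x => sV V σ (T J (Φ (sA A τ y)) (sV V τ x))
      map_add' := fun a b => by simp only [map_add]
      map_smul' := fun c a => by
        rw [RingHom.id_apply, sV_smul, map_smul, sV_smul]
        exact congrArg (· • _) (σ.apply_symm_apply c) }
  have hex : ∀ y, ∃ M, ∀ x, ρ y x = T J M x := fun y => by
    refine exists_T J (ρ y) (fun R hR x => ?_) hr
    let R' : Module.End K (K ⊗[k] V) :=
      { toFun := fun z => sV V τ (R (sV V σ z))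
        map_add' := fun a b => by simp only [map_add]
        map_smul' := fun c a => by
          rw [RingHom.id_apply, sV_smul, map_smul, sV_smul]
          exact congrArg (· • _) (σ.symm_apply_apply c) }
    have hR' : ∀ w, Pivot w → ∀ z ∈ Ker J w, R' z ∈ Ker J w := fun w hw z hz => by
      obtain ⟨w'', hw'', h1, -⟩ := hpt τ w hw
      have h2 : sV V σ z ∈ Ker J w'' := (h1 _).1 (by rw [sV_symm]; exact hz)
      exact (h1 _).2 (hR w'' hw'' _ h2)
    show sV V σ (T J _ (sV V τ (R x))) = R (sV V σ (T J _ (sV V τ x)))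
    have h3 := commute_T J R' hR' (Φ (sA A τ y)) (sV V τ x)
    change sV V τ (R (sV V σ (T J _ (sV V τ x)))) = T J _ (sV V τ (R (sV V σ (sV V τ x)))) at h3
    rw [hτσ] at h3
    rw [← h3, hτσ]
  choose θ₀ hθ₀ using hex
  have hadd : ∀ y z x, ρ (y + z) x = ρ y x + ρ z x := fun y z x => by
    show sV V σ _ = sV V σ _ + sV V σ _
    rw [map_add, map_add, T_add, map_add]
  have hsmul : ∀ (c : K) y x, ρ (c • y) x = c • ρ y x := fun c y x => by
    show sV V σ _ = c • sV V σ _
    rw [sA_smul, map_smul, T_smul, sV_smul]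
    exact congrArg (· • _) (σ.apply_symm_apply c)
  let θ : Matrix (Fin n) (Fin n) K →ₗ[K] Matrix (Fin n) (Fin n) K :=
    { toFun := fun M => θ₀ (Φ.symm M)
      map_add' := fun M N => T_injective J hr fun x => by
        rw [← hθ₀, map_add, hadd, T_add, hθ₀, hθ₀]
      map_smul' := fun c M => T_injective J hr fun x => by
        rw [RingHom.id_apply, ← hθ₀, map_smul, hsmul, T_smul, hθ₀] }
  have h1 : θ 1 = 1 := T_injective J hr fun x => by
    show T J (θ₀ (Φ.symm 1)) x = _
    rw [← hθ₀, T_one]
    show sV V σ _ = x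
    rw [map_one, map_one, map_one, T_one, hτσ]
  have hmul : ∀ M N, θ (M * N) = θ M * θ N := fun M N => T_injective J hr fun x => by
    show T J (θ₀ (Φ.symm (M * N))) x = T J (θ₀ (Φ.symm M) * θ₀ (Φ.symm N)) x
    rw [T_mul, ← hθ₀, ← hθ₀, ← hθ₀]
    show sV V σ _ = sV V σ (T J _ (sV V τ (sV V σ _)))
    rw [map_mul, map_mul, map_mul, T_mul, sV_symm]
  have hrow : ∀ w, Pivot w → ∀ M, Row w M → Row w (θ M) := fun w hw M hM => by
    refine (row_iff_T J hw hr _).2 fun z hz => ?_
    show T J (θ₀ (Φ.symm M)) z = 0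
    rw [← hθ₀]
    obtain ⟨w₀, hw₀, h1, h2⟩ := hpt σ w hw
    show sV V σ (T J _ (sV V τ z)) = 0
    rw [(row_iff_T J hw₀ hr _).1 ((h2 _).1 (by rw [hσA, AlgEquiv.apply_symm_apply]; exact hM)) _
      ((h1 _).1 (by rw [hτσ]; exact hz)), map_zero]
  have hid := eq_id_of_row θ h1 hmul hrow (Φ (sA A σ y))
  change θ₀ (Φ.symm (Φ (sA A σ y))) = _ at hid
  rw [← hid, ← hθ₀, AlgEquiv.symm_apply_apply]
  show _ = sV V σ (T J _ (sV V τ (sV V σ x)))
  rw [sV_symm, sA_symm]

variable [IsGalois k K]

theorem exists_of_fixed {x : K ⊗[k] V} (h : ∀ σ, sV V σ x = x) : ∃ v : V, (1 : K) ⊗ₜ[k] v = x := by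
  classical
  let b := Module.Basis.ofVectorSpace k V
  let e := TensorProduct.equivFinsuppOfBasisRight b (M := K)
  have he : ∀ σ z i, e (sV V σ z) i = σ (e z i) := fun σ z i => by
    induction z using TensorProduct.induction_on with
    | zero => simp
    | tmul c v => simp [e, sV, TensorProduct.equivFinsuppOfBasisRight_apply_tmul]
    | add z z' hz hz' => simp [map_add, hz, hz']
  have hfix : ∀ i, ∃ c : k, algebraMap k K c = e x i := fun i => by
    refine IntermediateField.mem_bot.1 ?_
    rw [← InfiniteGalois.fixedField_bot (k := k) (K := K)]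
    intro σ
    show σ.1 (e x i) = e x i
    rw [← he, h]
  choose c hc using hfix
  refine ⟨∑ i ∈ (e x).support, c i • b i, e.injective (Finsupp.ext fun i => ?_)⟩
  rw [TensorProduct.tmul_sum, map_sum, Finsupp.finsetSum_apply]
  simp only [e, TensorProduct.equivFinsuppOfBasisRight_apply_tmul, map_smul, Module.Basis.repr_self,
    Finsupp.mapRange_apply, Finsupp.smul_apply, Finsupp.single_apply]
  rw [Finset.sum_eq_single i (fun j _ hj => by simp [hj]) (fun hi => by
    have : algebraMap k K (c i) = 0 := (hc i).trans (Finsupp.notMem_support_iff.1 hi)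
    simp [(map_eq_zero (algebraMap k K)).1 this])]
  simp [Algebra.smul_def, hc, e]

theorem tmul_one_injective : Function.Injective fun v : V => (1 : K) ⊗ₜ[k] v := by
  classical
  intro v v' h
  let b := Module.Basis.ofVectorSpace k V
  apply b.repr.injective
  ext i
  have := congrArg (fun z => TensorProduct.equivFinsuppOfBasisRight b z i) h
  simpa [TensorProduct.equivFinsuppOfBasisRight_apply_tmul, Algebra.smul_def] using this

include hr hpt in
/-- The algebra acts on the descended space, commuting with the operators preserving all kernels. -/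
theorem exists_act : ∃ φ : A →ₐ[k] Module.End k V,
    ∀ d : Module.End k V, (∀ w, Pivot w → ∀ x ∈ Ker J w, d.baseChange K x ∈ Ker J w) →
      ∀ a, φ a * d = d * φ a := by
  have hfix : ∀ a v, ∃ v', (1 : K) ⊗ₜ[k] v' = T J (Φ (1 ⊗ₜ[k] a)) ((1 : K) ⊗ₜ[k] v) := fun a v =>
    exists_of_fixed fun σ => by
      rw [T_comm_sV Φ J hr hpt]
      simp [sA, sV]
  choose f hf using hfix
  have inj := tmul_one_injective (k := k) (K := K) (V := V)
  let φ : A →ₐ[k] Module.End k V :=
    { toFun := fun a =>
        { toFun := f a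
          map_add' := fun v v' => inj (by
            show (1 : K) ⊗ₜ[k] f a (v + v') = (1 : K) ⊗ₜ[k] (f a v + f a v')
            rw [hf, TensorProduct.tmul_add, map_add, TensorProduct.tmul_add, hf, hf])
          map_smul' := fun c v => inj (by
            show (1 : K) ⊗ₜ[k] f a (c • v) = (1 : K) ⊗ₜ[k] (c • f a v)
            rw [hf, TensorProduct.tmul_smul, TensorProduct.tmul_smul, hf, LinearMap.map_smul_of_tower]) }
      map_one' := LinearMap.ext fun v => inj (by
        show (1 : K) ⊗ₜ[k] f 1 v = (1 : K) ⊗ₜ[k] v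
        rw [hf, ← Algebra.TensorProduct.one_def, map_one, T_one])
      map_mul' := fun a b => LinearMap.ext fun v => inj (by
        show (1 : K) ⊗ₜ[k] f (a * b) v = (1 : K) ⊗ₜ[k] f a (f b v)
        rw [hf, hf, hf, ← T_mul, ← map_mul, Algebra.TensorProduct.tmul_mul_tmul, one_mul])
      map_zero' := LinearMap.ext fun v => inj (by
        show (1 : K) ⊗ₜ[k] f 0 v = (1 : K) ⊗ₜ[k] (0 : V)
        rw [hf, TensorProduct.tmul_zero, map_zero, TensorProduct.tmul_zero,
          ← zero_smul K (0 : Matrix (Fin n) (Fin n) K), T_smul, zero_smul])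
      map_add' := fun a b => LinearMap.ext fun v => inj (by
        show (1 : K) ⊗ₜ[k] f (a + b) v = (1 : K) ⊗ₜ[k] (f a v + f b v)
        rw [hf, TensorProduct.tmul_add, map_add, T_add, TensorProduct.tmul_add, hf, hf])
      commutes' := fun c => LinearMap.ext fun v => inj (by
        show (1 : K) ⊗ₜ[k] f (algebraMap k A c) v = (1 : K) ⊗ₜ[k] (c • v)
        rw [hf, Algebra.algebraMap_eq_smul_one, TensorProduct.tmul_smul, TensorProduct.tmul_smul,
          ← algebraMap_smul K c ((1 : K) ⊗ₜ[k] (1 : A)), map_smul, ← Algebra.TensorProduct.one_def, map_one,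
          T_smul, T_one, algebraMap_smul]) }
  refine ⟨φ, fun d hd a => LinearMap.ext fun v => inj ?_⟩
  show (1 : K) ⊗ₜ[k] f a (d v) = (1 : K) ⊗ₜ[k] d (f a v)
  rw [hf, ← LinearMap.baseChange_tmul, ← LinearMap.baseChange_tmul, hf]
  exact (commute_T J _ hd _ _).symm

end Groth.Agent.ASB.Act
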