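import Groth.Agent.ASB.Inv
import Groth.Agent.InvX.Tensor
import Groth.Agent.KFlatLib.Perfect.Tensor
import Groth.Prelude.Def_PicGrp

/-!
# Isotypical modules and Picard classes
-/

set_option linter.style.haveILetI false
set_option linter.unusedSectionVars false
set_option backward.isDefEq.respectTransparency false
set_option backward.isDefEq.respectTransparency.types false
set_option maxHeartbeats 1000000

universe u v w

open CategoryTheory CategoryTheory.Limits AlgebraicGeometry TopologicalSpace Opposite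

noncomputable section

namespace Groth.Agent.ASB

attribute [local instance] Abelian.hasFiniteBiproducts preservesBinaryBiproducts_of_preservesBiproducts

section Lists

variable {C : Type v} [Category.{u} C] [Abelian C]

theorem sumL_flatten : ∀ ll : List (List C), Nonempty (sumL ll.flatten ≅ sumL (ll.map sumL))
  | [] => ⟨Iso.refl _⟩
  | l :: ll => by
    obtain ⟨e⟩ := sumL_flatten ll
    obtain ⟨a⟩ := sumL_append l ll.flatten
    exact ⟨a ≪≫ biprod.mapIso (Iso.refl _) e⟩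

theorem sumL_map_congr {α : Type*} (f g : α → C) : ∀ l : List α, (∀ a ∈ l, Nonempty (f a ≅ g a)) →
    Nonempty (sumL (l.map f) ≅ sumL (l.map g))
  | [], _ => ⟨Iso.refl _⟩
  | a :: l, h => by
    obtain ⟨e⟩ := h a (List.mem_cons_self ..)
    obtain ⟨e'⟩ := sumL_map_congr f g l fun b hb => h b (List.mem_cons_of_mem _ hb)
    exact ⟨biprod.mapIso e e'⟩

theorem clsL_flatten_map_replicate (Q : ℕ) : ∀ l : List C,
    clsL (l.map (List.replicate Q)).flatten = Q • clsL l
  | [] => by simp [clsL]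
  | X :: l => by
    have h1 : clsL ((X :: l).map (List.replicate Q)).flatten =
        clsL (List.replicate Q X) + clsL (l.map (List.replicate Q)).flatten := by simp [clsL]
    have h2 : clsL (X :: l) = {Quotient.mk (isIsomorphicSetoid C) X} + clsL l := by simp [clsL]
    rw [h1, h2, clsL_flatten_map_replicate Q l, clsL_eq_map_replicate, nsmul_add, Multiset.nsmul_singleton]

end Lists

section Cls

variable {Y : Scheme.{u}} [PicGrp.Law Y]

theorem iso_of_cls {L M : Y.Modules} {hL : PicF.IsInvertible L} {hM : PicF.IsInvertible M}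
    (h : PicGrp.cls L hL = PicGrp.cls M hM) : Nonempty (L ≅ M) := (PicGrp.cls_eq_cls_iff hL hM).1 h

theorem cls_tensor {L M : Y.Modules} (hL : PicF.IsInvertible L) (hM : PicF.IsInvertible M) :
    PicGrp.cls (CohB1.tensorMod L M) (InvX.isInvertible_tensorMod hL hM) = PicGrp.cls L hL * PicGrp.cls M hM :=
  Subtype.ext (PicGrp.cls_mul_cls_val hL hM).symm

theorem cls_tensorPow {L : Y.Modules} (hL : PicF.IsInvertible L) (n : ℕ) :
    PicGrp.cls (CohB1.tensorPow L n) (InvX.isInvertible_tensorPow hL n) = PicGrp.cls L hL ^ n :=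
  Subtype.ext (PicGrp.cls_pow_val hL n).symm

/-- Tensoring with an invertible module keeps indecomposability. -/
theorem indec_tensor {W J : Y.Modules} (hW : Indec W) (hJ : PicF.IsInvertible J) :
    Indec (CohB1.tensorMod W J) := by
  obtain ⟨J', hJ', hc⟩ := PicGrp.exists_eq_cls (PicGrp.cls J hJ)⁻¹
  obtain ⟨i₁⟩ := (PicGrp.cls_mul_cls_eq_one_iff hJ hJ').1 (by rw [← hc, mul_inv_cancel])
  obtain ⟨i₂⟩ := (PicGrp.cls_mul_cls_eq_one_iff hJ' hJ).1 (by rw [← hc, inv_mul_cancel])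
  let F := (DCoh.tensorBi (X := Y)).flip.obj J
  let G := (DCoh.tensorBi (X := Y)).flip.obj J'
  haveI : F.Additive := inferInstance
  haveI : G.Additive := inferInstance
  have back : ∀ {A B : Y.Modules}, (CohB1.tensorMod B A ≅ Coh.structureModule Y) → ∀ M : Y.Modules,
      Nonempty (CohB1.tensorMod (CohB1.tensorMod M B) A ≅ M) := fun {A B} i M =>
    ⟨(((KFlatLib.tensorAssocSch Y).app M).app B).app A ≪≫ (DCoh.tensorBi.obj M).mapIso i ≪≫
      CurveTensor.commIso _ _ ≪≫ CurveTensor.structureTensorIso M⟩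
  obtain ⟨eW⟩ := back i₁ W
  refine ⟨fun h => hW.1 ((G.map_isZero h).of_iso eW.symm), fun A B ⟨φ⟩ => ?_⟩
  obtain ⟨eA⟩ := back i₂ A
  obtain ⟨eB⟩ := back i₂ B
  rcases hW.2 _ _ ⟨eW.symm ≪≫ G.mapIso φ ≪≫ G.mapBiprod A B⟩ with h | h
  · exact Or.inl ((F.map_isZero h).of_iso eA.symm)
  · exact Or.inr ((F.map_isZero h).of_iso eB.symm)

end Cls

variable {k : Type u} [Field k] {X : Scheme.{u}} (p : X ⟶ Spec (CommRingCat.of k))
  (K : Type u) [Field K] [Algebra k K]

/-- The module becomes `d` copies of an invertible module of the given class. -/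
def Typ [PicGrp.Law (BrSev.bc p K)] (G : X.Modules) (c : PicLoc.PicSet (BrSev.bc p K)) (d : ℕ) : Prop :=
  ∃ (N : (BrSev.bc p K).Modules) (hN : PicF.IsInvertible N),
    PicGrp.cls N hN = c ∧ Nonempty (bcF p K G ≅ sumL (List.replicate d N))

variable {p K}
variable [PicGrp.Law (BrSev.bc p K)]

theorem Typ.iso {G : X.Modules} {c : PicLoc.PicSet (BrSev.bc p K)} {d : ℕ} (h : Typ p K G c d)
    {N : (BrSev.bc p K).Modules} {hN : PicF.IsInvertible N} (hc : PicGrp.cls N hN = c) :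
    Nonempty (bcF p K G ≅ sumL (List.replicate d N)) := by
  obtain ⟨N', hN', hc', ⟨e⟩⟩ := h
  obtain ⟨a⟩ := iso_of_cls (hc'.trans hc.symm)
  obtain ⟨b⟩ := replicate_congr a d
  exact ⟨e ≪≫ b⟩

theorem Typ.tensor {G G' : X.Modules} {c c' : PicLoc.PicSet (BrSev.bc p K)} {d d' : ℕ} (h : Typ p K G c d)
    (h' : Typ p K G' c' d') : Typ p K (CohB1.tensorMod G G') (c * c') (d * d') := by
  obtain ⟨N, hN, rfl, ⟨e⟩⟩ := h
  obtain ⟨N', hN', rfl, ⟨e'⟩⟩ := h'
  obtain ⟨a⟩ := pullback_tensor (BrSev.proj p K) G G'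
  obtain ⟨b⟩ := tensor_congr e e'
  obtain ⟨f⟩ := tensor_replicate N N' d d'
  exact ⟨_, InvX.isInvertible_tensorMod hN hN', cls_tensor hN hN', ⟨a ≪≫ b ≪≫ f⟩⟩

theorem typ_invertible {J : X.Modules} (hJ : PicF.IsInvertible J) :
    Typ p K J (PicGrp.cls (bcF p K J) (PicClLib.isInvertible_pullback (BrSev.proj p K) hJ)) 1 :=
  ⟨_, _, rfl, ⟨isoBiprodZero isZero_top⟩⟩

variable [IsProper p]

theorem Typ.not_isZero [ConnectedSpace ↥(BrSev.bc p K)] {G : X.Modules} {c : PicLoc.PicSet (BrSev.bc p K)} {d : ℕ}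
    (h : Typ p K G c d) (hd : d ≠ 0) : ¬ IsZero G := fun h0 => by
  obtain ⟨N, hN, -, ⟨e⟩⟩ := h
  have h1 : IsZero (sumL (List.replicate d N)) :=
    ((Scheme.Modules.pullback (BrSev.proj p K)).map_isZero h0).of_iso e.symm
  obtain ⟨d', rfl⟩ := Nat.exists_eq_succ_of_ne_zero hd
  refine (indec_invertible hN).1 ((IsZero.iff_id_eq_zero N).2 ?_)
  have := congrArg (fun t => iS N (List.replicate d' N) ≫ t ≫ pS N (List.replicate d' N))
    ((IsZero.iff_id_eq_zero _).1 h1)
  erw [Category.id_comp, iS_pS] at this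
  simpa using this

/-- The class and the multiplicity are determined. -/
theorem Typ.unique [ConnectedSpace ↥(BrSev.bc p K)] {G : X.Modules} {c c' : PicLoc.PicSet (BrSev.bc p K)} {d d' : ℕ}
    (h : Typ p K G c d) (h' : Typ p K G c' d') : d = d' ∧ (d ≠ 0 → c = c') := by
  haveI : IsNoetherian (BrSev.bc p K) := isNoetherian_of_proper (BrSev.bcTo p K)
  obtain ⟨N, hN, rfl, ⟨e⟩⟩ := h
  obtain ⟨N', hN', rfl, ⟨e'⟩⟩ := h'
  letI : (BrSev.bc p K).Over (Spec (CommRingCat.of K)) := ovrK p K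
  haveI : IsProper (BrSev.bc p K ↘ Spec (CommRingCat.of K)) := inferInstanceAs (IsProper (BrSev.bcTo p K))
  haveI := finite_hom (k := K) (BrSev.bc p K) (CurveDeg.isCoh_of_isInvertible hN) (CurveDeg.isCoh_of_isInvertible hN)
  haveI := finite_sumL K N d
  have h := clsL_eq K (List.replicate d N) (List.replicate d' N')
    (fun Z hZ => (List.eq_of_mem_replicate hZ).symm ▸ indec_invertible hN)
    (fun Z hZ => (List.eq_of_mem_replicate hZ).symm ▸ indec_invertible hN') ⟨e.symm ≪≫ e'⟩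
  rw [clsL_eq_map_replicate, clsL_eq_map_replicate] at h
  refine ⟨by simpa using congrArg Multiset.card h, fun hd => (PicGrp.cls_eq_cls_iff hN hN').2 ?_⟩
  have hm : Quotient.mk (isIsomorphicSetoid _) N ∈ Multiset.replicate d' (Quotient.mk (isIsomorphicSetoid _) N') :=
    h ▸ Multiset.mem_replicate.2 ⟨hd, rfl⟩
  exact Quotient.exact (Multiset.mem_replicate.1 hm).2

variable [Algebra.IsAlgebraic k K] [ConnectedSpace ↥(BrSev.bc p K)]

/-- An isotypical module is a multiple of an indecomposable one of the same class. -/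
theorem Typ.exists_indec {G : X.Modules} {c : PicLoc.PicSet (BrSev.bc p K)} {d : ℕ} (hG : FlatMod.IsFinLocFree G)
    (h : Typ p K G c d) (hd : d ≠ 0) :
    ∃ (W : X.Modules) (a : ℕ), a ≠ 0 ∧ FlatMod.IsFinLocFree W ∧ Indec W ∧ Typ p K W c a := by
  haveI := isNoetherian_of_proper p
  haveI : IsNoetherian (BrSev.bc p K) := isNoetherian_of_proper (BrSev.bcTo p K)
  have h0 := h.not_isZero hd
  obtain ⟨N, hN, rfl, ⟨e⟩⟩ := h
  obtain ⟨W, n, -, hW, -, i, q, a, hiq, ⟨ea⟩⟩ := exists_pow_of_isotypical p K (CurveDeg.isCoh_of_isFinLocFree hG) h0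
    (CurveDeg.isCoh_of_isInvertible hN) (indec_invertible hN) e
  exact ⟨W, a, replicate_pos (fun hz => hW.1 (isZero_of_bc p K
      (isCoh_of_retract (CurveDeg.isCoh_of_isFinLocFree hG) i q hiq).1 hz)) ea,
    isFinLocFree_of_retract hG i q hiq, hW, N, hN, rfl, ⟨ea⟩⟩

theorem Typ.iso_of_indec {W W' : X.Modules} {c : PicLoc.PicSet (BrSev.bc p K)} {a a' : ℕ} (hW : Coh.IsCoh W)
    (hW' : Coh.IsCoh W') (hi : Indec W) (hi' : Indec W') (h : Typ p K W c a) (h' : Typ p K W' c a') :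
    Nonempty (W ≅ W') := by
  obtain ⟨N, hN, hc, ⟨e⟩⟩ := h
  obtain ⟨e'⟩ := h'.iso hc
  exact iso_of_isotypical p K hW hW' hi hi' N e e'

/-- A module split into invertible modules whose classes all occur as isotypical classes is isotypical. -/
theorem exists_typ_of_split {E : X.Modules} (hE : Coh.IsCoh E) (hEi : Indec E) {n : ℕ}
    (Ls : Fin n → (BrSev.bc p K).Modules) (hLs : ∀ i, PicF.IsInvertible (Ls i))
    (e : bcF p K E ≅ sumL (List.ofFn Ls))
    (hW : ∀ i, ∃ (W : X.Modules) (a : ℕ), a ≠ 0 ∧ Coh.IsCoh W ∧ Indec W ∧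
      Typ p K W (PicGrp.cls (Ls i) (hLs i)) a) :
    ∃ i a, a ≠ 0 ∧ Typ p K E (PicGrp.cls (Ls i) (hLs i)) a := by
  classical
  haveI := isNoetherian_of_proper p
  choose W a ha hWc hWi hWt using hW
  let Q := ∏ i, a i
  have hQ : Q ≠ 0 := Finset.prod_ne_zero_iff.2 fun i _ => ha i
  let ll : List (List X.Modules) := List.ofFn fun i => List.replicate (Q / a i) (W i)
  have hmem : ∀ Z ∈ ll.flatten, ∃ i, Z = W i := fun Z hZ => by
    obtain ⟨l, hl, hZl⟩ := List.mem_flatten.1 hZ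
    obtain ⟨i, rfl⟩ := List.mem_ofFn.1 hl
    exact ⟨i, List.eq_of_mem_replicate hZl⟩
  have hcoh : Coh.IsCoh (sumL ll.flatten) := isCoh_sumL _ fun Z hZ => by
    obtain ⟨i, rfl⟩ := hmem Z hZ
    exact hWc i
  obtain ⟨b1⟩ := bc_replicate p K E Q
  obtain ⟨b2⟩ := replicate_congr e Q
  obtain ⟨b3⟩ := sumL_replicate (List.ofFn Ls) _ (Iso.refl (sumL (List.ofFn Ls))) Q
  obtain ⟨b4⟩ := sumL_of_clsL (List.replicate Q (List.ofFn Ls)).flatten
    ((List.ofFn Ls).map (List.replicate Q)).flatten (by rw [clsL_replicate, clsL_flatten_map_replicate])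
  obtain ⟨b5⟩ := sumL_flatten ((List.ofFn Ls).map (List.replicate Q))
  obtain ⟨c1⟩ := sumL_flatten ll
  obtain ⟨c2⟩ := bc_sumL p K (ll.map sumL)
  obtain ⟨c3⟩ := sumL_map_congr (fun i => bcF p K (sumL (List.replicate (Q / a i) (W i))))
    (fun i => sumL (List.replicate Q (Ls i))) (List.finRange n) fun i _ => by
      obtain ⟨u⟩ := bc_replicate p K (W i) (Q / a i)
      obtain ⟨ei⟩ := (hWt i).iso (hN := hLs i) rfl
      obtain ⟨u'⟩ := replicate_congr ei (Q / a i)
      obtain ⟨u''⟩ := replicate_replicate (Ls i) (Q / a i) (a i)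
      refine ⟨u ≪≫ u' ≪≫ u'' ≪≫ eqToIso ?_⟩
      rw [Nat.div_mul_cancel (Finset.dvd_prod_of_mem a (Finset.mem_univ i))]
  obtain ⟨eiso⟩ := iso_of_bc_iso p K (isCoh_replicate hE Q) hcoh
    (b1 ≪≫ b2 ≪≫ b3 ≪≫ b4 ≪≫ b5 ≪≫
      eqToIso (by simp [List.ofFn_eq_map, List.map_map, Function.comp_def]) ≪≫ c3.symm ≪≫
      eqToIso (by simp [ll, List.ofFn_eq_map, List.map_map, Function.comp_def]) ≪≫ c2.symm ≪≫
      (Scheme.Modules.pullback (BrSev.proj p K)).mapIso c1.symm)
  letI := ovr p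
  haveI := finite_end p hE
  haveI := finite_sumL k E Q
  have h := clsL_eq k (List.replicate Q E) ll.flatten (fun Z hZ => (List.eq_of_mem_replicate hZ).symm ▸ hEi)
    (fun Z hZ => by obtain ⟨i, rfl⟩ := hmem Z hZ; exact hWi i) ⟨eiso⟩
  rw [clsL_eq_map_replicate] at h
  have hE' : Quotient.mk (isIsomorphicSetoid _) E ∈ clsL ll.flatten :=
    h ▸ Multiset.mem_replicate.2 ⟨hQ, rfl⟩
  simp only [clsL, Multiset.mem_coe, List.mem_map] at hE'
  obtain ⟨Z, hZ, hq⟩ := hE'
  obtain ⟨i, rfl⟩ := hmem Z hZ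
  obtain ⟨φ⟩ := Quotient.exact hq
  obtain ⟨N, hN, hc, ⟨eN⟩⟩ := hWt i
  exact ⟨i, a i, ha i, N, hN, hc, ⟨(Scheme.Modules.pullback (BrSev.proj p K)).mapIso φ.symm ≪≫ eN⟩⟩

end Groth.Agent.ASB
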