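import Groth.Agent.ASB.Sigma
import Groth.Agent.ProjUPX.Sections
import Groth.Agent.ProjUPX.Unique
import Groth.Agent.InvX.Tensor
import Groth.Agent.SBSplit.Chart
import Groth.Agent.ExtShX.LinearHom
import Groth.Agent.S0843
import Groth.Agent.ComodLib.GradedAug

/-!
# Linear forms on projective space vanishing at rational points
-/

set_option linter.style.haveILetI false
set_option linter.unusedSectionVars false
set_option backward.isDefEq.respectTransparency false
set_option backward.isDefEq.respectTransparency.types false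
set_option maxHeartbeats 1000000

universe u

open CategoryTheory CategoryTheory.Limits AlgebraicGeometry TopologicalSpace Opposite

noncomputable section

namespace Groth.Agent.ASB

variable {L : Type u} [Field L] {m : ℕ}

/-- Projective space over its base. -/
abbrev ovrP (m : ℕ) (L : Type u) [Field L] : (CohB1.ProjSpace m L).Over (Spec (CommRingCat.of L)) :=
  ⟨CohB1.ProjSpace.toSpec m L⟩

/-- The morphism to `O(1)` of a linear form. -/
def lform (m : ℕ) (L : Type u) [Field L] : letI := ovrP m L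
    (Fin (m + 1) → L) →ₗ[L]
      (Coh.structureModule (CohB1.ProjSpace m L) ⟶ Twist.twistProjSpace m L 1) :=
  letI := ovrP m L
  Fintype.linearCombination L (fun j => InvX.ofSect (ProjUP.coord m L j : Γ(Twist.twistProjSpace m L 1, ⊤)))

section Value

variable {S Y : Scheme.{u}} (s : S ⟶ Y)

/-- A morphism out of the structure module is determined by its value at one. -/
theorem hom_structure_ext {M : Y.Modules} {φ ψ : Coh.structureModule Y ⟶ M}
    (h : φ.app ⊤ (1 : Γ(Y, ⊤)) = ψ.app ⊤ (1 : Γ(Y, ⊤))) : φ = ψ := by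
  refine Scheme.Modules.hom_ext _ _ fun V => ?_
  ext a
  have e : ∀ χ : Coh.structureModule Y ⟶ M, χ.app V (show Γ(Y, V) from a) =
      (show Γ(Y, V) from a) • AModX.res M (le_top : V ≤ ⊤) (χ.app ⊤ (1 : Γ(Y, ⊤))) := fun χ => by
    rw [← AModX.app_res, ← Scheme.Modules.Hom.app_smul]
    congr 1
    show (show Γ(Y, V) from a) = (show Γ(Y, V) from a) * Y.presheaf.map (homOfLE le_top).op 1
    rw [map_one, mul_one]
  exact (e φ).trans ((congrArg _ (congrArg _ h)).trans (e ψ).symm)

/-- The value at the pulled back one. -/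
def lam {N : S.Modules} (f : (Scheme.Modules.pullback s).obj (Coh.structureModule Y) ⟶ N) : Γ(N, s ⁻¹ᵁ ⊤) :=
  f.app (s ⁻¹ᵁ ⊤) (InvX.pullElt s (M := Coh.structureModule Y) (U := ⊤) (1 : Γ(Y, ⊤)))

theorem lam_injective {N : S.Modules} : Function.Injective (lam s (N := N)) := fun f g h => by
  apply ((Scheme.Modules.pullbackPushforwardAdjunction s).homEquiv _ _).injective
  refine hom_structure_ext ?_
  rw [Adjunction.homEquiv_unit, Adjunction.homEquiv_unit]
  exact h

theorem lam_map {M : Y.Modules} (φ : Coh.structureModule Y ⟶ M) :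
    lam s ((Scheme.Modules.pullback s).map φ) = InvX.pullElt s (φ.app ⊤ (1 : Γ(Y, ⊤))) :=
  congr($((Scheme.Modules.pullbackPushforwardAdjunction s).unit.naturality φ).app ⊤ (1 : Γ(Y, ⊤))).symm

end Value

open ProjPt (crd cst crd_self X_mem)

variable (i : Fin (m + 1)) (a : SBSplit.Ch (K := L) i →+* L)

/-- A rational point in a chart. -/
abbrev chartPt : Spec (CommRingCat.of L) ⟶ CohB1.ProjSpace m L :=
  Spec.map (CommRingCat.ofHom a) ≫ SBSplit.ι i

theorem chartPt_toSpec (ha : a.comp (cst i) = RingHom.id L) :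
    chartPt i a ≫ CohB1.ProjSpace.toSpec m L = 𝟙 _ := by
  show Spec.map (CommRingCat.ofHom a) ≫ SBSplit.ι i ≫ SBSplit.σP = _
  rw [SBSplit.ι_toSpec, ← Spec.map_comp, ← CommRingCat.ofHom_comp, ha, CommRingCat.ofHom_id, Spec.map_id]

theorem top_le_chartPt : (⊤ : (Spec (CommRingCat.of L)).Opens) ≤
    chartPt i a ⁻¹ᵁ Proj.basicOpen (CohB1.polyGrading m L) (MvPolynomial.X i) := by
  intro y _
  show (chartPt i a) y ∈ Proj.basicOpen (CohB1.polyGrading m L) (MvPolynomial.X i)
  rw [← Proj.opensRange_awayι (CohB1.polyGrading m L) (MvPolynomial.X i) (X_mem i) one_pos]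
  exact ⟨(Spec.map (CommRingCat.ofHom a)) y, rfl⟩

theorem ratio_chartPt (j : Fin (m + 1)) :
    ProjUPX.ratioOf (chartPt i a) (X_mem j) (X_mem i) (top_le_chartPt i a) =
      (Scheme.ΓSpecIso (CommRingCat.of L)).inv (a (crd i j)) := by
  have e1 : (⊤ : (Spec (CommRingCat.of (SBSplit.Ch (K := L) i))).Opens) ≤
      SBSplit.ι i ⁻¹ᵁ Proj.basicOpen (CohB1.polyGrading m L) (MvPolynomial.X i) := by
    rw [← Proj.opensRange_awayι (CohB1.polyGrading m L) (MvPolynomial.X i) (X_mem i) one_pos,
      Scheme.Hom.preimage_opensRange]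
  have h1 := ConcreteCategory.congr_hom (ProjPt.awayι_appLE (CohB1.polyGrading m L) (X_mem i) one_pos e1)
    (crd (R := L) i j)
  rw [ProjUPX.ratioOf, ← Scheme.Hom.appLE_comp_appLE (Spec.map (CommRingCat.ofHom a)) (SBSplit.ι i) _ ⊤ ⊤ e1 le_top]
  show (Spec.map (CommRingCat.ofHom a)).appLE ⊤ ⊤ le_top ((SBSplit.ι i).appLE _ ⊤ e1
    ((Proj.awayToSection _ _).hom (crd (R := L) i j))) = _
  rw [CommRingCat.comp_apply] at h1
  erw [h1]
  rw [show (Spec.map (CommRingCat.ofHom a)).appLE ⊤ ⊤ le_top = (Spec.map (CommRingCat.ofHom a)).appTop from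
    (Scheme.Hom.app_eq_appLE _ (U := ⊤)).symm]
  exact (ConcreteCategory.congr_hom (Scheme.ΓSpecIso_inv_naturality (CommRingCat.ofHom a)) (crd (R := L) i j)).symm

/-- A linear form vanishes at a point exactly when it kills its coordinates. -/
theorem map_lform_eq_zero_iff (ha : a.comp (cst i) = RingHom.id L) (c : Fin (m + 1) → L) :
    (Scheme.Modules.pullback (chartPt i a)).map (lform m L c) = 0 ↔ ∑ j, c j * a (crd i j) = 0 := by
  letI := ovrP m L
  let s := chartPt i a
  let ρ : L →+* Γ(Spec (CommRingCat.of L), ⊤) := (Scheme.ΓSpecIso (CommRingCat.of L)).inv.hom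
  let P := (Scheme.Modules.pullback s).obj (Twist.twistProjSpace m L 1)
  let G : Fin (m + 1) → Γ(P, ⊤) := fun j => ProjUPX.pullG s (X_mem j)
  have hsc : ∀ b : L, s.appTop (Coh.toGlobal (CohB1.ProjSpace.toSpec m L) b) = ρ b := fun b => by
    rw [← KLin.toGlobal_comp, chartPt_toSpec i a ha]
    show (Scheme.Hom.appTop (𝟙 (Spec (CommRingCat.of L)))) _ = _
    rw [Scheme.Hom.id_appTop]
    rfl
  have hval : lam s ((Scheme.Modules.pullback s).map (lform m L c)) = (∑ j, ρ (c j) • G j : Γ(P, ⊤)) := by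
    rw [lam_map]
    have h1 : (lform m L c).app ⊤ (1 : Γ(CohB1.ProjSpace m L, ⊤)) =
        ∑ j, (show Γ(CohB1.ProjSpace m L, ⊤) from Coh.toGlobal (CohB1.ProjSpace.toSpec m L) (c j)) •
          (show Γ(Twist.twistProjSpace m L 1, ⊤) from ProjUP.coord m L j) := by
      let ev : (Coh.structureModule (CohB1.ProjSpace m L) ⟶ Twist.twistProjSpace m L 1) →+
          Γ(Twist.twistProjSpace m L 1, ⊤) :=
        AddMonoidHom.mk' (fun φ => φ.app ⊤ (1 : Γ(CohB1.ProjSpace m L, ⊤))) fun φ ψ => rfl
      show ev (lform m L c) = _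
      rw [lform, Fintype.linearCombination_apply, map_sum]
      refine Finset.sum_congr rfl fun j _ => ?_
      show (c j • InvX.ofSect (show Γ(Twist.twistProjSpace m L 1, ⊤) from ProjUP.coord m L j)).app ⊤ _ = _
      rw [KLin.smul_app_apply]
      refine congrArg₂ (· • ·) ?_ (InvX.one_ofSect _)
      exact ConcreteCategory.congr_hom ((CohB1.ProjSpace m L).presheaf.map_id (op ⊤)) _
    rw [h1]
    let η : Twist.twistProjSpace m L 1 ⟶ (Scheme.Modules.pushforward s).obj P :=
      (Scheme.Modules.pullbackPushforwardAdjunction s).unit.app _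
    show η.app ⊤ _ = _
    rw [map_sum]
    refine Finset.sum_congr rfl fun j _ => ?_
    rw [Scheme.Modules.Hom.app_smul]
    show (show Γ(Spec (CommRingCat.of L), ⊤) from s.appTop (Coh.toGlobal (CohB1.ProjSpace.toSpec m L) (c j))) • G j = _
    rw [show (show Γ(Spec (CommRingCat.of L), ⊤) from s.appTop (Coh.toGlobal (CohB1.ProjSpace.toSpec m L) (c j))) = ρ (c j)
      from hsc (c j)]
  have hG : ∀ j, G j = ρ (a (crd i j)) • G i := fun j => by
    have h := ProjUPX.res_pullG s (X_mem (R := L) j) (X_mem i) (top_le_chartPt i a)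
    rw [AModX.res_self, AModX.res_self, ratio_chartPt] at h
    exact h
  have hfr : ∀ t : L, ρ t • G i = 0 → t = 0 := fun t ht => by
    have hf := ProjUPX.isFrame_pullG s (X_mem (R := L) i)
    have h0 : ρ t = 0 := hf.coord_unique (top_le_chartPt i a) (by
      rw [AModX.res_res, AModX.res_self, zero_smul]; exact ht)
    exact (map_eq_zero_iff ρ (ConcreteCategory.bijective_of_isIso (Scheme.ΓSpecIso (CommRingCat.of L)).inv).1).1 h0
  have hsum : (∑ j, ρ (c j) • G j : Γ(P, ⊤)) = ρ (∑ j, c j * a (crd i j)) • G i := by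
    rw [map_sum, Finset.sum_smul]
    refine Finset.sum_congr rfl fun j _ => ?_
    rw [hG j, map_mul, mul_smul]
  constructor
  · intro h
    refine hfr _ (hsum.symm.trans (hval.symm.trans ?_))
    rw [h]
    rfl
  · intro h
    apply lam_injective s
    rw [hval, hsum, h, map_zero, zero_smul]
    rfl

/-- The point with given coordinates. -/
theorem exists_chartPt (w : Fin (m + 1) → L) (hw : w i = 1) :
    ∃ a : SBSplit.Ch (K := L) i →+* L, a.comp (cst i) = RingHom.id L ∧ ∀ j, a (crd i j) = w j :=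
  ⟨SBSplit.evC (RingHom.id L) w i hw, SBSplit.evC_cst _ _ _ _, fun j => SBSplit.evC_crd _ _ _ _ _⟩

theorem lform_injective : Function.Injective (lform m L) := by
  classical
  letI := ovrP m L
  rw [← LinearMap.ker_eq_bot, LinearMap.ker_eq_bot']
  intro c hc
  funext j
  obtain ⟨a, ha, hw⟩ := exists_chartPt j (Pi.single j (1 : L) : Fin (m + 1) → L) (Pi.single_eq_same j 1)
  have h := (map_lform_eq_zero_iff j a ha c).1 (by rw [hc, Functor.map_zero])
  simpa [hw, Pi.single_apply] using h

theorem finrank_hom_one (m : ℕ) (L : Type u) [Field L] :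
    letI := ovrP m L
    Module.Finite L (Coh.structureModule (CohB1.ProjSpace m L) ⟶ Twist.twistProjSpace m L 1) ∧
    Module.finrank L (Coh.structureModule (CohB1.ProjSpace m L) ⟶ Twist.twistProjSpace m L 1) = m + 1 := by
  letI := ovrP m L
  obtain ⟨e₁⟩ := ExtShX.exists_hom_HH0 (A := L) (Twist.twistProjSpace m L 1)
  obtain ⟨e₂⟩ := S0843.result L m 1
  have hh := (ComodLib.GradedAug.finrank_homogeneous (k := L) (m + 1) 1).2
  have hfin := (ComodLib.GradedAug.finrank_homogeneous (k := L) (m + 1) 1).1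
  refine ⟨Module.Finite.equiv (e₁.trans e₂).symm, ?_⟩
  rw [(e₁.trans e₂).finrank_eq, hh]
  simp

theorem lform_bijective : Function.Bijective (lform m L) := by
  letI := ovrP m L
  obtain ⟨hfin, hd⟩ := finrank_hom_one m L
  exact ⟨lform_injective, (LinearMap.injective_iff_surjective_of_finrank_eq_finrank
    (by rw [hd, Module.finrank_fintype_fun_eq_card, Fintype.card_fin])).1 lform_injective⟩

end Groth.Agent.ASB
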