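import Groth.Agent.ASB.Pic

/-!
# Modules that split over the closure into isotypical classes
-/

set_option linter.style.haveILetI false
set_option linter.unusedSectionVars false
set_option backward.isDefEq.respectTransparency false
set_option backward.isDefEq.respectTransparency.types false
set_option maxHeartbeats 1000000

universe u v

open CategoryTheory CategoryTheory.Limits AlgebraicGeometry TopologicalSpace Opposite

noncomputable section

namespace Groth.Agent.ASB

attribute [local instance] Abelian.hasFiniteBiproducts preservesBinaryBiproducts_of_preservesBiproducts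

variable {k : Type u} [Field k] {X : Scheme.{u}} (p : X ⟶ Spec (CommRingCat.of k))
  (K : Type u) [Field K] [Algebra k K] [IsProper p] [Algebra.IsAlgebraic k K]

/-- If the summands upstairs are the types of indecomposable modules, those modules are the summands downstairs. -/
theorem exists_iso_of_split {E : X.Modules} (hE : Coh.IsCoh E) (l : List X.Modules)
    (hl : ∀ Z ∈ l, Indec Z) (eE : E ≅ sumL l) {s : ℕ} (Ls : Fin s → (BrSev.bc p K).Modules)
    (eK : bcF p K E ≅ sumL (List.ofFn Ls)) (W : Fin s → X.Modules) (a : Fin s → ℕ) (ha : ∀ i, a i ≠ 0)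
    (hWc : ∀ i, Coh.IsCoh (W i)) (hWi : ∀ i, Indec (W i))
    (hWt : ∀ i, Nonempty (bcF p K (W i) ≅ sumL (List.replicate (a i) (Ls i)))) :
    ∀ Z ∈ l, ∃ i, Nonempty (Z ≅ W i) := by
  classical
  haveI := isNoetherian_of_proper p
  let Q := ∏ i, a i
  have hQ : Q ≠ 0 := Finset.prod_ne_zero_iff.2 fun i _ => ha i
  let ll : List (List X.Modules) := List.ofFn fun i => List.replicate (Q / a i) (W i)
  have hmem : ∀ Z ∈ ll.flatten, ∃ i, Z = W i := fun Z hZ => by
    obtain ⟨l', hl', hZl⟩ := List.mem_flatten.1 hZ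
    obtain ⟨i, rfl⟩ := List.mem_ofFn.1 hl'
    exact ⟨i, List.eq_of_mem_replicate hZl⟩
  have hcoh : Coh.IsCoh (sumL ll.flatten) := isCoh_sumL _ fun Z hZ => by
    obtain ⟨i, rfl⟩ := hmem Z hZ
    exact hWc i
  obtain ⟨b1⟩ := bc_replicate p K E Q
  obtain ⟨b2⟩ := replicate_congr eK Q
  obtain ⟨b3⟩ := sumL_replicate (List.ofFn Ls) _ (Iso.refl (sumL (List.ofFn Ls))) Q
  obtain ⟨b4⟩ := sumL_of_clsL (List.replicate Q (List.ofFn Ls)).flatten
    ((List.ofFn Ls).map (List.replicate Q)).flatten (by rw [clsL_replicate, clsL_flatten_map_replicate])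
  obtain ⟨b5⟩ := sumL_flatten ((List.ofFn Ls).map (List.replicate Q))
  obtain ⟨c1⟩ := sumL_flatten ll
  obtain ⟨c2⟩ := bc_sumL p K (ll.map sumL)
  obtain ⟨c3⟩ := sumL_map_congr (fun i => bcF p K (sumL (List.replicate (Q / a i) (W i))))
    (fun i => sumL (List.replicate Q (Ls i))) (List.finRange s) fun i _ => by
      obtain ⟨u⟩ := bc_replicate p K (W i) (Q / a i)
      obtain ⟨ei⟩ := hWt i
      obtain ⟨u'⟩ := replicate_congr ei (Q / a i)
      obtain ⟨u''⟩ := replicate_replicate (Ls i) (Q / a i) (a i)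
      refine ⟨u ≪≫ u' ≪≫ u'' ≪≫ eqToIso ?_⟩
      rw [Nat.div_mul_cancel (Finset.dvd_prod_of_mem a (Finset.mem_univ i))]
  obtain ⟨eiso⟩ := iso_of_bc_iso p K (isCoh_replicate hE Q) hcoh
    (b1 ≪≫ b2 ≪≫ b3 ≪≫ b4 ≪≫ b5 ≪≫
      eqToIso (by simp [List.ofFn_eq_map, List.map_map, Function.comp_def]) ≪≫ c3.symm ≪≫
      eqToIso (by simp [ll, List.ofFn_eq_map, List.map_map, Function.comp_def]) ≪≫ c2.symm ≪≫
      (Scheme.Modules.pullback (BrSev.proj p K)).mapIso c1.symm)
  obtain ⟨r1⟩ := sumL_replicate l E eE Q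
  letI := ovr p
  haveI : Module.Finite k (sumL (List.replicate Q l).flatten ⟶ sumL (List.replicate Q l).flatten) := by
    haveI := finite_end p hE
    haveI := finite_sumL k E Q
    exact finite_of_retract k r1.inv r1.hom r1.inv_hom_id
  have h := clsL_eq k (List.replicate Q l).flatten ll.flatten
    (fun Z hZ => by
      obtain ⟨l', hl', hZl⟩ := List.mem_flatten.1 hZ
      exact hl Z (List.eq_of_mem_replicate hl' ▸ hZl))
    (fun Z hZ => by obtain ⟨i, rfl⟩ := hmem Z hZ; exact hWi i) ⟨r1.symm ≪≫ eiso⟩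
  intro Z hZ
  have hZ' : Quotient.mk (isIsomorphicSetoid _) Z ∈ clsL ll.flatten := by
    rw [← h, clsL_replicate, Multiset.mem_nsmul]
    exact ⟨hQ, Multiset.mem_coe.2 (List.mem_map_of_mem hZ)⟩
  simp only [clsL, Multiset.mem_coe, List.mem_map] at hZ'
  obtain ⟨Z', hZ', hq⟩ := hZ'
  obtain ⟨i, rfl⟩ := hmem Z' hZ'
  obtain ⟨φ⟩ := Quotient.exact hq
  exact ⟨i, ⟨φ.symm⟩⟩

end Groth.Agent.ASB
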