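import Groth.Agent.ASB.TwDescent
import Groth.Agent.ASB.SplitGen

/-!
# Modules that split over the closure on a twisted projective space
-/

set_option linter.style.haveILetI false
set_option linter.unusedSectionVars false
set_option backward.isDefEq.respectTransparency false
set_option backward.isDefEq.respectTransparency.types false
set_option maxHeartbeats 1000000

universe u v

open CategoryTheory CategoryTheory.Limits AlgebraicGeometry TopologicalSpace Opposite

noncomputable section

namespace Groth.Agent.ASB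

attribute [local instance] Abelian.hasFiniteBiproducts preservesBinaryBiproducts_of_preservesBiproducts

variable {k : Type u} [Field k] {X : Scheme.{u}} {p : X ⟶ Spec (CommRingCat.of k)}
  {K : Type u} [Field K] [Algebra k K] {n : ℕ}

/-- On a split base change invertible modules are twists. -/
theorem exists_iso_twist (e : BrSev.Splitting p K n) {M : (BrSev.bc p K).Modules} (hM : PicF.IsInvertible M) :
    ∃ j : ℤ, Nonempty (M ≅ e.twist j) := by
  obtain ⟨j, ⟨θ⟩⟩ := PicPnLib.exists_twist (n := n) (R := K) (PicClLib.isInvertible_pullback e.iso.inv hM)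
  exact ⟨j, ⟨((Scheme.Modules.pullbackId _).app M).symm ≪≫
    (Scheme.Modules.pullbackCongr e.iso.hom_inv_id.symm).app M ≪≫
    ((Scheme.Modules.pullbackComp e.iso.hom e.iso.inv).app M).symm ≪≫
    (Scheme.Modules.pullback e.iso.hom).mapIso θ⟩⟩

variable [IsProper p] [IsAlgClosed K] [Algebra.IsAlgebraic k K]

/-- The indecomposable summands of an absolutely split module are of twisting type. -/
theorem twPow_of_split (e : BrSev.Splitting p K n) {E : X.Modules} (hE : Coh.IsCoh E) (l : List X.Modules)
    (hl : ∀ Z ∈ l, Indec Z) (eE : E ≅ sumL l) {s : ℕ} (Ls : Fin s → (BrSev.bc p K).Modules)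
    (hLs : ∀ i, PicF.IsInvertible (Ls i)) (eK : bcF p K E ≅ sumL (List.ofFn Ls)) :
    ∀ Z ∈ l, ∃ (j : ℤ) (a : ℕ), a ≠ 0 ∧ FlatMod.IsFinLocFree Z ∧
      Nonempty (bcF p K Z ≅ sumL (List.replicate a (e.twist j))) := by
  haveI := isNoetherian_of_proper p
  choose j hj using fun i => exists_iso_twist e (hLs i)
  choose W a ha hWf hWi hWt using fun i => exists_indec_twPow e (j i)
  intro Z hZ
  obtain ⟨i, ⟨φ⟩⟩ := exists_iso_of_split p K hE l hl eE Ls eK W a ha
    (fun i => CurveDeg.isCoh_of_isFinLocFree (hWf i)) hWi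
    (fun i => by
      obtain ⟨u⟩ := hWt i
      obtain ⟨ej⟩ := hj i
      obtain ⟨v⟩ := replicate_congr ej.symm (a i)
      exact ⟨u ≪≫ v⟩) Z hZ
  obtain ⟨eN⟩ := hWt i
  exact ⟨j i, a i, ha i, isFinLocFree_of_retract (hWf i) φ.hom φ.inv φ.hom_inv_id,
    ⟨(Scheme.Modules.pullback (BrSev.proj p K)).mapIso φ ≪≫ eN⟩⟩

end Groth.Agent.ASB
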