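import Groth.Agent.ASB.SplitCrit
import Groth.Agent.ASB.Pic
import Groth.Agent.ASB.SplitTwist
import Groth.Agent.ASB.PtLinear
import Groth.Agent.CohBasic.EulerBC

/-!
# Cohomology on twisted projective spaces through the splitting
-/

set_option linter.style.haveILetI false
set_option linter.unusedSectionVars false
set_option backward.isDefEq.respectTransparency false
set_option backward.isDefEq.respectTransparency.types false
set_option maxHeartbeats 1000000

universe u

open CategoryTheory CategoryTheory.Limits AlgebraicGeometry TopologicalSpace Opposite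
open scoped TensorProduct

noncomputable section

namespace Groth.Agent.ASB

attribute [local instance] Abelian.hasFiniteBiproducts preservesBinaryBiproducts_of_preservesBiproducts

section Pn

variable {K : Type u} [Field K] {m : ℕ}

theorem subsingleton_biprod {F G : (PnVan.P K m).Modules} (q : ℕ) (hF : Subsingleton (Coh.HH (PnVan.P K m) F q))
    (hG : Subsingleton (Coh.HH (PnVan.P K m) G q)) : Subsingleton (Coh.HH (PnVan.P K m) (F ⊞ G) q) :=
  subsingleton_of_forall_eq 0 fun x => by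
    have h := Sheaf.H.map_add_apply ((QCoh.toAbFunctor (PnVan.P K m)).map (biprod.fst ≫ biprod.inl : F ⊞ G ⟶ F ⊞ G))
      ((QCoh.toAbFunctor (PnVan.P K m)).map (biprod.snd ≫ biprod.inr)) x
    rw [← Functor.map_add, biprod.total] at h
    have h1 : Canon.HHlin K (biprod.fst ≫ biprod.inl : F ⊞ G ⟶ F ⊞ G) q x = 0 := by
      rw [← PnDual.HHlin_comp, hF.elim (Canon.HHlin K biprod.fst q x) 0, map_zero]
    have h2 : Canon.HHlin K (biprod.snd ≫ biprod.inr : F ⊞ G ⟶ F ⊞ G) q x = 0 := by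
      rw [← PnDual.HHlin_comp, hG.elim (Canon.HHlin K biprod.snd q x) 0, map_zero]
    calc x = Canon.HHlin K (𝟙 (F ⊞ G)) q x := (PnDual.HHlin_id _ _ _).symm
      _ = Canon.HHlin K (biprod.fst ≫ biprod.inl : F ⊞ G ⟶ F ⊞ G) q x +
          Canon.HHlin K (biprod.snd ≫ biprod.inr) q x := h
      _ = 0 := by rw [h1, h2, add_zero]

theorem subsingleton_sumL (q : ℕ) : ∀ l : List (PnVan.P K m).Modules,
    (∀ M ∈ l, Subsingleton (Coh.HH (PnVan.P K m) M q)) → Subsingleton (Coh.HH (PnVan.P K m) (sumL l) q)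
  | [], _ => subsingleton_of_forall_eq 0 fun x => by
      have h := PnVan.HHlin_zero_apply (k := K) (r := m) (F := sumL ([] : List (PnVan.P K m).Modules))
        (G := sumL ([] : List (PnVan.P K m).Modules)) q x
      rw [← show 𝟙 (sumL ([] : List (PnVan.P K m).Modules)) = 0 from isZero_top.eq_of_src _ _, PnDual.HHlin_id] at h
      exact h
  | _ :: l, h => subsingleton_biprod q (h _ List.mem_cons_self)
      (subsingleton_sumL q l fun M hM => h M (List.mem_cons_of_mem _ hM))

theorem subsingleton_of_replicate (q : ℕ) (M : (PnVan.P K m).Modules) {r : ℕ} (hr : r ≠ 0)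
    (h : Subsingleton (Coh.HH (PnVan.P K m) (sumL (List.replicate r M)) q)) :
    Subsingleton (Coh.HH (PnVan.P K m) M q) := by
  obtain ⟨r, rfl⟩ := Nat.exists_eq_succ_of_ne_zero hr
  exact PnVan.subsingleton_of_retract (iS M (List.replicate r M)) (pS M (List.replicate r M)) (iS_pS _ _) q h

end Pn

variable {k : Type u} [Field k] {X : Scheme.{u}} {p : X ⟶ Spec (CommRingCat.of k)} [IsProper p]
  {K : Type u} [Field K] [Algebra k K] {m : ℕ}

/-- Vanishing of cohomology may be tested on projective space. -/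
theorem subsingleton_HH_toPn (e : BrSev.Splitting p K m) {F : X.Modules} (hF : Coh.IsQCoh F) (q : ℕ) :
    Subsingleton (Coh.HH (PnVan.P K m) (toPn e F) q) ↔ Subsingleton (Coh.HH X F q) := by
  letI := ovr p
  letI := ovrP m K
  haveI : IsProper (X ↘ Spec (CommRingCat.of k)) := ‹IsProper p›
  haveI := AmpleVan.compactSpace_of_proper (A := k) (X := X)
  haveI := AmpleVan.isSeparated_of_proper (A := k) (X := X)
  have hsq : IsPullback (e.iso.inv ≫ BrSev.proj p K) (CohB1.ProjSpace.toSpec m K) p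
      (Spec.map (CommRingCat.ofHom (algebraMap k K))) :=
    (IsPullback.of_hasPullback p (Spec.map (CommRingCat.ofHom (algebraMap k K)))).of_iso e.iso (Iso.refl _)
      (Iso.refl _) (Iso.refl _) (by simp) (by simp [e.comm]) (by simp) (by simp)
  obtain ⟨θ⟩ := QCoh.nonempty_HH_flat_bc (A := k) (B := K) _ hsq hF q
  have h1 : Subsingleton (K ⊗[k] Coh.HH X F q) ↔ Subsingleton (Coh.HH X F q) :=
    Module.FaithfullyFlat.subsingleton_tensorProduct_iff_right k K
  rw [← h1, ← θ.toEquiv.subsingleton_congr]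
  have g : toPn e F ≅ (Scheme.Modules.pullback (e.iso.inv ≫ BrSev.proj p K)).obj F :=
    (Scheme.Modules.pullbackComp e.iso.inv (BrSev.proj p K)).app F
  exact ⟨fun h => QCoh.subsingleton_HH_of_iso g q h, fun h => QCoh.subsingleton_HH_of_iso g.symm q h⟩

/-- The transport of a twist. -/
theorem pullback_inv_twist (e : BrSev.Splitting p K m) (c : ℤ) :
    Nonempty ((Scheme.Modules.pullback e.iso.inv).obj (e.twist c) ≅ Twist.twistProjSpace m K c) :=
  ⟨(Scheme.Modules.pullbackComp e.iso.inv e.iso.hom).app _ ≪≫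
    (Scheme.Modules.pullbackCongr e.iso.inv_hom_id).app _ ≪≫ (Scheme.Modules.pullbackId _).app _⟩

/-- The transport is compatible with tensor products. -/
theorem toPn_tensor (e : BrSev.Splitting p K m) (E G : X.Modules) :
    Nonempty (toPn e (CohB1.tensorMod E G) ≅ CohB1.tensorMod (toPn e E) (toPn e G)) := by
  obtain ⟨a⟩ := pullback_tensor (BrSev.proj p K) E G
  obtain ⟨b⟩ := pullback_tensor e.iso.inv (bcF p K E) (bcF p K G)
  exact ⟨(Scheme.Modules.pullback e.iso.inv).mapIso a ≪≫ b⟩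

/-- The transport of a module of twisting type. -/
theorem toPn_twPow (e : BrSev.Splitting p K m) {W : X.Modules} {c : ℤ} {r : ℕ} (h : BrSev.IsTwPow e c r W) :
    Nonempty (toPn e W ≅ sumL (List.replicate r (Twist.twistProjSpace m K c))) := by
  obtain ⟨E⟩ := (isTwPow_iff e c r W).1 h
  obtain ⟨a⟩ := map_replicate (Scheme.Modules.pullback e.iso.inv) (e.twist c) r
  obtain ⟨t⟩ := pullback_inv_twist e c
  obtain ⟨b⟩ := replicate_congr t r
  exact ⟨(Scheme.Modules.pullback e.iso.inv).mapIso E ≪≫ a ≪≫ b⟩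

/-- The cohomology of a tensor product with two modules of twisting type. -/
theorem toPn_test (e : BrSev.Splitting p K m) (E : X.Modules) {L W : X.Modules} {a c : ℤ} {r : ℕ}
    (hL : BrSev.IsTwPow e a 1 L) (hW : BrSev.IsTwPow e c r W) :
    Nonempty (toPn e (CohB1.tensorMod (CohB1.tensorMod E L) W) ≅
      sumL (List.replicate r ((PnVan.tw (a + c)).obj (toPn e E)))) := by
  obtain ⟨g₁⟩ := toPn_tensor e (CohB1.tensorMod E L) W
  obtain ⟨g₂⟩ := toPn_tensor e E L
  obtain ⟨g₃⟩ := toPn_twPow e hL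
  obtain ⟨g₄⟩ := toPn_twPow e hW
  obtain ⟨g₅⟩ := tensor_congr (Iso.refl (toPn e E)) (g₃ ≪≫ (isoBiprodZero isZero_top).symm)
  obtain ⟨g₆⟩ := tensor_congr (g₂ ≪≫ g₅) g₄
  obtain ⟨g₇⟩ := map_replicate
    ((DCoh.tensorBi (X := CohB1.ProjSpace m K)).obj (CohB1.tensorMod (toPn e E) (Twist.twistProjSpace m K a)))
    (Twist.twistProjSpace m K c) r
  obtain ⟨g₈⟩ := PnVan.tw_tw (k := K) (r := m) (toPn e E) a c (a + c) rfl
  obtain ⟨g₉⟩ := replicate_congr g₈ r
  exact ⟨g₁ ≪≫ g₆ ≪≫ g₇ ≪≫ g₉⟩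

/-- An absolutely split bundle has no middle cohomology. -/
theorem mid_of_split (e : BrSev.Splitting p K m) {E : X.Modules} (hE : FlatMod.IsFinLocFree E) {s : ℕ}
    (Ls : Fin s → (BrSev.bc p K).Modules) (hLs : ∀ i, PicF.IsInvertible (Ls i))
    (h : BrSev.bcMod p K E ≅ ∐ Ls) (n : ℤ) (i : ℕ) (h1 : 1 ≤ i) (h2 : i < m) :
    Subsingleton (Coh.HH (PnVan.P K m) ((PnVan.tw n).obj (toPn e E)) i) := by
  have hlf : FlatMod.IsFinLocFree (toPn e E) :=
    KFlatLib.isFinLocFree_pullback _ (KFlatLib.isFinLocFree_pullback _ hE)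
  have hc : Coh.IsCoh (X := PnVan.P K m) (toPn e E) :=
    QCoh.isCoh_iff_isFP.2 (QCoh.isFP_of_isFinLocFree (X := PnVan.P K m) hlf)
  choose b hb using fun l => exists_iso_twist e (hLs l)
  obtain ⟨g₁⟩ := coprod_ofFn Ls
  obtain ⟨g₂⟩ := map_sumL (Scheme.Modules.pullback e.iso.inv) (List.ofFn Ls)
  obtain ⟨g₃⟩ := sumL_map_congr (fun l => (Scheme.Modules.pullback e.iso.inv).obj (Ls l))
    (fun l => Twist.twistProjSpace m K (b l)) (List.finRange s) fun l _ => by
    obtain ⟨t⟩ := pullback_inv_twist e (b l)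
    obtain ⟨u⟩ := hb l
    exact ⟨(Scheme.Modules.pullback e.iso.inv).mapIso u ≪≫ t⟩
  obtain ⟨g₄⟩ := coprod_ofFn fun l => Twist.twistProjSpace m K (b l)
  exact ((PnVan.iso_sigma_iff (k := K) (r := m) hc).1 ⟨s, b,
    ⟨(Scheme.Modules.pullback e.iso.inv).mapIso (h ≪≫ g₁) ≪≫ g₂ ≪≫
      eqToIso (by rw [List.ofFn_eq_map, List.map_map]; rfl) ≪≫ g₃ ≪≫
      eqToIso (by rw [List.ofFn_eq_map]) ≪≫ g₄.symm⟩⟩).mid n i h1 h2

end Groth.Agent.ASB
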