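import Groth.Agent.ASB.Dim
import Groth.Agent.SheafHomX.Smul
import Groth.Agent.Lib.CurveLinear
import Mathlib.Data.Matrix.Basic

/-!
# Endomorphism algebras of sums and tensor products
-/

set_option linter.style.haveILetI false
set_option linter.unusedSectionVars false
set_option backward.isDefEq.respectTransparency false
set_option backward.isDefEq.respectTransparency.types false
set_option maxHeartbeats 1000000

universe u v w

open CategoryTheory CategoryTheory.Limits AlgebraicGeometry TopologicalSpace Opposite
open scoped TensorProduct

noncomputable section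

namespace Groth.Agent.ASB

attribute [local instance] Abelian.hasFiniteBiproducts

section Lin

variable {C : Type v} [Category.{u} C] [Abelian C] (k : Type w) [Field k] [Linear k C]

/-- Isomorphic objects have isomorphic endomorphism algebras. -/
def endCongr {M N : C} (e : M ≅ N) : End M ≃ₐ[k] End N :=
  AlgEquiv.ofLinearEquiv
    { toFun := fun (f : M ⟶ M) => e.inv ≫ f ≫ e.hom
      map_add' := fun (f g : M ⟶ M) => show e.inv ≫ (f + g) ≫ e.hom = e.inv ≫ f ≫ e.hom + e.inv ≫ g ≫ e.hom by simp
      map_smul' := fun c (f : M ⟶ M) => show e.inv ≫ (c • f) ≫ e.hom = c • (e.inv ≫ f ≫ e.hom) by simp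
      invFun := fun (g : N ⟶ N) => e.hom ≫ g ≫ e.inv
      left_inv := fun (f : M ⟶ M) => show e.hom ≫ (e.inv ≫ f ≫ e.hom) ≫ e.inv = f by simp
      right_inv := fun (g : N ⟶ N) => show e.inv ≫ (e.hom ≫ g ≫ e.inv) ≫ e.hom = g by simp }
    (show e.inv ≫ 𝟙 M ≫ e.hom = 𝟙 N by simp)
    (fun (a b : M ⟶ M) => show e.inv ≫ (b ≫ a) ≫ e.hom = (e.inv ≫ b ≫ e.hom) ≫ e.inv ≫ a ≫ e.hom by simp)

/-- The endomorphisms of a power are matrices. -/
def endPow (G : C) (n : ℕ) : End (⨁ fun _ : Fin n => G) ≃ₐ[k] Matrix (Fin n) (Fin n) (End G) :=
  AlgEquiv.ofLinearEquiv
    { toFun := fun f => Matrix.of fun i b => biproduct.components f b i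
      map_add' := fun (f g : (⨁ fun _ : Fin n => G) ⟶ ⨁ fun _ : Fin n => G) => by
        ext i b
        show biproduct.components (f + g) b i = biproduct.components f b i + biproduct.components g b i
        simp [biproduct.components]
      map_smul' := fun c (f : (⨁ fun _ : Fin n => G) ⟶ ⨁ fun _ : Fin n => G) => by
        ext i b
        show biproduct.components (c • f) b i = c • biproduct.components f b i
        simp [biproduct.components]
      invFun := fun M => biproduct.matrix fun b i => M i b
      left_inv := fun f => biproduct.components_matrix f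
      right_inv := fun M => by ext i b; exact biproduct.matrix_components (fun b i => M i b) b i }
    (by
      ext i b
      show biproduct.components (𝟙 (⨁ fun _ : Fin n => G)) b i = (1 : Matrix (Fin n) (Fin n) (End G)) i b
      rw [biproduct.components, Category.id_comp, biproduct.ι_π, Matrix.one_apply]
      by_cases h : i = b
      · subst h; simp
      · simp [h, Ne.symm h])
    (fun f g => by
      ext i b
      show biproduct.components (g ≫ f) b i = _
      rw [Matrix.mul_apply]
      show _ = ∑ x, biproduct.components g b x ≫ biproduct.components f x i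
      simp only [biproduct.components, Category.assoc]
      conv_lhs => rw [← Category.id_comp f, ← biproduct.total]
      simp only [Preadditive.sum_comp, Preadditive.comp_sum, Category.assoc])

end Lin

variable {k : Type u} [Field k] {X : Scheme.{u}} [X.Over (Spec (CommRingCat.of k))]

/-- Endomorphisms of the first factor act on a tensor product. -/
def endTenL (W W' : X.Modules) : End W →ₐ[k] End (CohB1.tensorMod W W') :=
  AlgHom.ofLinearMap
    { toFun := fun d => (SheafHomX.ten W').map d
      map_add' := fun d d' => by
        haveI : (SheafHomX.ten W').Additive := inferInstanceAs ((DCoh.tensorBi (X := X)).flip.obj W').Additive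
        exact (SheafHomX.ten W').map_add
      map_smul' := fun a d => by
        show (SheafHomX.ten W').map (a • (show W ⟶ W from d)) = a • (SheafHomX.ten W').map d
        rw [KLin.smul_def, Functor.map_comp, SheafHomX.ten_map_smulMod, KLin.smul_def] }
    ((SheafHomX.ten W').map_id W)
    (fun d d' => (SheafHomX.ten W').map_comp d' d)

/-- Endomorphisms of the second factor act on a tensor product. -/
def endTenR (W W' : X.Modules) : End W' →ₐ[k] End (CohB1.tensorMod W W') :=
  AlgHom.ofLinearMap
    { toFun := fun d => ((DCoh.tensorBi (X := X)).obj W).map d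
      map_add' := fun d d' => by
        haveI : ((DCoh.tensorBi (X := X)).obj W).Additive := inferInstance
        exact ((DCoh.tensorBi (X := X)).obj W).map_add
      map_smul' := fun a d => by
        show ((DCoh.tensorBi (X := X)).obj W).map (a • (show W' ⟶ W' from d)) =
          a • ((DCoh.tensorBi (X := X)).obj W).map d
        rw [KLin.smul_def, Functor.map_comp, Formal.smulMod, CurveLinear.tensor_map_smul, KLin.smul_def]
        rfl }
    (((DCoh.tensorBi (X := X)).obj W).map_id W')
    (fun d d' => ((DCoh.tensorBi (X := X)).obj W).map_comp d' d)

/-- The endomorphisms of the factors act on a tensor product. -/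
def endTen (W W' : X.Modules) : End W ⊗[k] End W' →ₐ[k] End (CohB1.tensorMod W W') :=
  Algebra.TensorProduct.lift (endTenL W W') (endTenR W W') fun d d' =>
    ((DCoh.tensorBi (X := X)).map (show W ⟶ W from d)).naturality (show W' ⟶ W' from d')

end Groth.Agent.ASB
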