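import Groth.Agent.ASB.Iso
import Groth.Agent.KFlatLib.Scheme.PullTensor
import Groth.Agent.Lib.CurveTensor
import Groth.Agent.Lib.ProjRegularPn
import Groth.Agent.PnCoh.Finite.TwistInv
import Groth.Prelude.Def_BrSev

/-!
# Tensor products of isotypical modules
-/

set_option linter.style.haveILetI false
set_option linter.unusedSectionVars false
set_option backward.isDefEq.respectTransparency false
set_option backward.isDefEq.respectTransparency.types false
set_option maxHeartbeats 1000000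

universe u v

open CategoryTheory CategoryTheory.Limits AlgebraicGeometry TopologicalSpace Opposite

noncomputable section

namespace Groth.Agent.ASB

attribute [local instance] Abelian.hasFiniteBiproducts preservesBinaryBiproducts_of_preservesBiproducts

/-- Additive functors commute with sums. -/
theorem map_sumL {C D : Type v} [Category.{u} C] [Abelian C] [Category.{u} D] [Abelian D] (F : C ⥤ D)
    [F.Additive] : ∀ l : List C, Nonempty (F.obj (sumL l) ≅ sumL (l.map F.obj))
  | [] => ⟨IsZero.iso (F.map_isZero isZero_top) isZero_top⟩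
  | X :: l => (map_sumL F l).map fun e => F.mapBiprod X (sumL l) ≪≫ biprod.mapIso (Iso.refl _) e

theorem map_replicate {C D : Type v} [Category.{u} C] [Abelian C] [Category.{u} D] [Abelian D] (F : C ⥤ D)
    [F.Additive] (X : C) (n : ℕ) : Nonempty (F.obj (sumL (List.replicate n X)) ≅ sumL (List.replicate n (F.obj X))) := by
  obtain ⟨e⟩ := map_sumL F (List.replicate n X)
  rw [List.map_replicate] at e
  exact ⟨e⟩

theorem tensor_congr {Y : Scheme.{u}} {A A' B B' : Y.Modules} (a : A ≅ A') (b : B ≅ B') :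
    Nonempty (CohB1.tensorMod A B ≅ CohB1.tensorMod A' B') :=
  ⟨(DCoh.tensorBi.mapIso a).app B ≪≫ (DCoh.tensorBi.obj A').mapIso b⟩

/-- Powers multiply. -/
theorem tensor_replicate {Y : Scheme.{u}} (A B : Y.Modules) (r s : ℕ) :
    Nonempty (CohB1.tensorMod (sumL (List.replicate r A)) (sumL (List.replicate s B)) ≅
      sumL (List.replicate (r * s) (CohB1.tensorMod A B))) := by
  obtain ⟨e₁⟩ := map_replicate ((DCoh.tensorBi (X := Y)).flip.obj (sumL (List.replicate s B))) A r
  obtain ⟨e₂⟩ := map_replicate ((DCoh.tensorBi (X := Y)).obj A) B s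
  obtain ⟨e₃⟩ := replicate_congr (show CohB1.tensorMod A (sumL (List.replicate s B)) ≅
    sumL (List.replicate s (CohB1.tensorMod A B)) from e₂) r
  obtain ⟨e₄⟩ := replicate_replicate (CohB1.tensorMod A B) r s
  exact ⟨e₁ ≪≫ e₃ ≪≫ e₄⟩

/-- Pullback commutes with tensor products. -/
theorem pullback_tensor {Y Z : Scheme.{u}} (f : Y ⟶ Z) (M N : Z.Modules) :
    Nonempty ((Scheme.Modules.pullback f).obj (CohB1.tensorMod M N) ≅
      CohB1.tensorMod ((Scheme.Modules.pullback f).obj M) ((Scheme.Modules.pullback f).obj N)) :=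
  ⟨@asIso _ _ _ _ (KFlatLib.pullTensorHom f M N) (KFlatLib.isIso_pullTensorHom f M N)⟩

variable {k : Type u} [Field k] {X : Scheme.{u}} {p : X ⟶ Spec (CommRingCat.of k)}
  {K : Type u} [Field K] [Algebra k K] {n : ℕ}

/-- Twists multiply. -/
theorem twist_add (e : BrSev.Splitting p K n) (j l : ℤ) :
    Nonempty (CohB1.tensorMod (e.twist j) (e.twist l) ≅ e.twist (j + l)) := by
  obtain ⟨a⟩ := PnCoh.Finite.twist_tensor_iso (ProjRegular.coords K n) ProjRegular.coords_mem ProjRegular.coords_cover j l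
  obtain ⟨b⟩ := pullback_tensor e.iso.hom (Twist.twistProjSpace n K j) (Twist.twistProjSpace n K l)
  exact ⟨b.symm ≪≫ (Scheme.Modules.pullback e.iso.hom).mapIso a⟩

theorem isTwPow_iff (e : BrSev.Splitting p K n) (j : ℤ) (r : ℕ) (W : X.Modules) :
    BrSev.IsTwPow e j r W ↔ Nonempty (bcF p K W ≅ sumL (List.replicate r (e.twist j))) := by
  obtain ⟨a⟩ := coprod_ofFn (fun _ : Fin r => e.twist j)
  rw [List.ofFn_const] at a
  exact ⟨fun ⟨h⟩ => ⟨h ≪≫ a⟩, fun ⟨h⟩ => ⟨h ≪≫ a.symm⟩⟩

theorem isTwPow_tensor (e : BrSev.Splitting p K n) {j l : ℤ} {r s : ℕ} {W W' : X.Modules}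
    (h : BrSev.IsTwPow e j r W) (h' : BrSev.IsTwPow e l s W') :
    BrSev.IsTwPow e (j + l) (r * s) (CohB1.tensorMod W W') := by
  rw [isTwPow_iff] at *
  obtain ⟨h⟩ := h
  obtain ⟨h'⟩ := h'
  obtain ⟨a⟩ := pullback_tensor (BrSev.proj p K) W W'
  obtain ⟨b⟩ := tensor_congr h h'
  obtain ⟨c⟩ := tensor_replicate (e.twist j) (e.twist l) r s
  obtain ⟨d⟩ := twist_add e j l
  obtain ⟨f⟩ := replicate_congr d (r * s)
  exact ⟨a ≪≫ b ≪≫ c ≪≫ f⟩

end Groth.Agent.ASB
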