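import Groth.Agent.ASB.TypeOne
import Groth.Agent.ASB.EndAlg
import Groth.Agent.ASB.Tensor
import Groth.Agent.CSALib.Index
import Groth.Agent.KFlatLib.Perfect.Tensor
import Groth.Agent.H23.PnChart

/-!
# Indices of tensor powers as multiplicities
-/

set_option linter.style.haveILetI false
set_option linter.unusedSectionVars false
set_option backward.isDefEq.respectTransparency false
set_option backward.isDefEq.respectTransparency.types false
set_option maxHeartbeats 1000000

universe u

open CategoryTheory CategoryTheory.Limits AlgebraicGeometry TopologicalSpace Opposite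
open scoped TensorProduct

noncomputable section

namespace Groth.Agent.ASB

open Groth.Agent.CSALib

attribute [local instance] Abelian.hasFiniteBiproducts preservesBinaryBiproducts_of_preservesBiproducts

variable {k : Type u} [Field k] {A : Type u} [Ring A] [Algebra k A] [Algebra.IsCentral k A] [IsSimpleRing A]
  {m : ℕ} {X : Scheme.{u}} {f : X ⟶ Spec (CommRingCat.of k)} [IsProper f]
  {K : Type u} [Field K] [Algebra k K] [IsAlgClosure k K]

/-- Endomorphisms of a module of twisting type: simple, of dimension the square of the multiplicity. -/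
theorem end_of_twPow [IsAlgClosed K] [Algebra.IsAlgebraic k K] (e : BrSev.Splitting f K m) {j : ℤ} {r : ℕ}
    (hr : r ≠ 0) {T : X.Modules} (hT : Coh.IsCoh T) (E : bcF f K T ≅ sumL (List.replicate r (e.twist j))) :
    letI := ovr f
    ¬ IsZero T ∧ IsSimpleRing (End T) ∧ Module.Finite k (End T) ∧ Module.finrank k (End T) = r * r := by
  haveI := isIntegral_bc e
  haveI := isNoetherian_of_proper f
  haveI : IsNoetherian (BrSev.bc f K) := isNoetherian_of_proper (BrSev.bcTo f K)
  letI := ovr f
  letI := ovrK f K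
  have ht := isInvertible_twist e j
  haveI : IsProper (BrSev.bc f K ↘ Spec (CommRingCat.of K)) := inferInstanceAs (IsProper (BrSev.bcTo f K))
  haveI := finite_hom (k := K) (BrSev.bc f K) (CurveDeg.isCoh_of_isInvertible ht) (CurveDeg.isCoh_of_isInvertible ht)
  have hd : Module.finrank k (T ⟶ T) = r * r := by
    rw [finrank_bc f K hT hT, finrank_congr K E E, finrank_replicate,
      finrank_end_invertible (BrSev.bcTo f K) ht, mul_one]
  have h0 : ¬ IsZero T := fun h => by
    haveI : Subsingleton (T ⟶ T) := ⟨fun a b => h.eq_of_src a b⟩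
    rw [Module.finrank_zero_of_subsingleton] at hd
    exact hr (by simpa using hd.symm)
  obtain ⟨eb⟩ := biproduct_replicate (e.twist j) r
  exact ⟨h0, isSimpleRing_end f K hT h0 (isIso_of_ne_zero_invertible (BrSev.bcTo f K) ht) (E ≪≫ eb.symm),
    finite_end f hT, hd⟩

/-- The structure sheaf is of type zero. -/
theorem bc_structureModule (e : BrSev.Splitting f K m) :
    Nonempty (bcF f K (Coh.structureModule X) ≅ sumL (List.replicate 1 (e.twist 0))) := by
  obtain ⟨u⟩ := PicClLib.nonempty_pullback_structureModule (BrSev.proj f K)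
  obtain ⟨v⟩ := PicClLib.nonempty_pullback_structureModule e.iso.hom
  have h0 := PnCoh.Finite.isIso_oneHom (ProjRegular.coords K m) ProjRegular.coords_mem ProjRegular.coords_cover
  exact ⟨u ≪≫ v.symm ≪≫ (Scheme.Modules.pullback e.iso.hom).mapIso (@asIso _ _ _ _ _ h0) ≪≫
    isoBiprodZero isZero_top⟩

/-- For every `j`, the `j`-th tensor power is split by the endomorphisms of a module of type `O(j)`. -/
theorem exists_module_pow (hA : Module.finrank k A = (m + 1) * (m + 1))
    (s : BrSev.SBStr k A ((m + 1) * (m + 1) - (m + 1)) f) (e : BrSev.Splitting f K m) (j : ℕ) :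
    ∃ (W : X.Modules) (r : ℕ), r ≠ 0 ∧ FlatMod.IsFinLocFree W ∧ Indec W ∧
      Nonempty (bcF f K W ≅ sumL (List.replicate r (e.twist (j : ℤ)))) ∧
      letI := ovr f
      Algebra.IsCentral k (End W) ∧ Similar k (CSAGal.tpow k A j ⊗[k] End W) k := by
  haveI : IsAlgClosed K := IsAlgClosure.isAlgClosed k
  haveI : Algebra.IsAlgebraic k K := IsAlgClosure.isAlgebraic
  haveI := isNoetherian_of_proper f
  haveI := isIntegral_bc e
  haveI : FiniteDimensional k A := Module.finite_of_finrank_pos (by rw [hA]; positivity)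
  letI := ovr f
  induction j with
  | zero =>
    have hOi : PicF.IsInvertible (Coh.structureModule X) := CurveDeg.isInvertible_structureModule
    obtain ⟨E⟩ := bc_structureModule e
    obtain ⟨h0, -, hfin, hd⟩ := end_of_twPow e one_ne_zero (CurveDeg.isCoh_of_isInvertible hOi) E
    haveI : Nontrivial (End (Coh.structureModule X)) :=
      Module.nontrivial_of_finrank_pos (R := k) (by rw [hd]; norm_num)
    have hb : Function.Bijective (Algebra.ofId k (End (Coh.structureModule X))) := by
      have hinj : Function.Injective (Algebra.ofId k (End (Coh.structureModule X))) := RingHom.injective _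
      exact ⟨hinj, (LinearMap.injective_iff_surjective_of_finrank_eq_finrank
        (by rw [hd, Module.finrank_self, one_mul]) (f := (Algebra.ofId k (End (Coh.structureModule X))).toLinearMap)).1 hinj⟩
    let eO := AlgEquiv.ofBijective _ hb
    refine ⟨Coh.structureModule X, 1, one_ne_zero, H23.PullPush.isFinLocFree_of_isInvertible hOi,
      indec_of_idem h0 fun d hdd => ?_, ⟨by simpa using E⟩, isCentral_congr eO,
      similar_of_algEquiv ((Algebra.TensorProduct.congr (powZero k A) eO.symm).trans (Algebra.TensorProduct.lid k k))⟩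
    obtain ⟨c, hc⟩ := eO.surjective d
    have hcc : c * c = c := eO.injective (by rw [map_mul, hc]; exact hdd)
    rcases IsIdempotentElem.iff_eq_zero_or_one.1 hcc with h | h
    · exact Or.inl (by rw [← hc, h, map_zero])
    · exact Or.inr (by rw [← hc, h, map_one]; rfl)
  | succ j ih =>
    obtain ⟨W₁, r₁, hr₁, hW₁, hW₁i, ⟨E₁⟩, hc₁, hs₁⟩ := exists_typeOne hA s e
    obtain ⟨W, r, hr, hW, hWi, ⟨E⟩, hc, hs⟩ := ih
    have hTf : FlatMod.IsFinLocFree (CohB1.tensorMod W₁ W) := KFlatLib.isFinLocFree_tensor hW₁ hW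
    have hT := CurveDeg.isCoh_of_isFinLocFree hTf
    obtain ⟨g₁⟩ := pullback_tensor (BrSev.proj f K) W₁ W
    obtain ⟨g₂⟩ := tensor_congr E₁ E
    obtain ⟨g₃⟩ := tensor_replicate (e.twist 1) (e.twist (j : ℤ)) r₁ r
    obtain ⟨g₄⟩ := twist_add e 1 (j : ℤ)
    obtain ⟨g₅⟩ := replicate_congr g₄ (r₁ * r)
    let ET : bcF f K (CohB1.tensorMod W₁ W) ≅ sumL (List.replicate (r₁ * r) (e.twist (1 + (j : ℤ)))) :=
      g₁ ≪≫ g₂ ≪≫ g₃ ≪≫ g₅
    obtain ⟨hT0, -, hTfin, hTd⟩ := end_of_twPow e (mul_ne_zero hr₁ hr) hT ET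
    obtain ⟨-, hs1, hf1, hd1⟩ := end_of_twPow e hr₁ (CurveDeg.isCoh_of_isFinLocFree hW₁) E₁
    obtain ⟨-, hsj, hfj, hdj⟩ := end_of_twPow e hr (CurveDeg.isCoh_of_isFinLocFree hW) E
    haveI : Nontrivial (End (CohB1.tensorMod W₁ W)) :=
      Module.nontrivial_of_finrank_pos (R := k) (by rw [hTd]; positivity)
    haveI : IsSimpleRing (End W₁ ⊗[k] End W) := isSimpleRing_tensorProduct k (End W₁) (End W)
    haveI := isCentral_tensorProduct k (End W₁) (End W)
    have hθ : Function.Bijective (endTen (k := k) W₁ W) := by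
      have hinj : Function.Injective (endTen (k := k) W₁ W) := RingHom.injective _
      refine ⟨hinj, (LinearMap.injective_iff_surjective_of_finrank_eq_finrank ?_
        (f := (endTen (k := k) W₁ W).toLinearMap)).1 hinj⟩
      rw [Module.finrank_tensorProduct, hd1, hdj, hTd]
      ring
    obtain ⟨G, n, hn, hG, ⟨eG⟩, i, q, a, hiq, ⟨ea⟩⟩ :=
      exists_pow_of_isotypical f K hT hT0 (CurveDeg.isCoh_of_isInvertible (isInvertible_twist e _))
        (indec_invertible (isInvertible_twist e _)) ET
    obtain ⟨eb⟩ := biproduct_replicate G n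
    have ha : a ≠ 0 :=
      replicate_pos (fun hz => hG.1 (isZero_of_bc f K (isCoh_of_retract hT i q hiq).1 hz)) ea
    let φ : End W₁ ⊗[k] End W ≃ₐ[k] Matrix (Fin n) (Fin n) (End G) :=
      (AlgEquiv.ofBijective _ hθ).trans ((endCongr k (eG ≪≫ eb.symm)).trans (endPow k G n))
    haveI : NeZero n := ⟨hn⟩
    haveI := isCentral_congr φ
    refine ⟨G, a, ha, isFinLocFree_of_retract hTf i q hiq, hG,
      ⟨ea ≪≫ eqToIso (by rw [Nat.cast_succ, add_comm])⟩, isCentral_of_matrix k (n := n), ?_⟩
    have h1 : Similar k (CSAGal.tpow k A (j + 1) ⊗[k] End G)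
        ((A ⊗[k] CSAGal.tpow k A j) ⊗[k] (End W₁ ⊗[k] End W)) :=
      Similar.tensor (similar_of_algEquiv (powSucc k A j)) (similar_of_algEquiv_matrix hn φ).symm
    exact h1.trans ((similar_of_algEquiv
      (Algebra.TensorProduct.tensorTensorTensorComm k k k k A (CSAGal.tpow k A j) (End W₁) (End W))).trans
      ((Similar.tensor hs₁ hs).trans similar_tensor_self_left))

/-- The multiplicity of an indecomposable module of type `O(j)` is the index of the `j`-th tensor power. -/
theorem isIndex_of_twPow (hA : Module.finrank k A = (m + 1) * (m + 1))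
    (s : BrSev.SBStr k A ((m + 1) * (m + 1) - (m + 1)) f) (e : BrSev.Splitting f K m) (j : ℕ) {W : X.Modules}
    (hW : FlatMod.IsFinLocFree W) (hWi : Indec W) {r : ℕ}
    (E : bcF f K W ≅ sumL (List.replicate r (e.twist (j : ℤ)))) :
    CSAGal.IsIndex k (CSAGal.tpow k A j) r := by
  haveI : IsAlgClosed K := IsAlgClosure.isAlgClosed k
  haveI : Algebra.IsAlgebraic k K := IsAlgClosure.isAlgebraic
  haveI := isNoetherian_of_proper f
  haveI := isIntegral_bc e
  haveI : FiniteDimensional k A := Module.finite_of_finrank_pos (by rw [hA]; positivity)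
  letI := ovr f
  obtain ⟨_, _, _⟩ := centralSimple_pow k A j
  obtain ⟨W', r', -, hW', hW'i, ⟨E'⟩, hc, hs⟩ := exists_module_pow hA s e j
  have hWc := CurveDeg.isCoh_of_isFinLocFree hW
  have hr : r ≠ 0 := replicate_pos (fun h => hWi.1 (isZero_of_bc f K hWc.1 h)) E
  obtain ⟨θ⟩ := iso_of_isotypical f K hWc (CurveDeg.isCoh_of_isFinLocFree hW') hWi hW'i _ E E'
  obtain ⟨-, hsimp, hfin, hd⟩ := end_of_twPow e hr hWc E
  haveI := isCentral_congr (endCongr k θ).symm
  have hs' : Similar k (CSAGal.tpow k A j ⊗[k] End W) k :=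
    (Similar.tensor similar_refl (similar_of_algEquiv (endCongr k θ))).trans hs
  have h := BrAlg.similar_op_of_tensor hs'
  letI : DivisionRing (End W) := DivisionRing.ofIsUnitOrEqZero fun g => by
    by_cases hg : g = 0
    · exact Or.inr hg
    · exact Or.inl ((isUnit_iff_isIso (show W ⟶ W from g)).2 (isIso_of_indec_isotypical f K hWc hWi
        (isIso_of_ne_zero_invertible (BrSev.bcTo f K) (isInvertible_twist e _)) E g hg))
  exact isIndex_of_similar (D' := (End W)ᵐᵒᵖ)
    (by rw [← (MulOpposite.opLinearEquiv k (M := End W)).finrank_eq, hd, sq]) h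

end Groth.Agent.ASB
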