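import Groth.Agent.CSALib.BrauerRel
import Mathlib.Algebra.Central.TensorProduct

/-!
# Central simple algebras with commuting actions on a common space
-/

universe u v w x

open scoped TensorProduct

namespace Groth.Agent.ASB.BrAlg

open Groth.Agent.CSALib

variable {k : Type u} [Field k] {A : Type v} [Ring A] [Algebra k A] [Algebra.IsCentral k A] [IsSimpleRing A]
  [FiniteDimensional k A] {D : Type w} [Ring D] [Algebra k D] [IsSimpleRing D] [FiniteDimensional k D]
  {V : Type x} [AddCommGroup V] [Module k V] [FiniteDimensional k V] [Nontrivial V]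

/-- Commuting actions of `A` and `D` with `dim A * dim D = (dim V)²` identify `A ⊗ D` with `End V`. -/
theorem lift_bijective (φ : A →ₐ[k] Module.End k V) (L : D →ₐ[k] Module.End k V)
    (hc : ∀ a d, Commute (φ a) (L d))
    (hdim : Module.finrank k A * Module.finrank k D = Module.finrank k V ^ 2) :
    Function.Bijective (Algebra.TensorProduct.lift φ L hc) := by
  haveI : IsSimpleRing (A ⊗[k] D) := isSimpleRing_tensorProduct k A D
  haveI : Nontrivial (Module.End k V) := inferInstance
  have hinj : Function.Injective (Algebra.TensorProduct.lift φ L hc) := RingHom.injective _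
  refine ⟨hinj, (LinearMap.injective_iff_surjective_of_finrank_eq_finrank ?_
    (f := (Algebra.TensorProduct.lift φ L hc).toLinearMap)).1 hinj⟩
  rw [Module.finrank_tensorProduct, hdim, Module.finrank_linearMap, sq]

/-- With commuting actions of the right dimensions, `D` is central and `A` is similar to `Dᵐᵒᵖ`. -/
theorem central_and_similar (φ : A →ₐ[k] Module.End k V) (L : D →ₐ[k] Module.End k V)
    (hc : ∀ a d, Commute (φ a) (L d))
    (hdim : Module.finrank k A * Module.finrank k D = Module.finrank k V ^ 2) :
    Algebra.IsCentral k D ∧ Similar k (A ⊗[k] D) k ∧ Similar k A Dᵐᵒᵖ := by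
  have e := (AlgEquiv.ofBijective _ (lift_bijective φ L hc hdim)).trans
    (algEquivMatrix (Module.finBasis k V))
  haveI : NeZero (Module.finrank k V) := ⟨Module.finrank_pos.ne'⟩
  haveI : Algebra.IsCentral k (A ⊗[k] D) :=
    isCentral_congr e.symm
  haveI : Algebra.IsCentral k D := Algebra.IsCentral.right_of_tensor_of_field k A D
  have h1 : Similar k (A ⊗[k] D) k := similar_of_algEquiv_matrix (NeZero.ne _) e
  refine ⟨inferInstance, h1, ?_⟩
  have h2 : Similar k A (A ⊗[k] (D ⊗[k] Dᵐᵒᵖ)) :=
    similar_tensor_self_right.symm.trans (Similar.tensor similar_refl (similar_tensor_op k D).symm)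
  exact h2.trans ((similar_of_algEquiv (Algebra.TensorProduct.assoc k k k A D Dᵐᵒᵖ).symm).trans
    ((Similar.tensor h1 similar_refl).trans similar_tensor_self_left))

/-- An algebra is similar to the opposite of a splitting partner. -/
theorem similar_op_of_tensor {A : Type v} [Ring A] [Algebra k A] {D : Type w} [Ring D] [Algebra k D]
    [Algebra.IsCentral k D] [IsSimpleRing D] [FiniteDimensional k D] (h : Similar k (A ⊗[k] D) k) :
    Similar k A Dᵐᵒᵖ :=
  (similar_tensor_self_right.symm.trans (Similar.tensor similar_refl (similar_tensor_op k D).symm)).trans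
    ((similar_of_algEquiv (Algebra.TensorProduct.assoc k k k A D Dᵐᵒᵖ).symm).trans
      ((Similar.tensor h similar_refl).trans similar_tensor_self_left))

end Groth.Agent.ASB.BrAlg
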