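import Groth.Agent.ASB.Sigma
import Mathlib.LinearAlgebra.Matrix.ToLin
import Mathlib.LinearAlgebra.Eigenspace.Triangularizable
import Mathlib.LinearAlgebra.Matrix.NonsingularInverse

/-!
# Morphisms of base changes with coefficients in commuting matrices
-/

set_option linter.style.haveILetI false
set_option linter.unusedSectionVars false
set_option backward.isDefEq.respectTransparency false
set_option backward.isDefEq.respectTransparency.types false
set_option maxHeartbeats 1000000

universe u v

open CategoryTheory CategoryTheory.Limits AlgebraicGeometry TopologicalSpace Opposite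
open scoped TensorProduct

noncomputable section

namespace Groth.Agent.ASB

attribute [local instance] Abelian.hasFiniteBiproducts

/-- A commuting family of matrices over an algebraically closed field has a common eigenvector. -/
theorem exists_common_eigen {k K : Type*} [Field k] [Field K] [IsAlgClosed K] [Algebra k K] {A : Type*} [CommRing A]
    [Algebra k A] {d : ℕ} [NeZero d] (ρ : A →ₐ[k] Matrix (Fin d) (Fin d) K) :
    ∃ (σ : A →ₐ[k] K) (v : Fin d → K), v ≠ 0 ∧ ∀ a, (ρ a).mulVec v = σ a • v := by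
  classical
  let Inv : Submodule K (Fin d → K) → Prop := fun W => W ≠ ⊥ ∧ ∀ a w, w ∈ W → (ρ a).mulVec w ∈ W
  have hex : ∃ m, ∃ W, Inv W ∧ Module.finrank K W = m := ⟨_, ⊤, ⟨top_ne_bot, fun a w _ => trivial⟩, rfl⟩
  obtain ⟨W, ⟨hW0, hWi⟩, hWm⟩ := Nat.find_spec hex
  have hmin : ∀ W', Inv W' → W' ≤ W → W' = W := fun W' h' hle =>
    Submodule.eq_of_le_of_finrank_le hle (hWm.le.trans (Nat.find_le ⟨W', h', rfl⟩))
  haveI : Nontrivial W := Submodule.nontrivial_iff_ne_bot.2 hW0
  have hscal : ∀ a, ∃ c : K, ∀ w ∈ W, (ρ a).mulVec w = c • w := by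
    intro a
    let T : Module.End K W := ((Matrix.mulVecLin (ρ a)).domRestrict W).codRestrict W fun w => hWi a w w.2
    obtain ⟨c, hc⟩ := Module.End.exists_eigenvalue T
    refine ⟨c, fun w hw => ?_⟩
    let W' : Submodule K (Fin d → K) :=
      W ⊓ LinearMap.ker (Matrix.mulVecLin (ρ a) - c • LinearMap.id)
    have hmem : ∀ x, x ∈ W' ↔ x ∈ W ∧ (ρ a).mulVec x = c • x := fun x => by
      simp [W', sub_eq_zero]
    have hW' : Inv W' := by
      refine ⟨?_, fun b x hx => ?_⟩
      · obtain ⟨x, hx⟩ := hc.exists_hasEigenvector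
        refine (Submodule.ne_bot_iff _).2 ⟨x.1, (hmem _).2 ⟨x.2, ?_⟩, fun h => hx.2 (Subtype.ext h)⟩
        exact congrArg Subtype.val hx.apply_eq_smul
      · rw [hmem] at hx ⊢
        refine ⟨hWi b x hx.1, ?_⟩
        rw [Matrix.mulVec_mulVec, ← map_mul, mul_comm a b, map_mul, ← Matrix.mulVec_mulVec, hx.2, Matrix.mulVec_smul]
    have := hmin W' hW' inf_le_left
    exact ((hmem w).1 (this.symm ▸ hw)).2
  choose c hc using hscal
  obtain ⟨v, hv, hv0⟩ := Submodule.exists_mem_ne_zero_of_ne_bot hW0
  have hu : ∀ a c', (ρ a).mulVec v = c' • v → c a = c' := fun a c' h =>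
    smul_left_injective K hv0 ((hc a v hv).symm.trans h)
  refine ⟨{ toFun := c
            map_one' := hu 1 1 (by rw [map_one, Matrix.one_mulVec, one_smul])
            map_mul' := fun a b => hu _ _ (by
              rw [map_mul, ← Matrix.mulVec_mulVec, hc b v hv, Matrix.mulVec_smul, hc a v hv, smul_smul, mul_comm])
            map_zero' := hu 0 0 (by rw [map_zero, Matrix.zero_mulVec, zero_smul])
            map_add' := fun a b => hu _ _ (by rw [map_add, Matrix.add_mulVec, hc a v hv, hc b v hv, add_smul])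
            commutes' := fun r => hu _ _ (by
              rw [AlgHom.commutes, Algebra.algebraMap_eq_smul_one, Matrix.smul_mulVec, Matrix.one_mulVec,
                algebraMap_smul]) }, v, hv0, fun a => hc a v hv⟩

/-- Conjugation to a matrix with a standard first eigenvector. -/
theorem exists_conj {k K : Type*} [Field k] [Field K] [IsAlgClosed K] [Algebra k K] {A : Type*} [CommRing A]
    [Algebra k A] {d : ℕ} (ρ : A →ₐ[k] Matrix (Fin (d + 1)) (Fin (d + 1)) K) :
    ∃ (P Q : Matrix (Fin (d + 1)) (Fin (d + 1)) K) (ρ' : A →ₐ[k] Matrix (Fin (d + 1)) (Fin (d + 1)) K),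
      P * Q = 1 ∧ Q * P = 1 ∧ (∀ a, ρ a * P = P * ρ' a) ∧ ∀ a (r : Fin d), ρ' a r.succ 0 = 0 := by
  classical
  obtain ⟨σ, v, hv, he⟩ := exists_common_eigen ρ
  obtain ⟨i₀, hi₀⟩ := Function.ne_iff.1 hv
  let s : Fin (d + 1) ≃ Fin (d + 1) := Equiv.swap 0 i₀
  let P : Matrix (Fin (d + 1)) (Fin (d + 1)) K :=
    Matrix.of fun r c => if c = 0 then v r else if r = s c then 1 else 0
  have hP : Function.Injective P.mulVec := by
    rw [← Matrix.coe_mulVecLin, ← LinearMap.ker_eq_bot, LinearMap.ker_eq_bot']
    intro x hx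
    have hrow : ∀ r, v r * x 0 + (if s.symm r = 0 then 0 else x (s.symm r)) = 0 := by
      intro r
      have h := congrFun hx r
      simp only [Matrix.coe_mulVecLin, Matrix.mulVec, dotProduct, Pi.zero_apply] at h
      rw [Fintype.sum_eq_add_sum_compl (0 : Fin (d + 1))] at h
      simp only [P, Matrix.of_apply, if_pos] at h
      refine Eq.trans ?_ h
      congr 1
      split_ifs with hs
      · refine (Finset.sum_eq_zero fun c hc => ?_).symm
        have hc0 : c ≠ 0 := by simpa using hc
        rw [if_neg hc0, if_neg, zero_mul]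
        rintro rfl
        exact hc0 (by simpa using hs)
      · rw [Finset.sum_eq_single_of_mem (s.symm r) (by simpa using hs), if_neg hs, if_pos (by simp), one_mul]
        intro c hc hne
        have hc0 : c ≠ 0 := by simpa using hc
        rw [if_neg hc0, if_neg, zero_mul]
        rintro rfl
        exact hne (by simp)
    have h0 : x 0 = 0 := by
      have := hrow i₀
      simp [s] at this
      exact this.resolve_left hi₀
    funext c
    rcases eq_or_ne c 0 with rfl | hc
    · exact h0
    · have := hrow (s c)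
      simpa [h0, hc] using this
  obtain ⟨Q, hQP⟩ : ∃ Q, Q * P = 1 := by
    have := Matrix.mulVec_injective_iff_isUnit.1 hP
    exact this.exists_left_inv
  have hPQ : P * Q = 1 := mul_eq_one_comm.1 hQP
  let ρ' : A →ₐ[k] Matrix (Fin (d + 1)) (Fin (d + 1)) K :=
    { toFun := fun a => Q * ρ a * P
      map_one' := by rw [map_one, mul_one, hQP]
      map_mul' := fun a b => by
        rw [map_mul]
        calc Q * (ρ a * ρ b) * P = Q * ρ a * (P * Q) * ρ b * P := by rw [hPQ, mul_one]; simp only [mul_assoc]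
          _ = _ := by simp only [mul_assoc]
      map_zero' := by simp
      map_add' := fun a b => by rw [map_add, mul_add, add_mul]
      commutes' := fun r => by
        rw [AlgHom.commutes, Algebra.algebraMap_eq_smul_one, Matrix.mul_smul, mul_one, Matrix.smul_mul, hQP] }
  have hconj : ∀ a, ρ a * P = P * ρ' a := fun a => by
    show _ = P * (Q * ρ a * P)
    rw [← mul_assoc, ← mul_assoc, hPQ, one_mul]
  have hcol : ∀ a, (fun r => ρ' a r 0) = fun r => if r = 0 then σ a else 0 := by
    intro a
    apply hP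
    funext r
    have h1 : (P * ρ' a) r 0 = (ρ a * P) r 0 := by rw [hconj]
    calc (P.mulVec fun r => ρ' a r 0) r = (P * ρ' a) r 0 := rfl
      _ = (ρ a * P) r 0 := h1
      _ = ((ρ a).mulVec v) r := rfl
      _ = σ a * v r := congrFun (he a) r
      _ = _ := by
        simp [Matrix.mulVec, dotProduct, P, mul_comm]
        rw [Finset.sum_eq_single 0 (fun x _ hx => by simp [hx]) (fun h => absurd (Finset.mem_univ _) h)]
        simp
  exact ⟨P, Q, ρ', hPQ, hQP, hconj, fun a r => by simpa [Fin.succ_ne_zero] using congrFun (hcol a) r.succ⟩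

variable {k : Type u} [Field k] {X : Scheme.{u}} (p : X ⟶ Spec (CommRingCat.of k))
  (K : Type u) [Field K] [Algebra k K] (L : Subalgebra k K)

theorem scalarHom_sum {F G : X.Modules} {ι : Type*} (t : Finset ι) (c : ι → K) (φ : F ⟶ G) :
    scalarHom p K (∑ i ∈ t, c i) φ = ∑ i ∈ t, scalarHom p K (c i) φ :=
  map_sum (AddMonoidHom.mk' (fun c => scalarHom p K c φ) fun c c' => scalarHom_add_left p K c c' φ) _ _

theorem sm_scalarHom {F G : X.Modules} (c c' : K) (φ : F ⟶ G) :
    sm p K c (bcF p K F) ≫ scalarHom p K c' φ = scalarHom p K (c * c') φ := by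
  rw [scalarHom, scalarHom, ← Category.assoc, ← sm_mul]

theorem scalarHom_sm {F G : X.Modules} (c c' : K) (φ : F ⟶ G) :
    scalarHom p K c φ ≫ sm p K c' (bcF p K G) = scalarHom p K (c * c') φ := by
  rw [sm_comm, sm_scalarHom, mul_comm]

theorem sm_sum {ι : Type*} (t : Finset ι) (c : ι → K) (M : (BrSev.bc p K).Modules) :
    sm p K (∑ i ∈ t, c i) M = ∑ i ∈ t, sm p K (c i) M :=
  map_sum (AddMonoidHom.mk' (fun c => sm p K c M) fun c c' => sm_add p K c c' M) _ _

theorem sm_zero' (M : (BrSev.bc p K).Modules) : sm p K 0 M = 0 := by rw [sm, map_zero, KLin.smulModΓ_zero]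

theorem scalarHom_zero_left {F G : X.Modules} (φ : F ⟶ G) : scalarHom p K 0 φ = 0 := by
  rw [scalarHom, sm_zero', zero_comp]

/-- Morphisms with coefficients in an embedding. -/
def tauA {F G : X.Modules} (hF : Coh.IsQCoh F) (σ : L →ₐ[k] K) :
    letI := ovr p
    (L ⊗[k] (F ⟶ G)) →+ (bcF p K F ⟶ bcF p K G) :=
  letI := ovr p
  TensorProduct.liftAddHom
    (AddMonoidHom.mk' (fun l => AddMonoidHom.mk' (fun φ => scalarHom p K (σ l) φ) (scalarHom_add_right p K (σ l)))
      (fun l l' => AddMonoidHom.ext fun φ => by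
        show scalarHom p K (σ (l + l')) φ = scalarHom p K (σ l) φ + scalarHom p K (σ l') φ
        rw [map_add, scalarHom_add_left]))
    (fun a l φ => by
      show scalarHom p K (σ (a • l)) φ = scalarHom p K (σ l) (a • φ)
      rw [scalarHom_smul p K hF, map_smul, Algebra.smul_def, mul_comm])

theorem tauA_tmul {F G : X.Modules} (hF : Coh.IsQCoh F) (σ : L →ₐ[k] K) (l : L) (φ : F ⟶ G) :
    letI := ovr p
    tauA p K L hF σ (l ⊗ₜ[k] φ) = scalarHom p K (σ l) φ := rfl

/-- An automorphism extending an embedding transports the morphisms with coefficients. -/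
theorem sig_tau {F G : X.Modules} (hF : Coh.IsQCoh F) (σ : L →ₐ[k] K) (s : K ≃ₐ[k] K) (hs : ∀ l : L, s l = σ l)
    (u : letI := ovr p; L ⊗[k] (F ⟶ G)) :
    (Scheme.Modules.pullback (sigX p K s)).map (tau p K L hF u) ≫ (sigBc p K s G).hom =
      (sigBc p K s F).hom ≫ tauA p K L hF σ u := by
  letI := ovr p
  induction u using TensorProduct.induction_on with
  | zero => simp
  | add a b ha hb => rw [map_add, map_add, Functor.map_add, Preadditive.add_comp, Preadditive.comp_add, ha, hb]
  | tmul l φ => rw [tau_tmul, tauA_tmul, sig_scalarHom, hs]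

variable {d : ℕ}

/-- Morphisms with coefficients in commuting matrices. -/
def coef {F G : X.Modules} (hF : Coh.IsQCoh F) (ρ : L →ₐ[k] Matrix (Fin d) (Fin d) K) :
    letI := ovr p
    (L ⊗[k] (F ⟶ G)) →+ ((⨁ fun _ : Fin d => bcF p K F) ⟶ ⨁ fun _ : Fin d => bcF p K G) :=
  letI := ovr p
  TensorProduct.liftAddHom
    (AddMonoidHom.mk' (fun l => AddMonoidHom.mk' (fun φ => biproduct.matrix fun i j => scalarHom p K (ρ l j i) φ)
        (fun φ φ' => by
          apply biproduct.hom_ext; intro j; apply biproduct.hom_ext'; intro i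
          simp [scalarHom_add_right]))
      (fun l l' => AddMonoidHom.ext fun φ => by
        apply biproduct.hom_ext; intro j; apply biproduct.hom_ext'; intro i
        simp [scalarHom_add_left]))
    (fun a l φ => by
      apply biproduct.hom_ext; intro j; apply biproduct.hom_ext'; intro i
      simp only [AddMonoidHom.mk'_apply, AddMonoidHom.coe_mk, ZeroHom.coe_mk, biproduct.matrix_π, biproduct.ι_desc]
      rw [scalarHom_smul p K hF, map_smul, Matrix.smul_apply, Algebra.smul_def, mul_comm])

theorem coef_tmul {F G : X.Modules} (hF : Coh.IsQCoh F) (ρ : L →ₐ[k] Matrix (Fin d) (Fin d) K) (l : L)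
    (φ : F ⟶ G) :
    letI := ovr p
    coef p K L hF ρ (l ⊗ₜ[k] φ) = biproduct.matrix fun i j => scalarHom p K (ρ l j i) φ := rfl

/-- Composites of morphisms with coefficients. -/
theorem exists_comp' {F G H : X.Modules} (hF : Coh.IsQCoh F) (hG : Coh.IsQCoh G) :
    letI := ovr p
    ∀ (u : L ⊗[k] (F ⟶ G)) (v : L ⊗[k] (G ⟶ H)), ∃ w : L ⊗[k] (F ⟶ H),
      tau p K L hF u ≫ tau p K L hG v = tau p K L hF w ∧
      ∀ (d : ℕ) (ρ : L →ₐ[k] Matrix (Fin d) (Fin d) K),
        coef p K L hF ρ u ≫ coef p K L hG ρ v = coef p K L hF ρ w := by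
  letI := ovr p
  intro u v
  induction u using TensorProduct.induction_on with
  | zero => exact ⟨0, by simp, fun d ρ => by simp⟩
  | add u₁ u₂ h₁ h₂ =>
    obtain ⟨w₁, a₁, b₁⟩ := h₁
    obtain ⟨w₂, a₂, b₂⟩ := h₂
    exact ⟨w₁ + w₂, by rw [map_add, Preadditive.add_comp, a₁, a₂, map_add],
      fun d ρ => by rw [map_add, Preadditive.add_comp, b₁, b₂, map_add]⟩
  | tmul l φ =>
    induction v using TensorProduct.induction_on with
    | zero => exact ⟨0, by simp, fun d ρ => by simp⟩
    | add v₁ v₂ h₁ h₂ =>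
      obtain ⟨w₁, a₁, b₁⟩ := h₁
      obtain ⟨w₂, a₂, b₂⟩ := h₂
      exact ⟨w₁ + w₂, by rw [map_add, Preadditive.comp_add, a₁, a₂, map_add],
        fun d ρ => by rw [map_add, Preadditive.comp_add, b₁, b₂, map_add]⟩
    | tmul m ψ =>
      refine ⟨(l * m) ⊗ₜ (φ ≫ ψ), by rw [tau_tmul, tau_tmul, tau_tmul, scalarHom_comp, Subalgebra.coe_mul],
        fun d ρ => ?_⟩
      rw [coef_tmul, coef_tmul, coef_tmul, mul_comm l m, map_mul]
      apply biproduct.hom_ext; intro j; apply biproduct.hom_ext'; intro i
      simp only [Category.assoc, biproduct.matrix_π, biproduct.ι_matrix_assoc, biproduct.ι_matrix,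
        biproduct.ι_desc, biproduct.lift_desc, biproduct.lift_π, Matrix.mul_apply, scalarHom_sum, scalarHom_comp]
      exact Finset.sum_congr rfl fun q _ => by rw [mul_comm]

/-- A scalar matrix on copies of a base change. -/
def smat (A : Matrix (Fin d) (Fin d) K) (G : X.Modules) :
    (⨁ fun _ : Fin d => bcF p K G) ⟶ ⨁ fun _ : Fin d => bcF p K G :=
  biproduct.matrix fun i j => sm p K (A j i) (bcF p K G)

theorem smat_comp (A B : Matrix (Fin d) (Fin d) K) (G : X.Modules) :
    smat p K A G ≫ smat p K B G = smat p K (B * A) G := by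
  apply biproduct.hom_ext; intro j; apply biproduct.hom_ext'; intro i
  simp only [smat, Category.assoc, biproduct.matrix_π, biproduct.ι_matrix_assoc, biproduct.ι_matrix,
    biproduct.ι_desc, biproduct.lift_desc, biproduct.lift_π, Matrix.mul_apply, ← sm_mul]
  rw [sm_sum]
  exact Finset.sum_congr rfl fun q _ => by rw [mul_comm]

theorem smat_one (G : X.Modules) : smat p K (1 : Matrix (Fin d) (Fin d) K) G = 𝟙 _ := by
  apply biproduct.hom_ext; intro j; apply biproduct.hom_ext'; intro i
  by_cases h : i = j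
  · subst h; simp [smat, sm_one]
  · simp [smat, biproduct.ι_π_ne _ h, Matrix.one_apply_ne (Ne.symm h), sm_zero']

/-- A scalar matrix as an isomorphism. -/
def smatIso {A B : Matrix (Fin d) (Fin d) K} (hAB : A * B = 1) (hBA : B * A = 1) (G : X.Modules) :
    (⨁ fun _ : Fin d => bcF p K G) ≅ ⨁ fun _ : Fin d => bcF p K G where
  hom := smat p K A G
  inv := smat p K B G
  hom_inv_id := by rw [smat_comp, hBA, smat_one]
  inv_hom_id := by rw [smat_comp, hAB, smat_one]

theorem coef_conj {F G : X.Modules} (hF : Coh.IsQCoh F) {ρ ρ' : L →ₐ[k] Matrix (Fin d) (Fin d) K}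
    {A : Matrix (Fin d) (Fin d) K} (h : ∀ l, ρ l * A = A * ρ' l) (u : letI := ovr p; L ⊗[k] (F ⟶ G)) :
    smat p K A F ≫ coef p K L hF ρ u = coef p K L hF ρ' u ≫ smat p K A G := by
  letI := ovr p
  induction u using TensorProduct.induction_on with
  | zero => simp
  | add a b ha hb => rw [map_add, map_add, Preadditive.comp_add, Preadditive.add_comp, ha, hb]
  | tmul l φ =>
    rw [coef_tmul, coef_tmul]
    apply biproduct.hom_ext; intro j; apply biproduct.hom_ext'; intro i
    simp only [smat, Category.assoc, biproduct.matrix_π, biproduct.ι_matrix_assoc, biproduct.ι_matrix,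
      biproduct.ι_desc, biproduct.lift_desc, biproduct.lift_π, sm_scalarHom, scalarHom_sm, ← scalarHom_sum]
    congr 1
    have := congrFun (congrFun (h l) j) i
    simp only [Matrix.mul_apply] at this
    exact ((Finset.sum_congr rfl fun x _ => mul_comm _ _).trans this).trans (Finset.sum_congr rfl fun x _ => mul_comm _ _)

/-- The first entry of a triangular family. -/
def headHom (ρ : L →ₐ[k] Matrix (Fin (d + 1)) (Fin (d + 1)) K) (h : ∀ l (r : Fin d), ρ l r.succ 0 = 0) :
    L →ₐ[k] K where
  toFun l := ρ l 0 0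
  map_one' := by rw [map_one, Matrix.one_apply_eq]
  map_mul' a b := by rw [map_mul, Matrix.mul_apply, Fin.sum_univ_succ]; simp [h]
  map_zero' := by rw [map_zero, Matrix.zero_apply]
  map_add' a b := by rw [map_add, Matrix.add_apply]
  commutes' r := by rw [AlgHom.commutes, Matrix.algebraMap_matrix_apply, if_pos rfl]

/-- The remaining block of a triangular family. -/
def tailHom (ρ : L →ₐ[k] Matrix (Fin (d + 1)) (Fin (d + 1)) K) (h : ∀ l (r : Fin d), ρ l r.succ 0 = 0) :
    L →ₐ[k] Matrix (Fin d) (Fin d) K where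
  toFun l := (ρ l).submatrix Fin.succ Fin.succ
  map_one' := by rw [map_one, Matrix.submatrix_one _ (Fin.succ_injective _)]
  map_mul' a b := by
    ext i j
    rw [map_mul]
    simp [Matrix.mul_apply, Fin.sum_univ_succ, h]
  map_zero' := by rw [map_zero]; rfl
  map_add' a b := by rw [map_add]; rfl
  commutes' r := by
    ext i j
    simp [Matrix.algebraMap_matrix_apply, Fin.succ_inj]

/-- The projection off the first copy. -/
abbrev qTail (d : ℕ) (F : (BrSev.bc p K).Modules) : (⨁ fun _ : Fin (d + 1) => F) ⟶ ⨁ fun _ : Fin d => F :=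
  biproduct.lift fun j => biproduct.π (fun _ : Fin (d + 1) => F) j.succ

/-- The inclusion of the other copies. -/
abbrev sTail (d : ℕ) (F : (BrSev.bc p K).Modules) : (⨁ fun _ : Fin d => F) ⟶ ⨁ fun _ : Fin (d + 1) => F :=
  biproduct.desc fun j => biproduct.ι (fun _ : Fin (d + 1) => F) j.succ

theorem sTail_qTail (F : (BrSev.bc p K).Modules) : sTail p K d F ≫ qTail p K d F = 𝟙 _ := by
  apply biproduct.hom_ext; intro j; apply biproduct.hom_ext'; intro i
  by_cases h : i = j
  · subst h; simp
  · simp [biproduct.ι_π_ne _ h, biproduct.ι_π_ne _ (fun e => h (Fin.succ_injective _ e))]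

theorem tail_total (F : (BrSev.bc p K).Modules) :
    biproduct.π (fun _ : Fin (d + 1) => F) 0 ≫ biproduct.ι (fun _ : Fin (d + 1) => F) 0 +
      qTail p K d F ≫ sTail p K d F = 𝟙 _ := by
  rw [biproduct.lift_desc, ← biproduct.total, Fin.sum_univ_succ]

theorem ι_qTail (F : (BrSev.bc p K).Modules) :
    biproduct.ι (fun _ : Fin (d + 1) => F) 0 ≫ qTail p K d F = 0 := by
  apply biproduct.hom_ext; intro j
  simp [biproduct.ι_π_ne _ (Fin.succ_ne_zero j).symm]

theorem ι_coef {F G : X.Modules} (hF : Coh.IsQCoh F) (ρ : L →ₐ[k] Matrix (Fin (d + 1)) (Fin (d + 1)) K)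
    (h : ∀ l (r : Fin d), ρ l r.succ 0 = 0) (u : letI := ovr p; L ⊗[k] (F ⟶ G)) :
    biproduct.ι (fun _ : Fin (d + 1) => bcF p K F) 0 ≫ coef p K L hF ρ u =
      tauA p K L hF (headHom K L ρ h) u ≫ biproduct.ι (fun _ : Fin (d + 1) => bcF p K G) 0 := by
  letI := ovr p
  induction u using TensorProduct.induction_on with
  | zero => simp
  | add a b ha hb => rw [map_add, map_add, Preadditive.comp_add, Preadditive.add_comp, ha, hb]
  | tmul l φ =>
    rw [coef_tmul, tauA_tmul]
    apply biproduct.hom_ext; intro j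
    induction j using Fin.cases with
    | zero => simp [headHom]
    | succ j => simp [h, scalarHom_zero_left, biproduct.ι_π_ne _ (Fin.succ_ne_zero j).symm]

theorem coef_qTail {F G : X.Modules} (hF : Coh.IsQCoh F) (ρ : L →ₐ[k] Matrix (Fin (d + 1)) (Fin (d + 1)) K)
    (h : ∀ l (r : Fin d), ρ l r.succ 0 = 0) (u : letI := ovr p; L ⊗[k] (F ⟶ G)) :
    coef p K L hF ρ u ≫ qTail p K d (bcF p K G) =
      qTail p K d (bcF p K F) ≫ coef p K L hF (tailHom K L ρ h) u := by
  letI := ovr p
  induction u using TensorProduct.induction_on with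
  | zero => simp
  | add a b ha hb => rw [map_add, map_add, Preadditive.add_comp, Preadditive.comp_add, ha, hb]
  | tmul l φ =>
    rw [coef_tmul, coef_tmul]
    apply biproduct.hom_ext; intro j; apply biproduct.hom_ext'; intro i
    induction i using Fin.cases with
    | zero =>
      rw [Category.assoc, Category.assoc, ← Category.assoc (biproduct.ι (fun _ : Fin (d + 1) => bcF p K F) 0)
        (qTail p K d (bcF p K F)), ι_qTail]
      simp [h, scalarHom_zero_left]
    | succ i =>
      have hh : biproduct.ι (fun _ : Fin (d + 1) => bcF p K F) i.succ ≫ qTail p K d (bcF p K F) =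
          biproduct.ι (fun _ : Fin d => bcF p K F) i := by
        apply biproduct.hom_ext; intro q
        by_cases e : i = q
        · subst e; simp
        · simp [biproduct.ι_π_ne _ e, biproduct.ι_π_ne _ (fun e' => e (Fin.succ_injective _ e'))]
      rw [Category.assoc, Category.assoc, ← Category.assoc (biproduct.ι (fun _ : Fin (d + 1) => bcF p K F) i.succ)
        (qTail p K d (bcF p K F)), hh]
      simp [tailHom]

variable (β : Module.Basis (Fin d) k L)

/-- The regular representation. -/
def regHom : L →ₐ[k] Matrix (Fin d) (Fin d) K :=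
  (Algebra.ofId k K).mapMatrix.comp (Algebra.leftMulMatrix β)

/-- Base change commutes with copies. -/
def bcBiprod (G : X.Modules) : bcF p K (⨁ fun _ : Fin d => G) ≅ ⨁ fun _ : Fin d => bcF p K G :=
  haveI : (Scheme.Modules.pullback (BrSev.proj p K)).IsLeftAdjoint :=
    (Scheme.Modules.pullbackPushforwardAdjunction _).isLeftAdjoint
  haveI : PreservesBiproduct (fun _ : Fin d => G) (Scheme.Modules.pullback (BrSev.proj p K)) :=
    preservesBiproduct_of_preservesCoproduct _
  (Scheme.Modules.pullback (BrSev.proj p K)).mapBiproduct (fun _ : Fin d => G)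

theorem bc_mu {F G : X.Modules} (hF : Coh.IsQCoh F) (u : letI := ovr p; L ⊗[k] (F ⟶ G)) :
    bcMap p K (mu p K L β u) ≫ (bcBiprod p K G).hom = (bcBiprod p K F).hom ≫ coef p K L hF (regHom K L β) u := by
  letI := ovr p
  induction u using TensorProduct.induction_on with
  | zero => simp [bcMap]
  | add a b ha hb =>
    rw [map_add, map_add, Preadditive.comp_add, ← ha, ← hb, bcMap, Functor.map_add, Preadditive.add_comp]
  | tmul l φ =>
    rw [mu_tmul, coef_tmul, ← Iso.inv_comp_eq]
    apply biproduct.hom_ext; intro j; apply biproduct.hom_ext'; intro i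
    simp only [bcBiprod, Functor.mapBiproduct_hom, Functor.mapBiproduct_inv, Category.assoc, biproduct.lift_π,
      biproduct.ι_desc_assoc, biproduct.matrix_π, biproduct.ι_desc]
    rw [← Functor.map_comp, ← Functor.map_comp, biproduct.matrix_π, biproduct.ι_desc, regHom]
    rw [show (((Algebra.ofId k K).mapMatrix.comp (Algebra.leftMulMatrix β)) l j i : K) =
      algebraMap k K (Algebra.leftMulMatrix β l j i) from rfl, ← scalarHom_algebraMap p K hF,
      scalarHom, sm_one, Category.id_comp]

end Groth.Agent.ASB
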