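import Mathlib.CategoryTheory.Abelian.Basic
import Mathlib.Algebra.Homology.ShortComplex.Exact
import Mathlib.CategoryTheory.Linear.Basic
import Mathlib.LinearAlgebra.Dimension.Finite
import Mathlib.LinearAlgebra.FiniteDimensional.Lemmas
import Mathlib.CategoryTheory.Preadditive.Biproducts
import Mathlib.CategoryTheory.IsomorphismClasses
import Mathlib.CategoryTheory.Idempotents.Basic
import Mathlib.CategoryTheory.Limits.Shapes.BinaryBiproducts
import Mathlib.RingTheory.IntegralClosure.IsIntegral.Basic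
import Mathlib.RingTheory.IntegralClosure.Algebra.Basic
import Mathlib.FieldTheory.Minpoly.Basic
import Mathlib.RingTheory.LocalRing.Basic
import Mathlib.RingTheory.Polynomial.Basic
import Mathlib.Algebra.Polynomial.FieldDivision

/-!
# Krull–Schmidt for objects with finite-dimensional endomorphism rings
-/

universe v u w

open CategoryTheory CategoryTheory.Limits

set_option backward.isDefEq.respectTransparency false
set_option backward.isDefEq.respectTransparency.types false
set_option linter.style.haveILetI false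

noncomputable section

namespace Groth.Agent.ASB

section Algebra

open Polynomial

/-- An element of a finite-dimensional algebra without idempotents is nilpotent or a unit. -/
theorem isNilpotent_or_isUnit {k : Type w} [Field k] {A : Type v} [Ring A] [Algebra k A] [Module.Finite k A]
    (hA : ∀ e : A, IsIdempotentElem e → e = 0 ∨ e = 1) (x : A) : IsNilpotent x ∨ IsUnit x := by
  have hx : IsIntegral k x := Algebra.IsIntegral.isIntegral x
  obtain ⟨n, q, hq, hdvd⟩ : ∃ (n : ℕ) (q : k[X]), minpoly k x = X ^ n * q ∧ ¬ X ∣ q := by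
    obtain ⟨q, hq, hdvd⟩ := exists_eq_pow_rootMultiplicity_mul_and_not_dvd (minpoly k x) (minpoly.ne_zero hx) 0
    rw [map_zero, sub_zero] at hq hdvd
    exact ⟨_, q, hq, hdvd⟩
  obtain ⟨a, b, hab⟩ : IsCoprime (X ^ n) q :=
    ((prime_X (R := k)).coprime_iff_not_dvd.2 hdvd).pow_left
  have h0 : x ^ n * aeval x q = 0 := by
    have h := minpoly.aeval k x
    rwa [hq, map_mul, map_pow, aeval_X] at h
  have h1 : aeval x a * x ^ n + aeval x b * aeval x q = 1 := by
    have h := congrArg (aeval x) hab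
    rwa [map_add, map_mul, map_mul, map_pow, aeval_X, map_one] at h
  let e := aeval x a * x ^ n
  have he : IsIdempotentElem e := by
    have hz : (aeval x a * x ^ n) * (aeval x b * aeval x q) = 0 := by
      have : aeval x (a * X ^ n * (b * q)) = aeval x (a * b) * (x ^ n * aeval x q) := by
        rw [show a * X ^ n * (b * q) = a * b * (X ^ n * q) by ring, map_mul, map_mul _ (X ^ n) q, map_pow, aeval_X]
      rw [h0, mul_zero, map_mul, map_mul, map_mul, map_pow, aeval_X] at this
      exact this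
    show e * e = e
    calc e * e = e * (1 - aeval x b * aeval x q) := by rw [← h1, add_sub_cancel_right]
      _ = e := by rw [mul_sub, mul_one, hz, sub_zero]
  rcases hA e he with h | h
  · left
    refine ⟨n, ?_⟩
    have hbq : aeval x b * aeval x q = 1 := by rwa [show aeval x a * x ^ n = 0 from h, zero_add] at h1
    calc x ^ n = x ^ n * (aeval x b * aeval x q) := by rw [hbq, mul_one]
      _ = aeval x b * (x ^ n * aeval x q) := by
          have hc : Commute (x ^ n) (aeval x b) := by
            have : (X ^ n : k[X]) * b = b * X ^ n := mul_comm _ _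
            simpa [Commute, SemiconjBy] using congrArg (aeval x) this
          rw [← mul_assoc, hc.eq, mul_assoc]
      _ = 0 := by rw [h0, mul_zero]
  · rcases Nat.eq_zero_or_pos n with rfl | hn
    · right
      have hcx : Commute x (aeval x q) := by
        simpa [Commute, SemiconjBy] using congrArg (aeval x) (mul_comm X q)
      rw [pow_zero, one_mul] at h0
      obtain ⟨c, hc⟩ : ∃ c, q = C (q.coeff 0) + X * c := ⟨q.divX, (by rw [add_comm]; exact (X_mul_divX_add q).symm)⟩
      have hq0 : q.coeff 0 ≠ 0 := fun h' => hdvd (X_dvd_iff.2 h')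
      have hx1 : x * (- algebraMap k A (q.coeff 0)⁻¹ * aeval x c) = 1 := by
        have h2 := h0
        rw [hc, map_add, map_mul, aeval_C, aeval_X] at h2
        have h3 : x * aeval x c = - algebraMap k A (q.coeff 0) := eq_neg_of_add_eq_zero_right h2
        rw [← mul_assoc, mul_neg, (Algebra.commutes _ x).symm, neg_mul, mul_assoc, h3, mul_neg, neg_neg, ← map_mul,
          inv_mul_cancel₀ hq0, map_one]
      have hx2 : (- algebraMap k A (q.coeff 0)⁻¹ * aeval x c) * x = 1 := by
        have hc1 : Commute x (- algebraMap k A (q.coeff 0)⁻¹ * aeval x c) := by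
          refine Commute.mul_right (Commute.neg_right (Algebra.commutes _ x).symm) ?_
          simpa [Commute, SemiconjBy] using congrArg (aeval x) (mul_comm X c)
        rw [← hc1.eq, hx1]
      exact ⟨⟨x, _, hx1, hx2⟩, rfl⟩
    · right
      obtain ⟨m, rfl⟩ : ∃ m, n = m + 1 := ⟨n - 1, by omega⟩
      have hl : aeval x a * x ^ m * x = 1 := by rw [mul_assoc, ← pow_succ]; exact h
      have hr : x * (aeval x a * x ^ m) = 1 := by
        have : Commute x (aeval x a * x ^ m) := by
          refine Commute.mul_right ?_ (Commute.self_pow x m)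
          simpa [Commute, SemiconjBy] using congrArg (aeval x) (mul_comm X a)
        rw [this.eq, hl]
      exact ⟨⟨x, _, hr, hl⟩, rfl⟩

/-- A finite-dimensional algebra without idempotents is local: the non-units add up to non-units. -/
theorem isUnit_or_of_add {k : Type w} [Field k] {A : Type v} [Ring A] [Algebra k A] [Module.Finite k A]
    (hA : ∀ e : A, IsIdempotentElem e → e = 0 ∨ e = 1) {a b : A} (h : IsUnit (a + b)) :
    IsUnit a ∨ IsUnit b := by
  obtain ⟨u, hu⟩ := h
  rcases isNilpotent_or_isUnit (k := k) hA (a * (↑u⁻¹ : A)) with h1 | h1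
  · right
    have h2 : IsUnit (b * (↑u⁻¹ : A)) := by
      have : b * (↑u⁻¹ : A) = 1 - a * (↑u⁻¹ : A) := by
        rw [eq_sub_iff_add_eq', ← add_mul, ← hu, Units.mul_inv]
      rw [this]
      exact h1.isUnit_one_sub
    simpa [mul_assoc] using h2.mul u.isUnit
  · left
    simpa [mul_assoc] using h1.mul u.isUnit

end Algebra

section Cat

variable {C : Type u} [Category.{v} C] [Abelian C]

/-- Indecomposable objects. -/
def Indec (X : C) : Prop := ¬ IsZero X ∧ ∀ A B : C, Nonempty (X ≅ A ⊞ B) → IsZero A ∨ IsZero B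

theorem indec_of_iso {X Y : C} (e : X ≅ Y) (h : Indec X) : Indec Y :=
  ⟨fun hY => h.1 (hY.of_iso e), fun A B ⟨f⟩ => h.2 A B ⟨e ≪≫ f⟩⟩

/-- A split monomorphism cuts out a summand. -/
theorem exists_split {A X : C} (i : A ⟶ X) (r : X ⟶ A) (h : i ≫ r = 𝟙 A) :
    ∃ (B : C) (e : X ≅ A ⊞ B), biprod.inl ≫ e.inv = i ∧ e.hom ≫ biprod.fst = r := by
  haveI : Mono i := SplitMono.mono ⟨r, h⟩
  let S : ShortComplex C := ShortComplex.mk i (cokernel.π i) (cokernel.condition i)
  have hS : S.Exact := S.exact_of_g_is_cokernel (cokernelIsCokernel i)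
  let sp : S.Splitting := ShortComplex.Splitting.ofExactOfRetraction S hS r h inferInstance
  exact ⟨cokernel i, sp.isoBinaryBiproduct, by simp [sp, ShortComplex.Splitting.isoBinaryBiproduct, S],
    by simp [sp, ShortComplex.Splitting.isoBinaryBiproduct, ShortComplex.Splitting.ofExactOfRetraction, S]⟩

theorem idem_of_indec' {X : C} (hX : Indec X) (e : X ⟶ X) (he' : e ≫ e = e) : e = 0 ∨ e = 𝟙 X := by
  have hsplit : e ≫ (𝟙 X - e) = 0 := by rw [Preadditive.comp_sub, Category.comp_id, he', sub_self]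
  let q : X ⟶ kernel (𝟙 X - e) := kernel.lift _ e hsplit
  have hq : q ≫ kernel.ι _ = e := kernel.lift_ι _ _ _
  have hιe : kernel.ι (𝟙 X - e) ≫ e = kernel.ι (𝟙 X - e) := by
    have := kernel.condition (𝟙 X - e)
    rw [Preadditive.comp_sub, Category.comp_id, sub_eq_zero] at this
    exact this.symm
  have hιq : kernel.ι (𝟙 X - e) ≫ q = 𝟙 _ := by
    rw [← cancel_mono (kernel.ι (𝟙 X - e)), Category.assoc, hq, hιe, Category.id_comp]
  obtain ⟨B, f, hf₁, hf₂⟩ := exists_split _ q hιq
  rcases hX.2 _ _ ⟨f⟩ with h | h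
  · left
    exact hq.symm.trans (by rw [h.eq_of_tgt q 0, zero_comp])
  · right
    have hfst : (biprod.fst : kernel (𝟙 X - e) ⊞ B ⟶ _) ≫ biprod.inl = 𝟙 _ := by
      refine (eq_sub_of_add_eq biprod.total).trans ?_
      rw [h.eq_of_tgt biprod.snd 0, zero_comp, sub_zero]
    rw [← hq, ← hf₂, ← hf₁, Category.assoc, ← Category.assoc biprod.fst, hfst, Category.id_comp, f.hom_inv_id]

theorem idem_of_indec {X : C} (hX : Indec X) (e : End X) (he : IsIdempotentElem e) : e = 0 ∨ e = 1 :=
  idem_of_indec' hX e he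

variable (k : Type w) [Field k] [Linear k C]

theorem isIso_or_of_indec {X : C} (hX : Indec X) [Module.Finite k (X ⟶ X)] (f g : X ⟶ X) (h : IsIso (f + g)) :
    IsIso f ∨ IsIso g := by
  haveI : Module.Finite k (End X) := ‹Module.Finite k (X ⟶ X)›
  rcases isUnit_or_of_add (k := k) (A := End X) (idem_of_indec hX) ((isUnit_iff_isIso (f + g)).2 h) with h | h
  · exact Or.inl ((isUnit_iff_isIso f).1 h)
  · exact Or.inr ((isUnit_iff_isIso g).1 h)

theorem isIso_or_isNilpotent {X : C} (hX : Indec X) [Module.Finite k (X ⟶ X)] (f : End X) :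
    IsNilpotent f ∨ IsIso f := by
  haveI : Module.Finite k (End X) := ‹Module.Finite k (X ⟶ X)›
  exact (isNilpotent_or_isUnit (k := k) (idem_of_indec hX) f).imp id (isUnit_iff_isIso f).1

/-- An indecomposable with a retraction onto a nonzero object is isomorphic to it. -/
theorem iso_of_split {A X : C} (hX : Indec X) (hA : ¬ IsZero A) (i : A ⟶ X) (r : X ⟶ A) (h : i ≫ r = 𝟙 A) :
    Nonempty (A ≅ X) := by
  obtain ⟨B, e, h₁, h₂⟩ := exists_split i r h
  rcases hX.2 _ _ ⟨e⟩ with h' | h'
  · exact absurd h' hA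
  · have hfst : (biprod.fst : A ⊞ B ⟶ A) ≫ biprod.inl = 𝟙 _ := by
      refine (eq_sub_of_add_eq biprod.total).trans ?_
      rw [h'.eq_of_tgt biprod.snd 0, zero_comp, sub_zero]
    refine ⟨⟨i, r, h, ?_⟩⟩
    rw [← h₁, ← h₂, Category.assoc, ← Category.assoc biprod.fst, hfst, Category.id_comp, e.hom_inv_id]

variable {k}

/-- The sum of a list of objects. -/
def sumL : List C → C
  | [] => ⊤_ C
  | X :: l => X ⊞ sumL l

/-- The inclusion of the first summand. -/
abbrev iS (X : C) (l : List C) : X ⟶ sumL (X :: l) := biprod.inl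

/-- The inclusion of the other summands. -/
abbrev iT (X : C) (l : List C) : sumL l ⟶ sumL (X :: l) := biprod.inr

/-- The projection to the first summand. -/
abbrev pS (X : C) (l : List C) : sumL (X :: l) ⟶ X := biprod.fst

/-- The projection to the other summands. -/
abbrev pT (X : C) (l : List C) : sumL (X :: l) ⟶ sumL l := biprod.snd

theorem iS_pS (X : C) (l : List C) : iS X l ≫ pS X l = 𝟙 X := biprod.inl_fst
theorem iS_pT (X : C) (l : List C) : iS X l ≫ pT X l = 0 := biprod.inl_snd
theorem iT_pS (X : C) (l : List C) : iT X l ≫ pS X l = 0 := biprod.inr_fst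
theorem iT_pT (X : C) (l : List C) : iT X l ≫ pT X l = 𝟙 _ := biprod.inr_snd
theorem totalS (X : C) (l : List C) : pS X l ≫ iS X l + pT X l ≫ iT X l = 𝟙 _ := biprod.total

theorem isZero_top : IsZero (⊤_ C) := (isZero_zero C).of_iso (IsZero.iso (by
  exact (IsTerminal.isZero terminalIsTerminal)) (isZero_zero C))

theorem sumL_append (l l' : List C) : Nonempty (sumL (l ++ l') ≅ sumL l ⊞ sumL l') := by
  induction l with
  | nil =>
    refine ⟨{ hom := biprod.inr, inv := biprod.snd, inv_hom_id := ?_ }⟩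
    refine (eq_sub_of_add_eq' biprod.total).trans ?_
    erw [(isZero_top (C := C)).eq_of_tgt (biprod.fst : (⊤_ C) ⊞ sumL l' ⟶ _) 0, zero_comp, sub_zero]
    rfl
  | cons X l ih =>
    obtain ⟨e⟩ := ih
    exact ⟨biprod.mapIso (Iso.refl X) e ≪≫ (biprod.associator X (sumL l) (sumL l')).symm⟩

theorem sumL_perm {l l' : List C} (h : l.Perm l') : Nonempty (sumL l ≅ sumL l') := by
  induction h with
  | nil => exact ⟨Iso.refl _⟩
  | cons X _ ih => exact ih.map fun e => biprod.mapIso (Iso.refl X) e
  | swap X Y l =>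
    exact ⟨(biprod.associator Y X (sumL l)).symm ≪≫ biprod.mapIso (biprod.braiding Y X) (Iso.refl _) ≪≫
      biprod.associator X Y (sumL l)⟩
  | trans _ _ ih₁ ih₂ =>
    obtain ⟨e₁⟩ := ih₁
    obtain ⟨e₂⟩ := ih₂
    exact ⟨e₁ ≪≫ e₂⟩

/-- The exchange lemma. -/
theorem exists_iso_component (k : Type w) [Field k] [Linear k C] {X : C} (hX : Indec X) [Module.Finite k (X ⟶ X)] :
    ∀ (l : List C) (i : X ⟶ sumL l) (r : sumL l ⟶ X), IsIso (i ≫ r) →
      ∃ (l₁ : List C) (Y : C) (l₂ : List C) (a : X ⟶ Y) (b : Y ⟶ X), l = l₁ ++ Y :: l₂ ∧ IsIso (a ≫ b)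
  | [], i, r, h => by
    refine absurd ((IsZero.iff_id_eq_zero X).2 ?_) hX.1
    have h0 : i ≫ r = 0 := by
      have hi : i = 0 := isZero_top.eq_of_tgt i 0
      rw [hi, zero_comp]
    haveI := h
    refine (IsIso.hom_inv_id (i ≫ r)).symm.trans ?_
    rw [show (i ≫ r) ≫ inv (i ≫ r) = (0 : X ⟶ X) ≫ inv (i ≫ r) from congrArg (· ≫ inv (i ≫ r)) h0, zero_comp]
  | Y :: l, i, r, h => by
    have hsum : i ≫ r = (i ≫ pS Y l) ≫ (iS Y l ≫ r) + (i ≫ pT Y l) ≫ (iT Y l ≫ r) := by
      conv_lhs => rw [← Category.comp_id i, ← totalS Y l]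
      rw [Preadditive.comp_add, Preadditive.add_comp, Category.assoc, Category.assoc, Category.assoc, Category.assoc,
        Category.assoc, Category.assoc]
    rw [hsum] at h
    rcases isIso_or_of_indec k hX _ _ h with h1 | h1
    · exact ⟨[], Y, l, _, _, rfl, h1⟩
    · obtain ⟨l₁, Z, l₂, a, b, hl, hab⟩ := exists_iso_component k hX l _ _ h1
      exact ⟨Y :: l₁, Z, l₂, a, b, by rw [hl]; rfl, hab⟩

variable (k)

/-- The classes of a list. -/
def clsL (l : List C) : Multiset (Quotient (isIsomorphicSetoid C)) := ↑(l.map (Quotient.mk (isIsomorphicSetoid C)))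

theorem finite_of_retract {A X : C} [Module.Finite k (X ⟶ X)] (i : A ⟶ X) (r : X ⟶ A) (h : i ≫ r = 𝟙 A) :
    Module.Finite k (A ⟶ A) := by
  refine Module.Finite.of_surjective (Linear.leftComp k A i ∘ₗ Linear.rightComp k X r) fun f => ⟨r ≫ f ≫ i, ?_⟩
  simp [Linear.leftComp, Linear.rightComp, reassoc_of% h, h]

theorem finite_head {X : C} {l : List C} [Module.Finite k (sumL (X :: l) ⟶ sumL (X :: l))] :
    Module.Finite k (X ⟶ X) :=
  finite_of_retract k (iS X l) (pS X l) (iS_pS X l)

theorem finite_tail {X : C} {l : List C} [Module.Finite k (sumL (X :: l) ⟶ sumL (X :: l))] :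
    Module.Finite k (sumL l ⟶ sumL l) :=
  finite_of_retract k (iT X l) (pT X l) (iT_pT X l)

/-- The Krull–Schmidt theorem: uniqueness. -/
theorem clsL_eq : ∀ (l l' : List C), (∀ X ∈ l, Indec X) → (∀ X ∈ l', Indec X) →
    ∀ [Module.Finite k (sumL l ⟶ sumL l)], Nonempty (sumL l ≅ sumL l') → clsL l = clsL l'
  | [], [], _, _, _, _ => rfl
  | [], Y :: l', _, hl', _, ⟨e⟩ => by
    refine absurd ((IsZero.iff_id_eq_zero Y).2 ?_) (hl' Y (List.mem_cons_self ..)).1
    rw [← iS_pS Y l', (isZero_top.of_iso e.symm).eq_of_tgt (iS Y l') 0, Limits.zero_comp]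
  | X :: l, l', hl, hl', hfin, ⟨e⟩ => by
    haveI : Module.Finite k (X ⟶ X) := finite_head k (l := l)
    have hX := hl X (List.mem_cons_self ..)
    obtain ⟨l₁, Y, l₂, a, b, rfl, hab⟩ := exists_iso_component k hX l' (iS X l ≫ e.hom) (e.inv ≫ pS X l)
      (by rw [Category.assoc, e.hom_inv_id_assoc, iS_pS]; infer_instance)
    obtain ⟨φ⟩ := iso_of_split (hl' Y (by simp)) hX.1 a (b ≫ inv (a ≫ b))
      (by rw [← Category.assoc, IsIso.hom_inv_id])
    have hperm : (l₁ ++ Y :: l₂).Perm (Y :: (l₁ ++ l₂)) := List.perm_middle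
    obtain ⟨ep⟩ := sumL_perm hperm
    let e' : sumL (X :: l) ≅ sumL (Y :: (l₁ ++ l₂)) := e ≪≫ ep
    -- exchange against the first summand
    haveI hfin' : Module.Finite k (sumL l ⟶ sumL l) := finite_tail k (X := X)
    have key : ∃ g : sumL (X :: l) ≅ sumL (X :: (l₁ ++ l₂)),
        IsIso (iS X l ≫ g.hom ≫ pS X (l₁ ++ l₂)) := by
      let m : sumL (Y :: (l₁ ++ l₂)) ≅ sumL (X :: (l₁ ++ l₂)) := biprod.mapIso φ.symm (Iso.refl _)
      let g₀ : sumL (X :: l) ≅ sumL (X :: (l₁ ++ l₂)) := e' ≪≫ m
      by_cases hg : IsIso (iS X l ≫ g₀.hom ≫ pS X (l₁ ++ l₂))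
      · exact ⟨g₀, hg⟩
      -- shear so that the first component becomes invertible
      let α : X ⟶ X := iS X l ≫ g₀.hom ≫ pS X (l₁ ++ l₂)
      let β : X ⟶ sumL (l₁ ++ l₂) := iS X l ≫ g₀.hom ≫ pT X (l₁ ++ l₂)
      let γ : X ⟶ X := iS X (l₁ ++ l₂) ≫ g₀.inv ≫ pS X l
      let δ : sumL (l₁ ++ l₂) ⟶ X := iT X (l₁ ++ l₂) ≫ g₀.inv ≫ pS X l
      have hsum : α ≫ γ + β ≫ δ = 𝟙 X := by
        calc α ≫ γ + β ≫ δ = iS X l ≫ g₀.hom ≫
            (pS X (l₁ ++ l₂) ≫ iS X (l₁ ++ l₂) + pT X (l₁ ++ l₂) ≫ iT X (l₁ ++ l₂)) ≫ g₀.inv ≫ pS X l := by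
              simp only [α, β, γ, δ, Preadditive.comp_add, Preadditive.add_comp, Category.assoc]
          _ = 𝟙 X := by rw [totalS, Category.id_comp, g₀.hom_inv_id_assoc, iS_pS]
      have hnil : ¬ IsIso (α ≫ γ) := fun h => by
        rcases isIso_or_isNilpotent k hX α with hn | hn
        · haveI := h
          haveI : IsSplitMono α := IsSplitMono.mk' ⟨γ ≫ inv (α ≫ γ), by rw [← Category.assoc, IsIso.hom_inv_id]⟩
          obtain ⟨n, hn⟩ := hn
          refine hX.1 ((IsZero.iff_id_eq_zero X).2 ?_)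
          let αe : End X := α
          have key : ∀ n : ℕ, αe ^ n = 0 → (1 : End X) = 0 := fun n => by
            induction n with
            | zero => exact fun h => by rwa [pow_zero] at h
            | succ n ih =>
              intro h
              rw [pow_succ'] at h
              refine ih ?_
              exact (cancel_mono α).1 ((show (αe ^ n : End X) ≫ α = 0 from h).trans zero_comp.symm)
          exact key n hn
        · exact hg hn
      have hδ : IsIso (β ≫ δ) :=
        (isIso_or_of_indec k hX _ _ (hsum ▸ (inferInstance : IsIso (𝟙 X)))).resolve_left hnil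
      let sh : sumL (X :: (l₁ ++ l₂)) ≅ sumL (X :: (l₁ ++ l₂)) :=
        Biprod.unipotentLower δ
      refine ⟨g₀ ≪≫ sh, ?_⟩
      have : iS X l ≫ (g₀ ≪≫ sh).hom ≫ pS X (l₁ ++ l₂) = α + β ≫ δ := by
        have hsh : sh.hom ≫ pS X (l₁ ++ l₂) = pS X (l₁ ++ l₂) + pT X (l₁ ++ l₂) ≫ δ := by
          apply biprod.hom_ext' <;> simp [sh, Biprod.unipotentLower, pS, pT]
        rw [Iso.trans_hom, Category.assoc, hsh]
        simp only [α, β, Preadditive.comp_add, Category.assoc]
      rw [this]
      let αe : End X := α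
      obtain ⟨u, hu⟩ := (isUnit_iff_isIso (β ≫ δ)).2 hδ
      have hnu : IsNilpotent ((↑u⁻¹ : End X) * αe) := by
        rcases isIso_or_isNilpotent k hX ((↑u⁻¹ : End X) * αe) with h | h
        · exact h
        · exfalso
          apply hg
          have h' : IsUnit ((↑u⁻¹ : End X) * αe) := (isUnit_iff_isIso _).2 h
          have := u.isUnit.mul h'
          rw [← mul_assoc, Units.mul_inv, one_mul] at this
          exact (isUnit_iff_isIso _).1 this
      refine (isUnit_iff_isIso _).1 ?_
      have hd : (show End X from α + β ≫ δ) = (u : End X) * (1 + (↑u⁻¹ : End X) * αe) := by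
        rw [mul_add, mul_one, ← mul_assoc, Units.mul_inv, one_mul, add_comm]
        show _ = (u : End X) + αe
        rw [hu]
      show IsUnit (show End X from α + β ≫ δ)
      rw [hd]
      exact u.isUnit.mul hnu.isUnit_one_add
    obtain ⟨g, hg⟩ := key
    haveI := hg
    haveI : IsIso ((biprod.inl : X ⟶ X ⊞ sumL l) ≫ g.hom ≫ (biprod.fst : X ⊞ sumL (l₁ ++ l₂) ⟶ X)) := hg
    let er : sumL l ≅ sumL (l₁ ++ l₂) := Biprod.isoElim (X₁ := X) (Y₁ := X) (X₂ := sumL l) (Y₂ := sumL (l₁ ++ l₂)) g
    have ih := clsL_eq l (l₁ ++ l₂) (fun Z hZ => hl Z (List.mem_cons_of_mem _ hZ))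
      (fun Z hZ => hl' Z (by simp at hZ ⊢; tauto)) ⟨er⟩
    unfold clsL at ih ⊢
    rw [Multiset.coe_eq_coe] at ih ⊢
    have hq : Quotient.mk (isIsomorphicSetoid C) X = Quotient.mk (isIsomorphicSetoid C) Y := Quotient.sound ⟨φ⟩
    refine List.Perm.trans ?_ (hperm.map _).symm
    simp only [List.map_cons, hq]
    exact ih.cons _

/-- The Krull–Schmidt theorem: existence. -/
theorem exists_decomp (X : C) [hfin : Module.Finite k (X ⟶ X)] :
    ∃ l : List C, (∀ Y ∈ l, Indec Y) ∧ Nonempty (X ≅ sumL l) := by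
  generalize hn : Module.finrank k (X ⟶ X) = n
  induction n using Nat.strong_induction_on generalizing X hfin with
  | _ n ih =>
    by_cases h0 : IsZero X
    · exact ⟨[], by simp, ⟨h0.iso isZero_top⟩⟩
    by_cases hi : Indec X
    · refine ⟨[X], by simpa using hi, ⟨{ hom := iS X [], inv := pS X [], hom_inv_id := iS_pS X [], inv_hom_id := ?_ }⟩⟩
      refine (eq_sub_of_add_eq (totalS X [])).trans ?_
      rw [(isZero_top (C := C)).eq_of_tgt (pT X []) 0, zero_comp, sub_zero]
    obtain ⟨A, B, ⟨e⟩, hA, hB⟩ : ∃ A B : C, Nonempty (X ≅ A ⊞ B) ∧ ¬ IsZero A ∧ ¬ IsZero B := by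
      by_contra h
      push Not at h
      exact hi ⟨h0, fun A B hAB => by tauto⟩
    have hsum : (e.hom ≫ biprod.fst) ≫ (biprod.inl ≫ e.inv) + (e.hom ≫ biprod.snd) ≫ (biprod.inr ≫ e.inv) = 𝟙 X := by
      have : e.hom ≫ (biprod.fst ≫ biprod.inl + biprod.snd ≫ biprod.inr) ≫ e.inv = 𝟙 X := by
        rw [biprod.total, Category.id_comp, e.hom_inv_id]
      simpa only [Preadditive.comp_add, Preadditive.add_comp, Category.assoc] using this
    have key : ∀ {A B : C} (i : A ⟶ X) (r : X ⟶ A) (j : B ⟶ X) (s : X ⟶ B), i ≫ r = 𝟙 A → j ≫ s = 𝟙 B →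
        i ≫ s = 0 → ¬ IsZero B → Module.finrank k (A ⟶ A) < Module.finrank k (X ⟶ X) := by
      intro A B i r j s hir hjs his hB
      let L : (A ⟶ A) →ₗ[k] (X ⟶ X) := Linear.leftComp k X r ∘ₗ Linear.rightComp k A i
      have hL : ∀ f, L f = r ≫ f ≫ i := fun f => by simp [L, Linear.leftComp, Linear.rightComp]
      have hinj : Function.Injective L := fun f f' h => by
        have := congrArg (fun t => i ≫ t ≫ r) h
        simpa [hL, reassoc_of% hir, hir] using this
      refine (LinearMap.finrank_range_of_inj hinj).symm.trans_lt (Submodule.finrank_lt (fun htop => hB ?_))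
      obtain ⟨f, hf⟩ := LinearMap.range_eq_top.1 htop (𝟙 X)
      rw [IsZero.iff_id_eq_zero]
      calc 𝟙 B = j ≫ 𝟙 X ≫ s := by rw [Category.id_comp, hjs]
        _ = 0 := by rw [← hf, hL]; simp [his]
    haveI hfA : Module.Finite k (A ⟶ A) := finite_of_retract k (biprod.inl ≫ e.inv) (e.hom ≫ biprod.fst) (by simp)
    haveI hfB : Module.Finite k (B ⟶ B) := finite_of_retract k (biprod.inr ≫ e.inv) (e.hom ≫ biprod.snd) (by simp)
    obtain ⟨lA, hlA, ⟨eA⟩⟩ := ih _ (hn ▸ key (biprod.inl ≫ e.inv) (e.hom ≫ biprod.fst) (biprod.inr ≫ e.inv)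
      (e.hom ≫ biprod.snd) (by simp) (by simp) (by simp) hB) A rfl
    obtain ⟨lB, hlB, ⟨eB⟩⟩ := ih _ (hn ▸ key (biprod.inr ≫ e.inv) (e.hom ≫ biprod.snd) (biprod.inl ≫ e.inv)
      (e.hom ≫ biprod.fst) (by simp) (by simp) (by simp) hA) B rfl
    obtain ⟨ea⟩ := sumL_append lA lB
    exact ⟨lA ++ lB, fun Y hY => (List.mem_append.1 hY).elim (hlA Y) (hlB Y),
      ⟨e ≪≫ biprod.mapIso eA eB ≪≫ ea.symm⟩⟩

/-- Iterated copies of a list. -/
theorem clsL_replicate (l : List C) (n : ℕ) : clsL (List.replicate n l).flatten = n • clsL l := by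
  induction n with
  | zero => simp [clsL]
  | succ n ih =>
    rw [List.replicate_succ, List.flatten_cons, succ_nsmul', ← ih]
    simp [clsL, List.map_append]

theorem sumL_replicate (l : List C) (X : C) (e : X ≅ sumL l) :
    ∀ n : ℕ, Nonempty (sumL (List.replicate n X) ≅ sumL (List.replicate n l).flatten)
  | 0 => ⟨Iso.refl _⟩
  | n + 1 => by
    obtain ⟨e'⟩ := sumL_replicate l X e n
    obtain ⟨ea⟩ := sumL_append l (List.replicate n l).flatten
    exact ⟨biprod.mapIso e e' ≪≫ ea.symm⟩

theorem finite_homL (X : C) [Module.Finite k (X ⟶ X)] : ∀ n : ℕ,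
    Module.Finite k (X ⟶ sumL (List.replicate n X)) ∧ Module.Finite k (sumL (List.replicate n X) ⟶ X)
  | 0 => by
    haveI : Subsingleton (X ⟶ sumL (List.replicate 0 X)) := ⟨fun f g => isZero_top.eq_of_tgt f g⟩
    haveI : Subsingleton (sumL (List.replicate 0 X) ⟶ X) := ⟨fun f g => isZero_top.eq_of_src f g⟩
    exact ⟨inferInstance, inferInstance⟩
  | n + 1 => by
    obtain ⟨h1, h2⟩ := finite_homL X n
    constructor
    · let L : ((X ⟶ X) × (X ⟶ sumL (List.replicate n X))) →ₗ[k] (X ⟶ sumL (List.replicate (n + 1) X)) :=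
        (Linear.rightComp k X (iS X (List.replicate n X))).coprod (Linear.rightComp k X (iT X (List.replicate n X)))
      refine Module.Finite.of_surjective L fun f =>
        ⟨(f ≫ pS X (List.replicate n X), f ≫ pT X (List.replicate n X)), ?_⟩
      show (f ≫ pS X (List.replicate n X)) ≫ iS X (List.replicate n X) +
        (f ≫ pT X (List.replicate n X)) ≫ iT X (List.replicate n X) = f
      erw [Category.assoc, Category.assoc, ← Preadditive.comp_add, totalS]
      exact Category.comp_id f
    · let L : ((X ⟶ X) × (sumL (List.replicate n X) ⟶ X)) →ₗ[k] (sumL (List.replicate (n + 1) X) ⟶ X) :=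
        (Linear.leftComp k X (pS X (List.replicate n X))).coprod (Linear.leftComp k X (pT X (List.replicate n X)))
      refine Module.Finite.of_surjective L fun f =>
        ⟨(iS X (List.replicate n X) ≫ f, iT X (List.replicate n X) ≫ f), ?_⟩
      show pS X (List.replicate n X) ≫ iS X (List.replicate n X) ≫ f +
        pT X (List.replicate n X) ≫ iT X (List.replicate n X) ≫ f = f
      erw [← Category.assoc, ← Category.assoc, ← Preadditive.add_comp, totalS]
      exact Category.id_comp f

theorem finite_sumL (X : C) [Module.Finite k (X ⟶ X)] : ∀ n : ℕ,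
    Module.Finite k (sumL (List.replicate n X) ⟶ sumL (List.replicate n X))
  | 0 => by
    haveI : Subsingleton (sumL (List.replicate 0 X) ⟶ sumL (List.replicate 0 X)) :=
      ⟨fun f g => isZero_top.eq_of_tgt f g⟩
    infer_instance
  | n + 1 => by
    haveI := finite_sumL X n
    haveI := (finite_homL k X n).1
    haveI := (finite_homL k X (n + 1)).2
    let L : ((sumL (List.replicate (n + 1) X) ⟶ X) × ((X ⟶ sumL (List.replicate n X)) ×
        (sumL (List.replicate n X) ⟶ sumL (List.replicate n X)))) →ₗ[k]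
        (sumL (List.replicate (n + 1) X) ⟶ sumL (List.replicate (n + 1) X)) :=
      (Linear.rightComp k (sumL (List.replicate (n + 1) X)) (iS X (List.replicate n X))).coprod
        ((Linear.rightComp k (sumL (List.replicate (n + 1) X)) (iT X (List.replicate n X))).comp
          ((Linear.leftComp k _ (pS X (List.replicate n X))).coprod (Linear.leftComp k _ (pT X (List.replicate n X)))))
    refine Module.Finite.of_surjective L fun f =>
      ⟨(f ≫ pS X (List.replicate n X), (iS X (List.replicate n X) ≫ f ≫ pT X (List.replicate n X),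
        iT X (List.replicate n X) ≫ f ≫ pT X (List.replicate n X))), ?_⟩
    show (show sumL (X :: List.replicate n X) ⟶ sumL (X :: List.replicate n X) from
      (f ≫ pS X (List.replicate n X)) ≫ iS X (List.replicate n X)) +
      (pS X (List.replicate n X) ≫ iS X (List.replicate n X) ≫ f ≫ pT X (List.replicate n X) +
        pT X (List.replicate n X) ≫ iT X (List.replicate n X) ≫ f ≫ pT X (List.replicate n X)) ≫
          iT X (List.replicate n X) = f
    erw [← Category.assoc (pS X (List.replicate n X)), ← Category.assoc (pT X (List.replicate n X)),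
      ← Preadditive.add_comp, totalS, Category.id_comp, Category.assoc, Category.assoc, ← Preadditive.comp_add, totalS]
    exact Category.comp_id f

omit [Linear k C] in
/-- Lists with the same classes have isomorphic sums. -/
theorem sumL_of_clsL : ∀ (l l' : List C), clsL l = clsL l' → Nonempty (sumL l ≅ sumL l')
  | [], l', h => by
    have : l' = [] := by simpa [clsL] using h.symm
    exact this ▸ ⟨Iso.refl _⟩
  | X :: l, l', h => by
    have hmem : Quotient.mk (isIsomorphicSetoid C) X ∈ l'.map (Quotient.mk (isIsomorphicSetoid C)) := by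
      have : Quotient.mk (isIsomorphicSetoid C) X ∈ clsL l' := h ▸ (by simp [clsL])
      simpa [clsL] using this
    obtain ⟨Y, hY, hq⟩ := List.mem_map.1 hmem
    obtain ⟨φ⟩ := Quotient.exact hq
    obtain ⟨l₁, l₂, rfl⟩ := List.append_of_mem hY
    obtain ⟨ep⟩ := sumL_perm (C := C) (List.perm_middle (a := Y) (l₁ := l₁) (l₂ := l₂))
    have h' : clsL l = clsL (l₁ ++ l₂) := by
      unfold clsL at h ⊢
      rw [Multiset.coe_eq_coe] at h ⊢
      have h2 := h.trans ((List.perm_middle (a := Y) (l₁ := l₁) (l₂ := l₂)).map (Quotient.mk (isIsomorphicSetoid C)))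
      simp only [List.map_cons, hq] at h2
      exact h2.cons_inv
    obtain ⟨er⟩ := sumL_of_clsL l (l₁ ++ l₂) h'
    exact ⟨biprod.mapIso φ.symm er ≪≫ ep.symm⟩

/-- Cancellation of multiples. -/
theorem iso_of_replicate_iso {X Y : C} [Module.Finite k (X ⟶ X)] [Module.Finite k (Y ⟶ Y)] {n : ℕ} (hn : n ≠ 0)
    (e : sumL (List.replicate n X) ≅ sumL (List.replicate n Y)) : Nonempty (X ≅ Y) := by
  obtain ⟨lX, hlX, ⟨eX⟩⟩ := exists_decomp k X
  obtain ⟨lY, hlY, ⟨eY⟩⟩ := exists_decomp k Y
  obtain ⟨aX⟩ := sumL_replicate lX X eX n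
  obtain ⟨aY⟩ := sumL_replicate lY Y eY n
  haveI := finite_sumL k X n
  haveI : Module.Finite k (sumL (List.replicate n lX).flatten ⟶ sumL (List.replicate n lX).flatten) :=
    finite_of_retract k aX.inv aX.hom aX.inv_hom_id
  have h := clsL_eq k _ _ (fun Z hZ => by simp [List.mem_flatten] at hZ; obtain ⟨-, hZ⟩ := hZ; exact hlX Z hZ)
    (fun Z hZ => by simp [List.mem_flatten] at hZ; obtain ⟨-, hZ⟩ := hZ; exact hlY Z hZ)
    ⟨aX.symm ≪≫ e ≪≫ aY⟩
  rw [clsL_replicate, clsL_replicate] at h
  have h' : clsL lX = clsL lY := by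
    classical
    refine Multiset.ext' fun q => ?_
    have := congrArg (Multiset.count q) h
    rw [Multiset.count_nsmul, Multiset.count_nsmul] at this
    exact Nat.eq_of_mul_eq_mul_left (Nat.pos_of_ne_zero hn) this
  exact ⟨eX ≪≫ (sumL_of_clsL lX lY h').some ≪≫ eY.symm⟩

end Cat

end Groth.Agent.ASB
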