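import Groth.Agent.ASB.Hom
import Groth.Agent.ASB.KS
import Groth.Agent.Lib.CurveDeg
import Mathlib.RingTheory.Algebraic.Integral
import Mathlib.LinearAlgebra.Matrix.ToLin

/-!
# Descent of isomorphisms along algebraic field extensions
-/

set_option linter.style.haveILetI false
set_option linter.unusedSectionVars false
set_option backward.isDefEq.respectTransparency false
set_option backward.isDefEq.respectTransparency.types false
set_option maxHeartbeats 1000000

universe u v

open CategoryTheory CategoryTheory.Limits AlgebraicGeometry TopologicalSpace Opposite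
open scoped TensorProduct

noncomputable section

namespace Groth.Agent.ASB

attribute [local instance] Abelian.hasFiniteBiproducts

section Sums

variable {C : Type v} [Category.{u} C] [Abelian C]

/-- A finite coproduct is the sum of the list of its terms. -/
theorem coprod_ofFn : ∀ {n : ℕ} (Fs : Fin n → C), Nonempty (∐ Fs ≅ sumL (List.ofFn Fs)) := by
  intro n
  induction n with
  | zero =>
    intro Fs
    refine ⟨IsZero.iso ?_ (by rw [List.ofFn_zero]; exact isZero_top)⟩
    rw [IsZero.iff_id_eq_zero]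
    exact Sigma.hom_ext _ _ fun i => i.elim0
  | succ n ih =>
    intro Fs
    obtain ⟨e⟩ := ih (fun i => Fs i.succ)
    rw [List.ofFn_succ]
    refine ⟨?_ ≪≫ biprod.mapIso (Iso.refl (Fs 0)) e⟩
    exact
      { hom := Sigma.desc (Fin.cases (motive := fun i => Fs i ⟶ Fs 0 ⊞ ∐ fun j : Fin n => Fs j.succ)
          biprod.inl fun j => Sigma.ι (fun j : Fin n => Fs j.succ) j ≫ biprod.inr)
        inv := biprod.desc (Sigma.ι Fs 0) (Sigma.desc fun j => Sigma.ι Fs j.succ)
        hom_inv_id := by
          refine Sigma.hom_ext _ _ fun i => ?_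
          refine Fin.cases ?_ (fun j => ?_) i <;> simp
        inv_hom_id := by
          refine biprod.hom_ext' _ _ ?_ ?_
          · simp
          · refine Sigma.hom_ext _ _ fun j => ?_
            simp }

/-- Equal classes give a matching. -/
theorem exists_equiv_of_clsL {n m : ℕ} {Fs : Fin n → C} {Gs : Fin m → C}
    (h : clsL (List.ofFn Fs) = clsL (List.ofFn Gs)) : ∃ e : Fin n ≃ Fin m, ∀ i, Nonempty (Fs i ≅ Gs (e i)) := by
  classical
  let q := Quotient.mk (isIsomorphicSetoid C)
  have h' : (List.ofFn (q ∘ Fs)).Perm (List.ofFn (q ∘ Gs)) := by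
    rw [← List.map_ofFn, ← List.map_ofFn]
    exact Multiset.coe_eq_coe.1 h
  have hcard : ∀ c, Fintype.card {i // q (Fs i) = c} = Fintype.card {j // q (Gs j) = c} := fun c => by
    have := congrArg (Multiset.count c) (Multiset.coe_eq_coe.2 h')
    rw [← Fin.univ_val_map, ← Fin.univ_val_map, Multiset.count_map, Multiset.count_map] at this
    rw [Fintype.card_subtype, Fintype.card_subtype]
    simpa [Finset.card_def, Finset.filter_val, eq_comm] using this
  let e := Equiv.ofFiberEquiv (f := q ∘ Fs) (g := q ∘ Gs) fun c => Fintype.equivOfCardEq (hcard c)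
  exact ⟨e, fun i => Quotient.exact (Equiv.ofFiberEquiv_map (f := q ∘ Fs) (g := q ∘ Gs) _ i).symm⟩

/-- Powers are sums of repeated lists. -/
theorem biproduct_replicate (F : C) (d : ℕ) :
    Nonempty ((⨁ fun _ : Fin d => F) ≅ sumL (List.replicate d F)) := by
  obtain ⟨e⟩ := coprod_ofFn (fun _ : Fin d => F)
  rw [List.ofFn_const] at e
  exact ⟨biproduct.isoCoproduct _ ≪≫ e⟩

end Sums

variable {k : Type u} [Field k] {X : Scheme.{u}} (p : X ⟶ Spec (CommRingCat.of k))
  (K : Type u) [Field K] [Algebra k K]

/-- The structure of a scheme over the field, from the structure map. -/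
abbrev ovr : X.Over (Spec (CommRingCat.of k)) := ⟨p⟩

theorem scalarHom_smul {F G : X.Modules} (hF : Coh.IsQCoh F) (c : K) (a : k) (φ : F ⟶ G) :
    letI := ovr p
    scalarHom p K c (a • φ) = scalarHom p K (c * algebraMap k K a) φ := by
  letI := ovr p
  have h := scalarHom_comp p K c 1 (𝟙 F) (a • φ)
  rw [mul_one, Category.id_comp] at h
  rw [← h, scalarHom_algebraMap p K hF, scalarHom_comp, Category.id_comp]

section

variable (L : Subalgebra k K)

/-- Morphisms with coefficients in a subalgebra. -/
def tau {F G : X.Modules} (hF : Coh.IsQCoh F) :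
    letI := ovr p
    (L ⊗[k] (F ⟶ G)) →+ (bcF p K F ⟶ bcF p K G) :=
  letI := ovr p
  TensorProduct.liftAddHom
    (AddMonoidHom.mk' (fun l => AddMonoidHom.mk' (fun φ => scalarHom p K (l : K) φ) (scalarHom_add_right p K (l : K)))
      (fun l l' => AddMonoidHom.ext fun φ => scalarHom_add_left p K (l : K) (l' : K) φ))
    (fun a l φ => by
      show scalarHom p K ((a • l : L) : K) φ = scalarHom p K (l : K) (a • φ)
      rw [scalarHom_smul p K hF, SetLike.val_smul, Algebra.smul_def, mul_comm])

theorem tau_tmul {F G : X.Modules} (hF : Coh.IsQCoh F) (l : L) (φ : F ⟶ G) :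
    letI := ovr p
    tau p K L hF (l ⊗ₜ[k] φ) = scalarHom p K (l : K) φ := rfl

theorem tau_injective {F G : X.Modules} (hF : Coh.IsQCoh F) (hG : Coh.IsQCoh G) :
    Function.Injective (tau p K L (G := G) hF) := by
  letI := ovr p
  classical
  let β := Module.Basis.ofVectorSpace k L
  have hli : LinearIndependent k (fun i => (β i : K)) :=
    β.linearIndependent.map' L.val.toLinearMap (LinearMap.ker_eq_bot.2 Subtype.val_injective)
  intro x y hxy
  apply (TensorProduct.equivFinsuppOfBasisLeft β).injective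
  apply combo_injective p K hli hG hF
  have key : ∀ z, combo p K (fun i => (β i : K)) (TensorProduct.equivFinsuppOfBasisLeft β z) =
      tau p K L (G := G) hF z := fun z => by
    obtain ⟨c, rfl⟩ := (TensorProduct.equivFinsuppOfBasisLeft β).symm.surjective z
    rw [LinearEquiv.apply_symm_apply]
    induction c using Finsupp.induction_linear with
    | zero => rw [map_zero, map_zero, map_zero]
    | add c c' hc hc' => rw [map_add, map_add, map_add, hc, hc']
    | single i φ =>
      rw [combo_single]
      have h1 : (TensorProduct.equivFinsuppOfBasisLeft β).symm (Finsupp.single i φ) = β i ⊗ₜ φ := by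
        rw [LinearEquiv.symm_apply_eq, TensorProduct.equivFinsuppOfBasisLeft_apply_tmul,
          Module.Basis.repr_self, Finsupp.mapRange_single, one_smul]
      rw [h1, tau_tmul]
  rw [key, key, hxy]

variable {d : ℕ} (β : Module.Basis (Fin d) k L)

/-- Restriction of scalars of a morphism with coefficients. -/
def mu {F G : X.Modules} :
    letI := ovr p
    (L ⊗[k] (F ⟶ G)) →ₗ[k] ((⨁ fun _ : Fin d => F) ⟶ ⨁ fun _ : Fin d => G) :=
  letI := ovr p
  TensorProduct.lift (LinearMap.mk₂ k
    (fun l φ => biproduct.matrix fun i j => Algebra.leftMulMatrix β l j i • φ)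
    (fun l l' φ => by apply biproduct.hom_ext; intro j; apply biproduct.hom_ext'; intro i; simp [add_smul])
    (fun a l φ => by apply biproduct.hom_ext; intro j; apply biproduct.hom_ext'; intro i; simp [mul_smul])
    (fun l φ φ' => by apply biproduct.hom_ext; intro j; apply biproduct.hom_ext'; intro i; simp [smul_add])
    (fun a l φ => by
      apply biproduct.hom_ext; intro j; apply biproduct.hom_ext'; intro i
      simp [smul_comm _ a]))

theorem mu_tmul {F G : X.Modules} (l : L) (φ : F ⟶ G) :
    letI := ovr p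
    mu p K L β (l ⊗ₜ[k] φ) = biproduct.matrix fun i j => Algebra.leftMulMatrix β l j i • φ := rfl

theorem mu_one (F : X.Modules) :
    letI := ovr p
    mu p K L β ((1 : L) ⊗ₜ[k] 𝟙 F) = 𝟙 _ := by
  letI := ovr p
  rw [mu_tmul]
  apply biproduct.hom_ext; intro j; apply biproduct.hom_ext'; intro i
  rw [map_one]
  by_cases h : i = j
  · subst h; simp
  · simp [biproduct.ι_π_ne _ h, Matrix.one_apply_ne (Ne.symm h)]

/-- Composition of morphisms with coefficients. -/
theorem exists_comp {F G H : X.Modules} (hF : Coh.IsQCoh F) (hG : Coh.IsQCoh G) :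
    letI := ovr p
    ∀ (u : L ⊗[k] (F ⟶ G)) (v : L ⊗[k] (G ⟶ H)), ∃ w : L ⊗[k] (F ⟶ H),
      tau p K L hF u ≫ tau p K L hG v = tau p K L hF w ∧ mu p K L β u ≫ mu p K L β v = mu p K L β w := by
  letI := ovr p
  intro u v
  induction u using TensorProduct.induction_on with
  | zero => exact ⟨0, by simp, by simp⟩
  | add u₁ u₂ h₁ h₂ =>
    obtain ⟨w₁, a₁, b₁⟩ := h₁
    obtain ⟨w₂, a₂, b₂⟩ := h₂
    exact ⟨w₁ + w₂, by rw [map_add, Preadditive.add_comp, a₁, a₂, map_add],
      by rw [map_add, Preadditive.add_comp, b₁, b₂, map_add]⟩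
  | tmul l φ =>
    induction v using TensorProduct.induction_on with
    | zero => exact ⟨0, by simp, by simp⟩
    | add v₁ v₂ h₁ h₂ =>
      obtain ⟨w₁, a₁, b₁⟩ := h₁
      obtain ⟨w₂, a₂, b₂⟩ := h₂
      exact ⟨w₁ + w₂, by rw [map_add, Preadditive.comp_add, a₁, a₂, map_add],
        by rw [map_add, Preadditive.comp_add, b₁, b₂, map_add]⟩
    | tmul m ψ =>
      refine ⟨(l * m) ⊗ₜ (φ ≫ ψ), by rw [tau_tmul, tau_tmul, tau_tmul, scalarHom_comp, Subalgebra.coe_mul], ?_⟩
      rw [mu_tmul, mu_tmul, mu_tmul, mul_comm l m, map_mul]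
      apply biproduct.hom_ext; intro j; apply biproduct.hom_ext'; intro i
      simp only [Category.assoc, biproduct.matrix_π, biproduct.ι_matrix_assoc, biproduct.ι_matrix,
        biproduct.ι_desc, biproduct.lift_desc, biproduct.lift_π, Matrix.mul_apply, Finset.sum_smul, Linear.comp_smul,
        Linear.smul_comp, smul_smul]

end

variable [IsProper p] [Algebra.IsAlgebraic k K]

/-- Noether–Deuring: coherent modules isomorphic after an algebraic extension are isomorphic. -/
theorem iso_of_bc_iso {F G : X.Modules} (hF : Coh.IsCoh F) (hG : Coh.IsCoh G) (e : bcF p K F ≅ bcF p K G) :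
    Nonempty (F ≅ G) := by
  classical
  letI := ovr p
  haveI : IsProper (X ↘ Spec (CommRingCat.of k)) := ‹IsProper p›
  let β₀ := Module.Basis.ofVectorSpace k K
  obtain ⟨c, hc⟩ := combo_surjective p K β₀ hF hG.1 e.hom
  obtain ⟨c', hc'⟩ := combo_surjective p K β₀ hG hF.1 e.inv
  let s : Finset K := (c.support ∪ c'.support).image β₀
  let L := Algebra.adjoin k (s : Set K)
  haveI : Module.Finite k L :=
    Module.Finite.iff_fg.2 (fg_adjoin_of_finite s.finite_toSet fun x _ => Algebra.IsIntegral.isIntegral x)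
  let β := Module.finBasis k L
  have hexp : ∀ {F' G' : X.Modules} (hF' : Coh.IsQCoh F') (d : _ →₀ (F' ⟶ G')), d.support ⊆ c.support ∪ c'.support →
      ∃ u, tau p K L hF' u = combo p K β₀ d := fun {F' G'} hF' d hd => by
    refine ⟨∑ i ∈ d.support.attach, (⟨β₀ i.1, Algebra.subset_adjoin
      (Finset.mem_coe.2 (Finset.mem_image_of_mem _ (hd i.2)))⟩ : L) ⊗ₜ d i.1, ?_⟩
    rw [map_sum]
    simp only [tau_tmul]
    rw [Finset.sum_attach d.support fun i => scalarHom p K (β₀ i) (d i)]
    conv_rhs => rw [← Finsupp.sum_single d]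
    rw [map_finsuppSum]
    exact Finset.sum_congr rfl fun i _ => (combo_single p K β₀ i (d i)).symm
  obtain ⟨u, hu⟩ := hexp hF.1 c Finset.subset_union_left
  obtain ⟨v, hv⟩ := hexp hG.1 c' Finset.subset_union_right
  obtain ⟨w, hw₁, hw₂⟩ := exists_comp p K L β hF.1 hG.1 u v
  obtain ⟨w', hw₁', hw₂'⟩ := exists_comp p K L β hG.1 hF.1 v u
  have hw : w = (1 : L) ⊗ₜ 𝟙 F := tau_injective p K L hF.1 hF.1 <| by
    rw [← hw₁, hu, hv, hc, hc', e.hom_inv_id, tau_tmul, Subalgebra.coe_one, scalarHom_one_id]
  have hw' : w' = (1 : L) ⊗ₜ 𝟙 G := tau_injective p K L hG.1 hG.1 <| by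
    rw [← hw₁', hu, hv, hc, hc', e.inv_hom_id, tau_tmul, Subalgebra.coe_one, scalarHom_one_id]
  let E : (⨁ fun _ : Fin (Module.finrank k L) => F) ≅ ⨁ fun _ : Fin (Module.finrank k L) => G :=
    { hom := mu p K L β u
      inv := mu p K L β v
      hom_inv_id := by rw [hw₂, hw, mu_one]
      inv_hom_id := by rw [hw₂', hw', mu_one] }
  obtain ⟨a⟩ := biproduct_replicate F (Module.finrank k L)
  obtain ⟨b⟩ := biproduct_replicate G (Module.finrank k L)
  haveI := finite_hom (k := k) X hF hF
  haveI := finite_hom (k := k) X hG hG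
  exact iso_of_replicate_iso k (Module.finrank_pos).ne' (a.symm ≪≫ E ≪≫ b)

end Groth.Agent.ASB
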