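import Groth.Agent.ASB.Simple
import Groth.Agent.ASB.Tensor
import Groth.Agent.SheafHomX.Smul
import Groth.Agent.PicClLib.Basic

/-!
# Dimensions of spaces of morphisms of isotypical modules
-/

set_option linter.style.haveILetI false
set_option linter.unusedSectionVars false
set_option backward.isDefEq.respectTransparency false
set_option backward.isDefEq.respectTransparency.types false
set_option maxHeartbeats 1000000

universe u v w

open CategoryTheory CategoryTheory.Limits AlgebraicGeometry TopologicalSpace Opposite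
open scoped TensorProduct

noncomputable section

namespace Groth.Agent.ASB

attribute [local instance] Abelian.hasFiniteBiproducts

section Lin

variable {C : Type v} [Category.{u} C] [Abelian C] (k : Type w) [Field k] [Linear k C]

theorem finrank_congr {A A' B B' : C} (a : A ≅ A') (b : B ≅ B') :
    Module.finrank k (A ⟶ B) = Module.finrank k (A' ⟶ B') :=
  LinearEquiv.finrank_eq (Linear.homCongr k a b)

theorem finrank_biproduct (L M : C) [Module.Finite k (L ⟶ M)] (a b : ℕ) :
    Module.finrank k ((⨁ fun _ : Fin a => L) ⟶ ⨁ fun _ : Fin b => M) = a * (b * Module.finrank k (L ⟶ M)) := by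
  let e : ((⨁ fun _ : Fin a => L) ⟶ ⨁ fun _ : Fin b => M) ≃ₗ[k] (Fin a → Fin b → (L ⟶ M)) :=
    { toFun := fun f i j => biproduct.components f i j
      map_add' := fun f g => by funext i j; simp [biproduct.components]
      map_smul' := fun c f => by funext i j; simp [biproduct.components]
      invFun := fun m => biproduct.matrix m
      left_inv := fun f => biproduct.components_matrix f
      right_inv := fun m => by funext i j; exact biproduct.matrix_components m i j }
  rw [e.finrank_eq, Module.finrank_pi_fintype]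
  simp [Module.finrank_pi_fintype]

theorem finrank_replicate (L M : C) [Module.Finite k (L ⟶ M)] (a b : ℕ) :
    Module.finrank k (sumL (List.replicate a L) ⟶ sumL (List.replicate b M)) =
      a * (b * Module.finrank k (L ⟶ M)) := by
  obtain ⟨ea⟩ := biproduct_replicate L a
  obtain ⟨eb⟩ := biproduct_replicate M b
  rw [← finrank_biproduct k L M a b, finrank_congr k ea eb]

end Lin

variable {k : Type u} [Field k] {X : Scheme.{u}} (p : X ⟶ Spec (CommRingCat.of k)) [IsProper p]
  (K : Type u) [Field K] [Algebra k K]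

/-- The base change over the larger field. -/
abbrev ovrK : (BrSev.bc p K).Over (Spec (CommRingCat.of K)) := ⟨BrSev.bcTo p K⟩

/-- Base change does not change the dimensions of spaces of morphisms. -/
theorem finrank_bc {F G : X.Modules} (hF : Coh.IsCoh F) (hG : Coh.IsCoh G) :
    letI := ovr p
    letI := ovrK p K
    Module.finrank k (F ⟶ G) = Module.finrank K (bcF p K F ⟶ bcF p K G) := by
  letI := ovr p
  letI := ovrK p K
  haveI : IsProper (X ↘ Spec (CommRingCat.of k)) := ‹IsProper p›
  haveI := finite_hom (k := k) X hF hG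
  let b := Module.finBasis k (F ⟶ G)
  let Λ := Fintype.linearCombination K fun i => bcMap p K (b i)
  have hsm : ∀ (c : K) (φ : F ⟶ G), c • bcMap p K φ = scalarHom p K c φ := fun c φ => rfl
  have hcomb : ∀ c, Λ c = ∑ i, scalarHom p K (c i) (b i) := fun c => by
    simp only [Λ, Fintype.linearCombination_apply, hsm]
  have hsurj : Function.Surjective Λ := fun Φ => by
    rw [← LinearMap.mem_range]
    obtain ⟨d, rfl⟩ := combo_surjective p K (Module.Basis.ofVectorSpace k K) hF hG.1 Φ
    induction d using Finsupp.induction_linear with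
    | zero => rw [map_zero]; exact Submodule.zero_mem _
    | add x y hx hy => rw [map_add]; exact Submodule.add_mem _ hx hy
    | single i φ =>
      rw [combo_single]
      refine ⟨fun j => Module.Basis.ofVectorSpace k K i * algebraMap k K (b.repr φ j), ?_⟩
      rw [hcomb]
      conv_rhs => rw [← b.sum_repr φ]
      simp only [← scalarHom_smul p K hF.1]
      exact (map_sum (AddMonoidHom.mk' (scalarHom p K (Module.Basis.ofVectorSpace k K i))
        (scalarHom_add_right p K (F := F) (G := G) _)) _ _).symm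
  have hinj : Function.Injective Λ := (injective_iff_map_eq_zero Λ).2 fun c hc => by
    have h0 : tau p K (⊤ : Subalgebra k K) (G := G) hF.1
        (∑ i, (⟨c i, Algebra.mem_top⟩ : (⊤ : Subalgebra k K)) ⊗ₜ[k] b i) = 0 := by
      rw [map_sum]
      simp only [tau_tmul]
      rw [← hcomb, hc]
    have h1 := tau_injective p K (⊤ : Subalgebra k K) hF.1 hG.1 (h0.trans (map_zero _).symm)
    funext i
    have h2 := congrArg (fun z => TensorProduct.equivFinsuppOfBasisRight b z i) h1
    simp [TensorProduct.equivFinsuppOfBasisRight_apply_tmul, Finsupp.single_apply, eq_comm] at h2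
    simpa [eq_comm] using congrArg Subtype.val h2
  rw [← (LinearEquiv.ofBijective Λ ⟨hinj, hsurj⟩).finrank_eq, Module.finrank_fintype_fun_eq_card, Fintype.card_fin]

/-- The endomorphisms of an invertible module on an integral proper scheme are one-dimensional. -/
theorem finrank_end_invertible {Y : Scheme.{u}} {F : Type u} [Field F] [IsAlgClosed F]
    (q : Y ⟶ Spec (CommRingCat.of F)) [IsProper q] [IsIntegral Y] {L : Y.Modules} (hL : PicF.IsInvertible L) :
    letI := ovr q
    Module.finrank F (L ⟶ L) = 1 := by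
  letI := ovr q
  haveI : IsProper (Y ↘ Spec (CommRingCat.of F)) := ‹IsProper q›
  refine finrank_eq_one_iff'.2 ⟨𝟙 L, fun h =>
    CurveEnd.not_isZero L 1 one_pos (InvEnd.isFinLocFreeOfRank_one hL) ((IsZero.iff_id_eq_zero L).2 h), fun f => ?_⟩
  obtain ⟨c, hc⟩ := (InvEnd.exists_scalar (k := F) hL).2 f
  exact ⟨c, ((Category.comp_id _).trans hc : _)⟩

variable [Algebra.IsAlgebraic k K]

/-- Left modules over a division algebra: the dimension of the algebra divides that of the module. -/
theorem finrank_dvd_of_division {A : Type v} [Ring A] [Nontrivial A] [Algebra k A]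
    (hA : ∀ a : A, a ≠ 0 → IsUnit a) (M : Type w) [AddCommGroup M] [Module k M] [Module A M]
    [IsScalarTower k A M] : Module.finrank k A ∣ Module.finrank k M := by
  letI : DivisionRing A := DivisionRing.ofIsUnitOrEqZero fun a => (em (a = 0)).symm.imp (hA a) id
  exact ⟨Module.finrank A M, (Module.finrank_mul_finrank k A M).symm⟩

/-- The multiplicity of an indecomposable isotypical module divides that of an isotypical tensor product. -/
theorem sq_dvd_of_tensor {W W' : X.Modules} (hW : Coh.IsCoh W) (hW' : Coh.IsCoh W')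
    (hWW : Coh.IsCoh (CohB1.tensorMod W W'))
    (hdiv : ∀ f : W ⟶ W, f ≠ 0 → IsIso f) (hW0 : ¬ IsZero W) {O : X.Modules} (hO : Coh.IsCoh O)
    {L N : (BrSev.bc p K).Modules} {r s : ℕ} (eW : bcF p K W ≅ sumL (List.replicate r L))
    (eO : bcF p K O ≅ N) (eT : bcF p K (CohB1.tensorMod W W') ≅ sumL (List.replicate s N))
    (hL : letI := ovrK p K; Module.finrank K (L ⟶ L) = 1) (hN : letI := ovrK p K; Module.finrank K (N ⟶ N) = 1) :
    r * r ∣ s := by
  letI := ovr p
  letI := ovrK p K
  haveI : Module.Finite K (L ⟶ L) := Module.finite_of_finrank_eq_succ (n := 0) hL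
  haveI : Module.Finite K (N ⟶ N) := Module.finite_of_finrank_eq_succ (n := 0) hN
  let T := SheafHomX.ten W'
  haveI : T.Additive := inferInstanceAs ((DCoh.tensorBi (X := X)).flip.obj W').Additive
  letI : Module (CategoryTheory.End W) (O ⟶ T.obj W) :=
    { smul := fun g φ => φ ≫ T.map g
      one_smul := fun φ => show φ ≫ T.map (𝟙 W) = φ by simp
      mul_smul := fun g h φ => show φ ≫ T.map (h ≫ g) = (φ ≫ T.map h) ≫ T.map g by simp
      smul_zero := fun g => show (0 : O ⟶ T.obj W) ≫ T.map g = 0 by simp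
      smul_add := fun g φ ψ => show (φ + ψ) ≫ T.map g = φ ≫ T.map g + ψ ≫ T.map g by simp
      add_smul := fun g h φ => show φ ≫ T.map (g + h) = φ ≫ T.map g + φ ≫ T.map h by simp [T.map_add]
      zero_smul := fun φ => show φ ≫ T.map (0 : W ⟶ W) = 0 by simp }
  haveI : IsScalarTower k (CategoryTheory.End W) (O ⟶ T.obj W) := ⟨fun a g φ => by
    show φ ≫ T.map (a • (show W ⟶ W from g)) = a • (φ ≫ T.map g)
    rw [KLin.smul_def, T.map_comp, SheafHomX.ten_map_smulMod, ← Linear.comp_smul]
    rfl⟩
  haveI : Nontrivial (CategoryTheory.End W) := ⟨⟨𝟙 W, 0, fun h => hW0 ((IsZero.iff_id_eq_zero W).2 h)⟩⟩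
  have h1 := finrank_dvd_of_division (k := k) (A := CategoryTheory.End W)
    (fun a ha => (isUnit_iff_isIso (show W ⟶ W from a)).2 (hdiv a ha)) (O ⟶ T.obj W)
  have hD : Module.finrank k (W ⟶ W) = r * r := by
    rw [finrank_bc p K hW hW, finrank_congr K eW eW, finrank_replicate, hL, mul_one]
  have hM : Module.finrank k (O ⟶ CohB1.tensorMod W W') = s := by
    obtain ⟨e1⟩ : Nonempty (sumL (List.replicate 1 N) ≅ N) :=
      ⟨(isoBiprodZero isZero_top).symm⟩
    rw [finrank_bc p K hO hWW, finrank_congr K (eO ≪≫ e1.symm) eT, finrank_replicate, hN, mul_one, one_mul]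
  rwa [show Module.finrank k (CategoryTheory.End W) = r * r from hD,
    show Module.finrank k (O ⟶ T.obj W) = s from hM] at h1

/-- An indecomposable module isotypical of scalar type has a division algebra of endomorphisms. -/
theorem isIso_of_indec_isotypical {E : X.Modules} (hE : Coh.IsCoh E) (hEi : Indec E)
    {L : (BrSev.bc p K).Modules} (hL : ∀ f : L ⟶ L, f ≠ 0 → IsIso f) {r : ℕ}
    (e : bcF p K E ≅ sumL (List.replicate r L)) (f : E ⟶ E) (hf : f ≠ 0) : IsIso f := by
  obtain ⟨eb⟩ := biproduct_replicate L r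
  haveI : IsSimpleRing (CategoryTheory.End E) := isSimpleRing_end p K hE hEi.1 hL (e ≪≫ eb.symm)
  letI := ovr p
  haveI := finite_end p hE
  rcases isIso_or_isNilpotent k hEi (show CategoryTheory.End E from f) with hn | hi
  · exfalso
    apply hf
    have hloc : ∀ a b : CategoryTheory.End E, IsUnit (a + b) → IsUnit a ∨ IsUnit b := fun a b h =>
      haveI : Module.Finite k (CategoryTheory.End E) := ‹Module.Finite k (E ⟶ E)›
      isUnit_or_of_add (k := k) (idem_of_indec hEi) h
    haveI hfinE : Module.Finite k (CategoryTheory.End E) := ‹Module.Finite k (E ⟶ E)›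
    haveI : IsArtinianRing (CategoryTheory.End E) := IsArtinianRing.of_finite k _
    let J : TwoSidedIdeal (CategoryTheory.End E) := TwoSidedIdeal.mk' {g | ¬ IsUnit g} not_isUnit_zero
      (fun {a b} ha hb h => (hloc a b h).elim ha hb) (fun {a} ha h => ha (by simpa using h.neg))
      (fun {a b} hb h => hb (isUnit_of_mul_isUnit_right h))
      (fun {a b} ha h => ha (isUnit_of_mul_isUnit_left h))
    have hfJ : (show CategoryTheory.End E from f) ∈ J := (TwoSidedIdeal.mem_mk' ..).2 hn.not_isUnit
    rcases IsSimpleRing.simple.eq_bot_or_eq_top J with hJ | hJ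
    · rw [hJ, TwoSidedIdeal.mem_bot] at hfJ
      exact hfJ
    · have h1 : (1 : CategoryTheory.End E) ∈ J := hJ ▸ trivial
      exact absurd isUnit_one ((TwoSidedIdeal.mem_mk' ..).1 h1)
  · exact hi

/-- The multiplicities of indecomposable modules of inverse isotypical types are equal. -/
theorem mult_eq_of_inverse [IsAlgClosed K] [IsIntegral (BrSev.bc p K)] {W W' : X.Modules}
    (hW : FlatMod.IsFinLocFree W) (hW' : FlatMod.IsFinLocFree W') (hWi : Indec W) (hW'i : Indec W')
    {L L' : (BrSev.bc p K).Modules} (hL : PicF.IsInvertible L) (hL' : PicF.IsInvertible L')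
    {r r' : ℕ} (eW : bcF p K W ≅ sumL (List.replicate r L)) (eW' : bcF p K W' ≅ sumL (List.replicate r' L'))
    {O : X.Modules} (hO : PicF.IsInvertible O) (eLL : bcF p K O ≅ CohB1.tensorMod L L') : r = r' := by
  haveI := isNoetherian_of_proper p
  have hr0 : r ≠ 0 := replicate_pos (fun h => hWi.1 (isZero_of_bc p K (CurveDeg.isCoh_of_isFinLocFree hW).1 h)) eW
  have hr0' : r' ≠ 0 := replicate_pos (fun h => hW'i.1 (isZero_of_bc p K (CurveDeg.isCoh_of_isFinLocFree hW').1 h)) eW'
  have hLs : ∀ f : L ⟶ L, f ≠ 0 → IsIso f := isIso_of_ne_zero_invertible (BrSev.bcTo p K) hL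
  have hLs' : ∀ f : L' ⟶ L', f ≠ 0 → IsIso f := isIso_of_ne_zero_invertible (BrSev.bcTo p K) hL'
  obtain ⟨a⟩ := pullback_tensor (BrSev.proj p K) W W'
  obtain ⟨a'⟩ := pullback_tensor (BrSev.proj p K) W' W
  obtain ⟨b⟩ := tensor_congr eW eW'
  obtain ⟨b'⟩ := tensor_congr eW' eW
  obtain ⟨c⟩ := tensor_replicate L L' r r'
  obtain ⟨c'⟩ := tensor_replicate L' L r' r
  obtain ⟨d⟩ := replicate_congr eLL.symm (r * r')
  obtain ⟨d'⟩ := replicate_congr ((CurveTensor.commIso L' L) ≪≫ eLL.symm) (r' * r)
  have hN : PicF.IsInvertible (bcF p K O) := PicClLib.isInvertible_pullback _ hO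
  have h1 := sq_dvd_of_tensor p K (CurveDeg.isCoh_of_isFinLocFree hW) (CurveDeg.isCoh_of_isFinLocFree hW')
    (CurveTensor.isCoh_tensor hW (CurveDeg.isCoh_of_isFinLocFree hW')) (isIso_of_indec_isotypical p K
      (CurveDeg.isCoh_of_isFinLocFree hW) hWi hLs eW) hWi.1 (CurveDeg.isCoh_of_isInvertible hO) eW (Iso.refl _)
    (a ≪≫ b ≪≫ c ≪≫ d) (finrank_end_invertible (BrSev.bcTo p K) hL) (finrank_end_invertible (BrSev.bcTo p K) hN)
  have h2 := sq_dvd_of_tensor p K (CurveDeg.isCoh_of_isFinLocFree hW') (CurveDeg.isCoh_of_isFinLocFree hW)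
    (CurveTensor.isCoh_tensor hW' (CurveDeg.isCoh_of_isFinLocFree hW)) (isIso_of_indec_isotypical p K
      (CurveDeg.isCoh_of_isFinLocFree hW') hW'i hLs' eW') hW'i.1 (CurveDeg.isCoh_of_isInvertible hO) eW' (Iso.refl _)
    (a' ≪≫ b' ≪≫ c' ≪≫ d') (finrank_end_invertible (BrSev.bcTo p K) hL') (finrank_end_invertible (BrSev.bcTo p K) hN)
  exact Nat.dvd_antisymm (Nat.dvd_of_mul_dvd_mul_left (Nat.pos_of_ne_zero hr0) h1)
    (Nat.dvd_of_mul_dvd_mul_left (Nat.pos_of_ne_zero hr0') h2)

end Groth.Agent.ASB
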