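import Groth.Agent.CSALib.Index
import Groth.Agent.CSALib.PiTensor
import Mathlib.GroupTheory.Sylow
import Mathlib.FieldTheory.Galois.Basic
import Mathlib.FieldTheory.Normal.Closure
import Mathlib.FieldTheory.IsSepClosed

/-!
# Lowering the index by raising to a prime power
-/

set_option linter.style.haveILetI false
set_option maxHeartbeats 1000000

universe u

open scoped TensorProduct

noncomputable section

namespace Groth.Agent.ASB.ExpLower

open Groth.Agent.CSALib

/-- An algebra of index `ℓ ^ (s + 1)` is of index dividing `ℓ ^ s` over an extension of degree `ℓ` times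
a number prime to `ℓ`. -/
theorem exists_lower {k : Type u} [Field k] (A : Type u) [Ring A] [Algebra k A] [Algebra.IsCentral k A]
    [IsSimpleRing A] [FiniteDimensional k A] {ℓ s : ℕ} [Fact ℓ.Prime] (h : CSAGal.IsIndex k A (ℓ ^ (s + 1))) :
    ∃ (E : Type u) (_ : Field E) (_ : Algebra k E) (m : ℕ), FiniteDimensional k E ∧
      Module.finrank k E = ℓ * m ∧ ¬ ℓ ∣ m ∧ ∀ d', CSAGal.IsIndex E (E ⊗[k] A) d' → d' ∣ ℓ ^ s := by
  classical
  obtain ⟨F, _, _, _, _, hF, hs⟩ := exists_splitting_index h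
  let σ : F →ₐ[k] SeparableClosure k := IsSepClosed.lift
  letI : Algebra F (SeparableClosure k) := σ.toRingHom.toAlgebra
  haveI : IsScalarTower k F (SeparableClosure k) :=
    IsScalarTower.of_algebraMap_eq fun r => (σ.commutes r).symm
  let L := IntermediateField.normalClosure k F (SeparableClosure k)
  haveI : IsGalois k L := inferInstance
  haveI : FiniteDimensional k L := inferInstance
  let j : F →ₐ[k] L := IsScalarTower.toAlgHom k F L
  let H := IntermediateField.fixingSubgroup j.fieldRange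
  have hH : H.index = ℓ ^ (s + 1) := by
    rw [← IntermediateField.finrank_eq_fixingSubgroup_index, ← hF]
    exact (AlgEquiv.ofInjectiveField j).toLinearEquiv.finrank_eq.symm
  obtain ⟨P⟩ : Nonempty (Sylow ℓ (L ≃ₐ[k] L)) := inferInstance
  let R := H ⊓ (P : Subgroup (L ≃ₐ[k] L))
  have hRP : R ≤ (P : Subgroup (L ≃ₐ[k] L)) := inf_le_right
  obtain ⟨a, ha⟩ := IsPGroup.iff_card.mp P.isPGroup'
  obtain ⟨c, hc⟩ := IsPGroup.iff_card.mp (P.isPGroup'.to_le hRP)
  have hmul := Subgroup.relIndex_mul_index hRP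
  have hle : R.relIndex (P : Subgroup (L ≃ₐ[k] L)) ≤ ℓ ^ (s + 1) := by
    rw [show R.relIndex (P : Subgroup (L ≃ₐ[k] L)) = H.relIndex (P : Subgroup (L ≃ₐ[k] L)) from
      Subgroup.inf_relIndex_right _ _, ← hH, ← Subgroup.relIndex_top_right]
    exact Subgroup.relIndex_le_of_le_right le_top (by rw [Subgroup.relIndex_top_right, hH]; exact (pow_pos (Fact.out : ℓ.Prime).pos _).ne')
  have hidx : ∀ S : Subgroup (L ≃ₐ[k] L), Module.finrank k (IntermediateField.fixedField S) = S.index := fun S => by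
    rw [IntermediateField.finrank_eq_fixingSubgroup_index, IntermediateField.fixingSubgroup_fixedField]
  let Fr := IntermediateField.fixedField R
  have hjFr : j.fieldRange ≤ Fr := (IntermediateField.le_iff_le _ _).2 inf_le_left
  letI : Algebra F Fr := ((IntermediateField.inclusion hjFr).comp j.rangeRestrict).toRingHom.toAlgebra
  haveI : IsScalarTower k F Fr := IsScalarTower.of_algebraMap_eq fun r =>
    (((IntermediateField.inclusion hjFr).comp j.rangeRestrict).commutes r).symm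
  have hsFr : Similar Fr (Fr ⊗[k] A) Fr := hs.splitMono Fr
  have hdvd := dvd_finrank_of_splits h Fr hsFr
  rw [hidx, ← hmul] at hdvd
  have hrel : R.relIndex (P : Subgroup (L ≃ₐ[k] L)) = ℓ ^ (s + 1) := by
    have h1 := ((Nat.Prime.coprime_iff_not_dvd Fact.out).2 P.not_dvd_index).pow_left (s + 1)
    refine le_antisymm hle (Nat.le_of_dvd (Nat.pos_of_ne_zero ?_) (h1.dvd_of_dvd_mul_right hdvd))
    intro h0
    rw [h0, zero_mul] at hmul
    exact Subgroup.index_ne_zero_of_finite hmul.symm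
  have hca : a = c + (s + 1) := by
    have h2 := Subgroup.card_mul_index R
    rw [← Subgroup.card_mul_index (P : Subgroup (L ≃ₐ[k] L)), ← hmul, hrel, ← mul_assoc, hc, ha, ← pow_add] at h2
    exact (Nat.pow_right_injective (Fact.out : ℓ.Prime).two_le
      (Nat.eq_of_mul_eq_mul_right (Nat.pos_of_ne_zero Subgroup.index_ne_zero_of_finite) h2)).symm
  obtain ⟨K', hK', hRK⟩ := Sylow.exists_subgroup_card_pow_prime_le (G := (P : Subgroup (L ≃ₐ[k] L))) ℓ
    (m := a - 1) (n := c) (by rw [ha]; exact pow_dvd_pow _ (Nat.sub_le _ _)) (R.subgroupOf P)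
    (by rw [Nat.card_congr (Subgroup.subgroupOfEquivOfLe hRP).toEquiv, hc]) (by omega)
  let Q := K'.map (P : Subgroup (L ≃ₐ[k] L)).subtype
  have hRQ : R ≤ Q := fun x hx => Subgroup.mem_map.2 ⟨⟨x, hRP hx⟩, hRK (Subgroup.mem_subgroupOf.2 hx), rfl⟩
  have hQ : Q.index = ℓ * (P : Subgroup (L ≃ₐ[k] L)).index := by
    have h2 := Subgroup.card_mul_index Q
    rw [← Subgroup.card_mul_index (P : Subgroup (L ≃ₐ[k] L)), ha,
      show Nat.card Q = ℓ ^ (a - 1) from (Nat.card_congr (K'.equivMapOfInjective _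
        (Subgroup.subtype_injective _)).toEquiv).symm.trans hK',
      show ℓ ^ a = ℓ ^ (a - 1) * ℓ by rw [← pow_succ]; congr 1; omega, mul_assoc] at h2
    exact Nat.eq_of_mul_eq_mul_left (pow_pos (Fact.out : ℓ.Prime).pos _) h2
  let E := IntermediateField.fixedField Q
  have hEFr : E ≤ Fr := IntermediateField.fixedField_le hRQ
  letI : Algebra E Fr := (IntermediateField.inclusion hEFr).toRingHom.toAlgebra
  haveI : IsScalarTower k E Fr := IsScalarTower.of_algebraMap_eq fun r =>
    ((IntermediateField.inclusion hEFr).commutes r).symm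
  haveI : Module.Finite E Fr := Module.Finite.of_restrictScalars_finite k E Fr
  have hEF : Module.finrank E Fr = ℓ ^ s := by
    have h2 := Module.finrank_mul_finrank k E Fr
    rw [hidx, hidx, hQ, ← hmul, hrel, pow_succ, mul_comm (ℓ ^ s) ℓ, mul_assoc, mul_assoc] at h2
    have h3 := Nat.eq_of_mul_eq_mul_left (Fact.out : ℓ.Prime).pos h2
    exact Nat.eq_of_mul_eq_mul_left (Nat.pos_of_ne_zero Subgroup.index_ne_zero_of_finite) (h3.trans (mul_comm _ _))
  refine ⟨E, inferInstance, inferInstance, (P : Subgroup (L ≃ₐ[k] L)).index, inferInstance,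
    (hidx Q).trans hQ, P.not_dvd_index, fun d' hd' => ?_⟩
  haveI := isCentral_baseChange k A E
  rw [← hEF]
  exact dvd_finrank_of_splits hd' Fr
    ((similar_of_algEquiv (cancelBase (k := k) (A := A) (K := E) Fr)).trans hsFr)

/-- The `ℓ`-th power of an algebra of index `ℓ ^ (s + 1)` has index dividing `ℓ ^ s`. -/
theorem index_pow_prime {ℓ : ℕ} [Fact ℓ.Prime] : ∀ (s : ℕ) {k : Type u} [Field k] (A : Type u) [Ring A]
    [Algebra k A] [Algebra.IsCentral k A] [IsSimpleRing A] [FiniteDimensional k A],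
    CSAGal.IsIndex k A (ℓ ^ (s + 1)) → ∀ z, CSAGal.IsIndex k (⨂[k] _i : Fin ℓ, A) z → z ∣ ℓ ^ s := by
  intro s
  induction s using Nat.strong_induction_on with
  | _ s ih =>
    intro k _ A _ _ _ _ _ h z hz
    obtain ⟨_, _, _⟩ := centralSimple_pow k A ℓ
    rcases Nat.eq_zero_or_pos s with rfl | hs0
    · have hsplit := similar_pow_index h
      rw [zero_add, pow_one] at hsplit
      rw [pow_zero, index_eq_of_similar hz (D' := k) (d' := 1) (by rw [Module.finrank_self, one_pow]) hsplit]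
    obtain ⟨E, _, _, m, _, hE, hm, hlow⟩ := exists_lower A h
    haveI := isCentral_baseChange k A E
    haveI := isSimpleRing_baseChange k A E
    haveI := isCentral_baseChange k (⨂[k] _i : Fin ℓ, A) E
    haveI := isSimpleRing_baseChange k (⨂[k] _i : Fin ℓ, A) E
    obtain ⟨_, _, _⟩ := centralSimple_pow E (E ⊗[k] A) ℓ
    obtain ⟨y, hy⟩ := exists_isIndex E (E ⊗[k] A)
    obtain ⟨w, hw⟩ := exists_isIndex E (⨂[E] _i : Fin ℓ, (E ⊗[k] A))
    obtain ⟨s', hs', rfl⟩ := (Nat.dvd_prime_pow Fact.out).1 (hlow y hy)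
    have hw' : w ∣ ℓ ^ (s - 1) := by
      rcases s' with _ | s''
      · have hys : Similar E (E ⊗[k] A) E := similar_of_index_one (by simpa using hy)
        rw [index_eq_of_similar hw (D' := E) (d' := 1) (by rw [Module.finrank_self, one_pow])
          ((hys.pow ℓ).trans (similar_pow_self ℓ))]
        exact one_dvd _
      · exact (ih s'' (by omega) (E ⊗[k] A) hy w hw).trans (pow_dvd_pow _ (by omega))
    have h1 := index_dvd_index_baseChange_mul hz E (isIndex_congr hw (similar_baseChange_pow E ℓ))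
    rw [hE, mul_comm ℓ m, mul_assoc] at h1
    obtain ⟨i, -, rfl⟩ := (Nat.dvd_prime_pow Fact.out).1 (index_pow_dvd h ℓ hz)
    have h2 := (((Nat.Prime.coprime_iff_not_dvd Fact.out).2 hm).pow_left i).dvd_of_dvd_mul_left h1
    refine h2.trans ?_
    calc ℓ * w ∣ ℓ * ℓ ^ (s - 1) := mul_dvd_mul_left _ hw'
      _ = ℓ ^ s := by rw [← pow_succ']; congr 1; omega

/-- The `ℓ ^ t`-th power of an algebra of `ℓ`-primary index lowers the exponent by `t`. -/
theorem index_pow_prime_pow {ℓ : ℕ} [Fact ℓ.Prime] : ∀ (t s : ℕ) {k : Type u} [Field k] (A : Type u) [Ring A]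
    [Algebra k A] [Algebra.IsCentral k A] [IsSimpleRing A] [FiniteDimensional k A],
    CSAGal.IsIndex k A (ℓ ^ s) → ∀ z, CSAGal.IsIndex k (⨂[k] _i : Fin (ℓ ^ t), A) z → z ∣ ℓ ^ (s - t) := by
  intro t
  induction t with
  | zero =>
    intro s k _ A _ _ _ _ _ h z hz
    obtain ⟨_, _, _⟩ := centralSimple_pow k A (ℓ ^ 0)
    exact index_pow_dvd h (ℓ ^ 0) hz
  | succ t ih =>
    intro s k _ A _ _ _ _ _ h z hz
    obtain ⟨_, _, _⟩ := centralSimple_pow k A ℓ
    obtain ⟨_, _, _⟩ := centralSimple_pow k A (ℓ ^ (t + 1))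
    obtain ⟨_, _, _⟩ := centralSimple_pow k (⨂[k] _i : Fin ℓ, A) (ℓ ^ t)
    have hsim : Similar k (⨂[k] _i : Fin (ℓ ^ (t + 1)), A) (⨂[k] _i : Fin (ℓ ^ t), (⨂[k] _i : Fin ℓ, A)) :=
      (similar_of_algEquiv (piReindex (k := k) (fun _ : Fin (ℓ ^ (t + 1)) => A)
        (finCongr (pow_succ' ℓ t)))).trans (similar_pow_mul ℓ (ℓ ^ t))
    have hz' : CSAGal.IsIndex k (⨂[k] _i : Fin (ℓ ^ t), (⨂[k] _i : Fin ℓ, A)) z := isIndex_congr hz hsim.symm
    rcases s with _ | s
    · have hs : Similar k A k := similar_of_index_one (by simpa using h)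
      rw [index_eq_of_similar hz (D' := k) (d' := 1) (by rw [Module.finrank_self, one_pow])
        ((hs.pow _).trans (similar_pow_self _))]
      exact one_dvd _
    · obtain ⟨y, hy⟩ := exists_isIndex k (⨂[k] _i : Fin ℓ, A)
      obtain ⟨s', hs', rfl⟩ := (Nat.dvd_prime_pow Fact.out).1 (index_pow_prime s A h y hy)
      exact (ih s' _ hy z hz').trans (pow_dvd_pow _ (by omega))

/-- The index of a prime power of an algebra whose index becomes primary over an extension. -/
theorem index_pow_dvd_mul {k : Type u} [Field k] (A : Type u) [Ring A] [Algebra k A]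
    [Algebra.IsCentral k A] [IsSimpleRing A] [FiniteDimensional k A] (F : Type u) [Field F] [Algebra k F]
    [FiniteDimensional k F] {ℓ : ℕ} [Fact ℓ.Prime] {s' : ℕ} (hd' : CSAGal.IsIndex F (F ⊗[k] A) (ℓ ^ s'))
    (t : ℕ) {z : ℕ} (hz : CSAGal.IsIndex k (⨂[k] _i : Fin (ℓ ^ t), A) z) :
    z ∣ Module.finrank k F * ℓ ^ (s' - t) := by
  obtain ⟨_, _, _⟩ := centralSimple_pow k A (ℓ ^ t)
  haveI := isCentral_baseChange k A F
  haveI := isSimpleRing_baseChange k A F
  haveI := isCentral_baseChange k (⨂[k] _i : Fin (ℓ ^ t), A) F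
  haveI := isSimpleRing_baseChange k (⨂[k] _i : Fin (ℓ ^ t), A) F
  obtain ⟨_, _, _⟩ := centralSimple_pow F (F ⊗[k] A) (ℓ ^ t)
  obtain ⟨w, hw⟩ := exists_isIndex F (⨂[F] _i : Fin (ℓ ^ t), (F ⊗[k] A))
  exact (index_dvd_index_baseChange_mul hz F (isIndex_congr hw (similar_baseChange_pow F (ℓ ^ t)))).trans
    (mul_dvd_mul_left _ (index_pow_prime_pow t s' (F ⊗[k] A) hd' w hw))

/-- The `ℓ ^ t`-th power lowers the `ℓ`-valuation of the index by `t`. -/
theorem factorization_index_pow {k : Type u} [Field k] (A : Type u) [Ring A] [Algebra k A]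
    [Algebra.IsCentral k A] [IsSimpleRing A] [FiniteDimensional k A] {d : ℕ} (h : CSAGal.IsIndex k A d)
    {ℓ : ℕ} [Fact ℓ.Prime] (t : ℕ) {z : ℕ} (hz : CSAGal.IsIndex k (⨂[k] _i : Fin (ℓ ^ t), A) z) :
    z.factorization ℓ ≤ d.factorization ℓ - t := by
  have hℓ : ℓ.Prime := Fact.out
  obtain ⟨L, _, _, n, hn, _, _, ⟨φ⟩⟩ := exists_galois_splitting k A
  obtain ⟨P⟩ : Nonempty (Sylow ℓ (L ≃ₐ[k] L)) := inferInstance
  let F : IntermediateField k L := IntermediateField.fixedField (P : Subgroup (L ≃ₐ[k] L))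
  obtain ⟨a, ha⟩ := IsPGroup.iff_card.mp P.isPGroup'
  have hFk : Module.finrank k F = (P : Subgroup (L ≃ₐ[k] L)).index := by
    rw [IntermediateField.finrank_eq_fixingSubgroup_index, IntermediateField.fixingSubgroup_fixedField]
  haveI := isCentral_baseChange k A F
  haveI := isSimpleRing_baseChange k A F
  obtain ⟨d', hd'⟩ := exists_isIndex F (F ⊗[k] A)
  have hd'p : d' ∣ ℓ ^ a := by
    rw [← ha, ← IntermediateField.finrank_fixedField_eq_card]
    exact dvd_finrank_of_splits hd' L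
      ((similar_of_algEquiv (cancelBase (k := k) (A := A) (K := F) L)).trans
        (similar_of_algEquiv_matrix hn.out φ))
  obtain ⟨s', -, rfl⟩ := (Nat.dvd_prime_pow hℓ).1 hd'p
  have hs' : s' ≤ d.factorization ℓ :=
    (hℓ.pow_dvd_iff_le_factorization h.1.ne').1 (index_baseChange_dvd h F hd')
  have h1 := index_pow_dvd_mul A F hd' t hz
  rw [hFk] at h1
  have h2 : ℓ ^ z.factorization ℓ ∣ (P : Subgroup (L ≃ₐ[k] L)).index * ℓ ^ (s' - t) :=
    (Nat.ordProj_dvd z ℓ).trans h1
  have h3 := (((Nat.Prime.coprime_iff_not_dvd hℓ).2 P.not_dvd_index).pow_left _).dvd_of_dvd_mul_left h2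
  exact ((Nat.pow_dvd_pow_iff_le_right hℓ.one_lt).1 h3).trans (Nat.sub_le_sub_right hs' t)

end Groth.Agent.ASB.ExpLower
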