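import Groth.Agent.ASB.TwDescent
import Groth.Agent.AmpleFamGen.Affine
import Mathlib.FieldTheory.IsSepClosed
import Mathlib.FieldTheory.PrimitiveElement
import Mathlib.FieldTheory.Fixed

/-!
# Descent of Galois invariant modules up to multiplicity
-/

set_option linter.style.haveILetI false
set_option linter.unusedSectionVars false
set_option backward.isDefEq.respectTransparency false
set_option backward.isDefEq.respectTransparency.types false
set_option maxHeartbeats 1000000

universe u v

open CategoryTheory CategoryTheory.Limits AlgebraicGeometry TopologicalSpace Opposite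
open scoped TensorProduct

noncomputable section

namespace Groth.Agent.ASB

attribute [local instance] Abelian.hasFiniteBiproducts

/-- The regular representation of a separable extension is diagonalised by its embeddings. -/
theorem exists_diag {k K : Type u} [Field k] [Field K] [Algebra k K] [IsSepClosed K] [Algebra.IsSeparable k K]
    (L : Subalgebra k K) [Module.Finite k L] (β : Module.Basis (Fin (Module.finrank k L)) k L) :
    ∃ (σ : Fin (Module.finrank k L) → (L →ₐ[k] K))
      (P Q : Matrix (Fin (Module.finrank k L)) (Fin (Module.finrank k L)) K),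
      P * Q = 1 ∧ Q * P = 1 ∧ ∀ l, regHom K L β l * P = P * Matrix.diagonal fun r => σ r l := by
  classical
  letI : Field L := (Subalgebra.isField_of_algebraic L).toField
  haveI : Algebra.IsSeparable k L := Algebra.IsSeparable.of_algHom k K L.val
  have hs : ∀ x : L, ((minpoly k x).map (algebraMap k K)).Splits := fun x =>
    IsSepClosed.splits_codomain _ (Algebra.IsSeparable.isSeparable k x)
  have hcard : Fintype.card (L →ₐ[k] K) = Module.finrank k L := AlgHom.card_of_splits k L K hs
  let σ := (Fintype.equivFinOfCardEq hcard).symm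
  let B : Matrix (Fin (Module.finrank k L)) (Fin (Module.finrank k L)) K := Matrix.of fun r i => σ r (β i)
  have hB : IsUnit B := by
    rw [← Matrix.linearIndependent_rows_iff_isUnit, Fintype.linearIndependent_iff]
    intro g hg r
    have h0 : ∑ r, g r • (σ r).toLinearMap = 0 := β.ext fun i => by
      simpa [B, Matrix.row] using congrFun hg i
    exact Fintype.linearIndependent_iff.1
      ((linearIndependent_toLinearMap k L K).comp σ σ.injective) g h0 r
  obtain ⟨P, hPB⟩ := hB.exists_left_inv
  have hBP : B * P = 1 := mul_eq_one_comm.1 hPB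
  refine ⟨σ, P, B, hPB, hBP, fun l => ?_⟩
  have h : Matrix.diagonal (fun r => σ r l) * B = B * regHom K L β l := by
    ext r j
    rw [Matrix.diagonal_mul]
    show σ r l * σ r (β j) = ∑ i, σ r (β i) * algebraMap k K (Algebra.leftMulMatrix β l i j)
    rw [← map_mul, ← β.sum_repr (l * β j), map_sum]
    refine Finset.sum_congr rfl fun i _ => ?_
    rw [map_smul, Algebra.smul_def, mul_comm, Algebra.leftMulMatrix_eq_repr_mul]
  calc regHom K L β l * P = P * (B * regHom K L β l) * P := by rw [← mul_assoc P, hPB, one_mul]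
    _ = P * Matrix.diagonal (fun r => σ r l) * (B * P) := by rw [← h]; simp only [mul_assoc]
    _ = _ := by rw [hBP, mul_one]

/-- A map to a separably closed field extends along a separable extension. -/
theorem exists_lift_sep {R S M : Type u} [Field R] [Field S] [Algebra R S] [Algebra.IsSeparable R S] [Field M]
    [IsSepClosed M] (f : R →+* M) : ∃ g : S →+* M, ∀ r, g (algebraMap R S r) = f r :=
  letI := f.toAlgebra
  ⟨(IsSepClosed.lift (K := R) (L := S) (M := M)).toRingHom, fun r => AlgHom.commutes _ r⟩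

/-- An embedding of a subalgebra of a separable closure extends to an automorphism. -/
theorem exists_aut_extend_sep {k K : Type u} [Field k] [Field K] [Algebra k K] [IsSepClosed K]
    [Algebra.IsSeparable k K] (L : Subalgebra k K) (σ : L →ₐ[k] K) :
    ∃ s : K ≃ₐ[k] K, ∀ l : L, s l = σ l := by
  letI : Field L := (Subalgebra.isField_of_algebraic L).toField
  haveI : Algebra.IsSeparable L K := Algebra.isSeparable_tower_top_of_isSeparable k L K
  obtain ⟨g, hg⟩ := exists_lift_sep (S := K) σ.toRingHom
  let t : K →ₐ[k] K := { g with commutes' := fun r => (hg (algebraMap k L r)).trans (σ.commutes r) }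
  exact ⟨AlgEquiv.ofBijective t (Algebra.IsAlgebraic.algHom_bijective t), fun l => hg l⟩

variable {C : Type v} [Category.{u} C] [Abelian C]

/-- The cokernel of a diagonal morphism. -/
theorem coker_biproduct_map {d : ℕ} {A B : Fin d → C} (f : ∀ i, A i ⟶ B i) :
    Nonempty (cokernel (biproduct.map f) ≅ ⨁ fun i => cokernel (f i)) :=
  ⟨{  hom := cokernel.desc _ (biproduct.map fun i => cokernel.π (f i)) (by
        apply biproduct.hom_ext; intro j; simp)
      inv := biproduct.desc fun i => cokernel.desc (f i) (biproduct.ι B i ≫ cokernel.π _) (by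
        rw [← biproduct.ι_map_assoc, cokernel.condition, comp_zero])
      hom_inv_id := by
        apply coequalizer.hom_ext
        apply biproduct.hom_ext'; intro i
        simp
      inv_hom_id := by
        apply biproduct.hom_ext'; intro i
        apply coequalizer.hom_ext
        simp }⟩

variable {k : Type u} [Field k] {X : Scheme.{u}} (p : X ⟶ Spec (CommRingCat.of k))
  (K : Type u) [Field K] [Algebra k K]

theorem coef_diag {d : ℕ} (L : Subalgebra k K) {F G : X.Modules} (hF : Coh.IsQCoh F)
    (ρ : L →ₐ[k] Matrix (Fin d) (Fin d) K) (σ : Fin d → (L →ₐ[k] K))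
    (h : ∀ l, ρ l = Matrix.diagonal fun r => σ r l) (u : letI := ovr p; L ⊗[k] (F ⟶ G)) :
    coef p K L hF ρ u = biproduct.map fun r => tauA p K L hF (σ r) u := by
  letI := ovr p
  induction u using TensorProduct.induction_on with
  | zero => apply biproduct.hom_ext; intro j; simp
  | add a b ha hb => rw [map_add, ha, hb]; apply biproduct.hom_ext; intro j; simp
  | tmul l φ =>
    rw [coef_tmul, h]
    apply biproduct.hom_ext; intro j; apply biproduct.hom_ext'; intro i
    simp only [biproduct.matrix_π, biproduct.ι_desc, biproduct.map_π, tauA_tmul]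
    by_cases hij : i = j
    · subst hij; simp
    · simp [biproduct.ι_π_ne_assoc _ hij, Matrix.diagonal_apply_ne _ (Ne.symm hij), scalarHom_zero_left]

variable [IsProper p] [IsSepClosed K] [Algebra.IsSeparable k K]

/-- A Galois invariant module is, up to multiplicity, a base change. -/
theorem exists_descent_pow {W : (BrSev.bc p K).Modules} (hW : FlatMod.IsFinLocFree W)
    (hinv : ∀ s : K ≃ₐ[k] K, Nonempty ((Scheme.Modules.pullback (sigX p K s)).obj W ≅ W)) :
    ∃ (F : X.Modules) (d : ℕ), d ≠ 0 ∧ FlatMod.IsFinLocFree F ∧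
      Nonempty (bcF p K F ≅ sumL (List.replicate d W)) := by
  classical
  letI := ovr p
  haveI := isNoetherian_of_proper p
  haveI : IsNoetherian (BrSev.bc p K) := isNoetherian_of_proper (BrSev.bcTo p K)
  have hNc : Coh.IsCoh W := CurveDeg.isCoh_of_isFinLocFree hW
  obtain ⟨G₀, q₀, hG₀, hq₀⟩ := exists_epi_bc p K hNc
  obtain ⟨G₁, q₁, hG₁, hq₁⟩ := exists_epi_bc p K
    (QCoh.isCoh_kernel (ZClosLib.isCoh_pullback _ hG₀) hNc q₀)
  let Φ₁ := q₁ ≫ kernel.ι q₀
  let β₀ := Module.Basis.ofVectorSpace k K
  obtain ⟨c₁, hc₁⟩ := combo_surjective p K β₀ hG₁ hG₀.1 Φ₁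
  let T : Finset K := c₁.support.image β₀
  let L := Algebra.adjoin k (T : Set K)
  haveI : Module.Finite k L :=
    Module.Finite.iff_fg.2 (fg_adjoin_of_finite T.finite_toSet fun x _ => Algebra.IsIntegral.isIntegral x)
  let β := Module.finBasis k L
  obtain ⟨u₁, hu₁⟩ := exists_tau_eq_combo (p := p) β₀ L hG₁.1 c₁ fun i hi =>
    Algebra.subset_adjoin (Finset.mem_coe.2 (Finset.mem_image_of_mem _ hi))
  replace hu₁ := hu₁.trans hc₁
  let eN : cokernel (tau p K L hG₁.1 u₁) ≅ W :=
    cokernelIsoOfEq hu₁ ≪≫ cokernelEpiComp q₁ (kernel.ι q₀) ≪≫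
      IsColimit.coconePointUniqueUpToIso (cokernelIsCokernel (kernel.ι q₀))
        (Abelian.epiIsCokernelOfKernel (KernelFork.ofι (kernel.ι q₀) (kernel.condition q₀)) (kernelIsKernel q₀))
  obtain ⟨σ, P, Q, hPQ, hQP, hdiag⟩ := exists_diag L β
  let ρ' : L →ₐ[k] Matrix (Fin (Module.finrank k L)) (Fin (Module.finrank k L)) K :=
    (Matrix.diagonalAlgHom k).comp (Pi.algHom k (fun _ => K) σ)
  have c := coef_conj p K L hG₁.1 (ρ' := ρ') hdiag u₁
  have hA : ∀ r, Nonempty (cokernel (tauA p K L hG₁.1 (σ r) u₁) ≅ W) := fun r => by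
    obtain ⟨s, hs⟩ := exists_aut_extend_sep L (σ r)
    let Φ := Scheme.Modules.pullback (sigX p K s)
    haveI : Φ.IsEquivalence := (pullbackEquiv (sigIso p K s)).isEquivalence_functor
    haveI : Φ.Additive := Functor.additive_of_preserves_binary_products _
    obtain ⟨i⟩ := hinv s
    exact ⟨(cokernel.mapIso (Φ.map (tau p K L hG₁.1 u₁)) _ (sigBc p K s G₁) (sigBc p K s G₀)
      (sig_tau p K L hG₁.1 (σ r) s hs u₁)).symm ≪≫ (PreservesCokernel.iso Φ _).symm ≪≫ Φ.mapIso eN ≪≫ i⟩
  have eA := hA
  rw [coef_diag p K L hG₁.1 ρ' σ (fun l => rfl)] at c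
  obtain ⟨cd⟩ := coker_biproduct_map fun r => tauA p K L hG₁.1 (σ r) u₁
  obtain ⟨cr⟩ := biproduct_replicate W (Module.finrank k L)
  let ec : cokernel (coef p K L hG₁.1 (regHom K L β) u₁) ≅ sumL (List.replicate (Module.finrank k L) W) :=
    (cokernel.mapIso _ _ (smatIso p K hPQ hQP G₁) (smatIso p K hPQ hQP G₀) c.symm).symm ≪≫ cd ≪≫
      biproduct.mapIso (fun r => (eA r).some) ≪≫ cr
  let F := cokernel (mu p K L β u₁)
  have hcoh : ∀ {G : X.Modules}, Coh.IsCoh G → Coh.IsCoh (⨁ fun _ : Fin (Module.finrank k L) => G) := fun {G} hG => by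
    obtain ⟨b⟩ := biproduct_replicate G (Module.finrank k L)
    exact isCoh_of_retract (isCoh_replicate hG _) b.hom b.inv b.hom_inv_id
  have hF : Coh.IsCoh F := QCoh.isCoh_cokernel (hcoh hG₁).1 (hcoh hG₀) _
  haveI : PreservesColimitsOfShape WalkingParallelPair (Scheme.Modules.pullback (BrSev.proj p K)) :=
    (Scheme.Modules.pullbackPushforwardAdjunction _).leftAdjoint_preservesColimits.preservesColimitsOfShape
  let eF : bcF p K F ≅ sumL (List.replicate (Module.finrank k L) W) :=
    PreservesCokernel.iso (Scheme.Modules.pullback (BrSev.proj p K)) _ ≪≫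
      cokernel.mapIso _ _ (bcBiprod p K G₁) (bcBiprod p K G₀) (bc_mu p K L β hG₁.1 u₁) ≪≫ ec
  have hWd : FlatMod.IsFinLocFree (bcF p K F) := by
    have h := AmpleFamGen.isFinLocFree_biproduct' (fun _ : Fin (Module.finrank k L) => W) fun _ => hW
    obtain ⟨b⟩ := biproduct_replicate W (Module.finrank k L)
    exact isFinLocFree_of_retract h (eF ≪≫ b.symm).hom (eF ≪≫ b.symm).inv (eF ≪≫ b.symm).hom_inv_id
  exact ⟨F, _, (Module.finrank_pos (R := k) (M := L)).ne',
    FTDescent.isFinLocFree_of_pullback (BrSev.proj p K) hF.1 hWd, ⟨eF⟩⟩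

/-- A Galois invariant indecomposable module underlies an indecomposable module downstairs. -/
theorem exists_indec_of_invariant {W : (BrSev.bc p K).Modules} (hW : FlatMod.IsFinLocFree W) (hWi : Indec W)
    (hinv : ∀ s : K ≃ₐ[k] K, Nonempty ((Scheme.Modules.pullback (sigX p K s)).obj W ≅ W)) :
    ∃ (M : X.Modules) (r : ℕ), r ≠ 0 ∧ FlatMod.IsFinLocFree M ∧ Indec M ∧
      Nonempty (bcF p K M ≅ sumL (List.replicate r W)) := by
  obtain ⟨F, d, hd, hFf, ⟨eF⟩⟩ := exists_descent_pow p K hW hinv
  haveI := isNoetherian_of_proper p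
  haveI : IsNoetherian (BrSev.bc p K) := isNoetherian_of_proper (BrSev.bcTo p K)
  have hF := CurveDeg.isCoh_of_isFinLocFree hFf
  have hF0 : ¬ IsZero F := fun h0 => by
    have h1 : IsZero (sumL (List.replicate d W)) :=
      ((Scheme.Modules.pullback (BrSev.proj p K)).map_isZero h0).of_iso eF.symm
    obtain ⟨d', rfl⟩ := Nat.exists_eq_succ_of_ne_zero hd
    refine hWi.1 ((IsZero.iff_id_eq_zero W).2 ?_)
    rw [← iS_pS W (List.replicate d' W)]
    exact (congrArg (· ≫ pS W (List.replicate d' W)) (h1.eq_of_tgt (iS W (List.replicate d' W)) 0)).trans zero_comp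
  obtain ⟨M, m, -, hM, -, i, q, a, hiq, ⟨ea⟩⟩ :=
    exists_pow_of_isotypical p K hF hF0 (CurveDeg.isCoh_of_isFinLocFree hW) hWi eF
  exact ⟨M, a, replicate_pos (fun hz => hM.1 (isZero_of_bc p K (isCoh_of_retract hF i q hiq).1 hz)) ea,
    isFinLocFree_of_retract hFf i q hiq, hM, ⟨ea⟩⟩

end Groth.Agent.ASB
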