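import Mathlib.CategoryTheory.Abelian.Refinements
import Mathlib.Algebra.Homology.ShortComplex.ShortExact

/-!
# Extensions of split short complexes
-/

set_option linter.style.haveILetI false
set_option linter.unusedSectionVars false
set_option maxHeartbeats 1000000

universe u v

open CategoryTheory CategoryTheory.Limits

noncomputable section

namespace Groth.Agent.ASB

variable {C : Type v} [Category.{u} C] [Abelian C]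
  {a₂ a₁ a₀ t₂ t₁ t₀ b₂ b₁ b₀ : C}
  {A₂ : a₂ ⟶ a₁} {A₁ : a₁ ⟶ a₀} {T₂ : t₂ ⟶ t₁} {T₁ : t₁ ⟶ t₀} {B₂ : b₂ ⟶ b₁} {B₁ : b₁ ⟶ b₀}
  {i₂ : a₂ ⟶ t₂} {i₁ : a₁ ⟶ t₁} {i₀ : a₀ ⟶ t₀} {q₂ : t₂ ⟶ b₂} {q₁ : t₁ ⟶ b₁} {q₀ : t₀ ⟶ b₀}
  {s₂ : b₂ ⟶ t₂} {s₁ : b₁ ⟶ t₁} {r₁ : t₁ ⟶ a₁} {r₀ : t₀ ⟶ a₀} {s₀ : b₀ ⟶ t₀}

/-- The middle of an extension of exact complexes is exact. -/
theorem tri_exact {hT : T₂ ≫ T₁ = 0} {hA : A₂ ≫ A₁ = 0} {hB : B₂ ≫ B₁ = 0}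
    (hAe : (ShortComplex.mk A₂ A₁ hA).Exact) (hBe : (ShortComplex.mk B₂ B₁ hB).Exact)
    (hi₂ : i₂ ≫ T₂ = A₂ ≫ i₁) (hi₁ : i₁ ≫ T₁ = A₁ ≫ i₀) (hq₂ : T₂ ≫ q₁ = q₂ ≫ B₂) (hq₁ : T₁ ≫ q₀ = q₁ ≫ B₁)
    (hs₂ : s₂ ≫ q₂ = 𝟙 b₂) (htot : r₁ ≫ i₁ + q₁ ≫ s₁ = 𝟙 t₁) (hr₀ : i₀ ≫ r₀ = 𝟙 a₀) :
    (ShortComplex.mk T₂ T₁ hT).Exact := by
  rw [ShortComplex.exact_iff_exact_up_to_refinements]
  intro Z x hx
  dsimp only at x hx ⊢
  have h1 : (x ≫ q₁) ≫ B₁ = 0 := by rw [Category.assoc, ← hq₁, ← Category.assoc, hx, zero_comp]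
  obtain ⟨Z', π, hπ, y, hy⟩ := hBe.exact_up_to_refinements (x ≫ q₁) h1
  dsimp only at y hy
  let x' : Z' ⟶ t₁ := π ≫ x - y ≫ s₂ ≫ T₂
  have hx'q : x' ≫ q₁ = 0 := by
    simp only [x', Preadditive.sub_comp, Category.assoc, hq₂]
    rw [← Category.assoc s₂, hs₂, Category.id_comp, ← hy, sub_self]
  have hx'i : x' = (x' ≫ r₁) ≫ i₁ := by
    conv_lhs => rw [← Category.comp_id x', ← htot]
    rw [Preadditive.comp_add, ← Category.assoc x' q₁, hx'q, zero_comp, add_zero, Category.assoc]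
  have hx'T : x' ≫ T₁ = 0 := by
    simp only [x', Preadditive.sub_comp, Category.assoc, hT, hx, comp_zero, sub_zero]
  have hz : (x' ≫ r₁) ≫ A₁ = 0 := by
    have h2 : ((x' ≫ r₁) ≫ A₁) ≫ i₀ = 0 := by
      rw [Category.assoc, ← hi₁, ← Category.assoc, ← hx'i, hx'T]
    simpa [Category.assoc, hr₀] using congrArg (· ≫ r₀) h2
  obtain ⟨Z'', π', hπ', w, hw⟩ := hAe.exact_up_to_refinements (x' ≫ r₁) hz
  dsimp only at w hw
  refine ⟨Z'', π' ≫ π, inferInstance, w ≫ i₂ + π' ≫ y ≫ s₂, ?_⟩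
  show (π' ≫ π) ≫ x = (w ≫ i₂ + π' ≫ y ≫ s₂) ≫ T₂
  rw [Preadditive.add_comp, Category.assoc w, hi₂, ← Category.assoc w, ← hw, Category.assoc π' (x' ≫ r₁), ← hx'i]
  simp only [x', Category.assoc, Preadditive.comp_sub]
  abel

/-- The cokernel of an extension is an extension of the cokernels. -/
theorem tri_coker_shortExact {hT : T₂ ≫ T₁ = 0} {hB : B₂ ≫ B₁ = 0}
    (hBe : (ShortComplex.mk B₂ B₁ hB).Exact)
    (hi₁ : i₁ ≫ T₁ = A₁ ≫ i₀) (hq₂ : T₂ ≫ q₁ = q₂ ≫ B₂) (hq₁ : T₁ ≫ q₀ = q₁ ≫ B₁)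
    (hs₂ : s₂ ≫ q₂ = 𝟙 b₂) (hs₁ : s₁ ≫ q₁ = 𝟙 b₁) (htot : r₁ ≫ i₁ + q₁ ≫ s₁ = 𝟙 t₁) (hr₀ : i₀ ≫ r₀ = 𝟙 a₀)
    (hs₀ : s₀ ≫ q₀ = 𝟙 b₀) (htot₀ : r₀ ≫ i₀ + q₀ ≫ s₀ = 𝟙 t₀) (hiq₀ : i₀ ≫ q₀ = 0) :
    ∃ S : ShortComplex C, S.ShortExact ∧ Nonempty (S.X₁ ≅ cokernel A₁) ∧ Nonempty (S.X₂ ≅ cokernel T₁) ∧
      Nonempty (S.X₃ ≅ cokernel B₁) := by
  let f : cokernel A₁ ⟶ cokernel T₁ := cokernel.map A₁ T₁ i₁ i₀ hi₁.symm
  let g : cokernel T₁ ⟶ cokernel B₁ := cokernel.map T₁ B₁ q₁ q₀ hq₁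
  have hfg : f ≫ g = 0 := by
    rw [← cancel_epi (cokernel.π A₁)]
    simp [f, g, reassoc_of% hiq₀]
  have hqπ : q₀ ≫ cokernel.π B₁ = cokernel.π T₁ ≫ g := by simp [g]
  haveI : IsSplitEpi q₀ := IsSplitEpi.mk' ⟨s₀, hs₀⟩
  haveI : Epi g := by
    have : Epi (cokernel.π T₁ ≫ g) := by rw [← hqπ]; infer_instance
    exact epi_of_epi (cokernel.π T₁) g
  haveI : Mono f := by
    refine Preadditive.mono_of_cancel_zero f fun {Z} z hz => ?_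
    obtain ⟨Z₁, π, hπ, x, hx⟩ := surjective_up_to_refinements_of_epi (cokernel.π A₁) z
    have h1 : (x ≫ i₀) ≫ cokernel.π T₁ = 0 := by
      have : cokernel.π A₁ ≫ f = i₀ ≫ cokernel.π T₁ := by simp [f]
      rw [Category.assoc, ← this, ← Category.assoc, ← hx, Category.assoc, hz, comp_zero]
    obtain ⟨Z₂, π', hπ', y, hy⟩ :=
      (ShortComplex.exact_of_g_is_cokernel (ShortComplex.mk T₁ (cokernel.π T₁) (cokernel.condition T₁)) (cokernelIsCokernel T₁)).exact_up_to_refinements (x ≫ i₀) h1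
    dsimp only at y hy
    have h2 : (y ≫ q₁) ≫ B₁ = 0 := by
      rw [Category.assoc, ← hq₁, ← Category.assoc, ← hy, Category.assoc, Category.assoc, hiq₀, comp_zero, comp_zero]
    obtain ⟨Z₃, π'', hπ'', w, hw⟩ := hBe.exact_up_to_refinements (y ≫ q₁) h2
    dsimp only at w hw
    let y' : Z₃ ⟶ t₁ := π'' ≫ y - w ≫ s₂ ≫ T₂
    have hy'q : y' ≫ q₁ = 0 := by
      simp only [y', Preadditive.sub_comp, Category.assoc, hq₂]
      rw [← Category.assoc s₂, hs₂, Category.id_comp, ← hw, sub_self]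
    have hy'i : y' = (y' ≫ r₁) ≫ i₁ := by
      conv_lhs => rw [← Category.comp_id y', ← htot]
      rw [Preadditive.comp_add, ← Category.assoc y' q₁, hy'q, zero_comp, add_zero, Category.assoc]
    have hy'T : y' ≫ T₁ = (π'' ≫ π' ≫ x) ≫ i₀ := by
      simp only [y', Preadditive.sub_comp, Category.assoc, hT, comp_zero, sub_zero]
      rw [← hy]
    have h3 : π'' ≫ π' ≫ x = (y' ≫ r₁) ≫ A₁ := by
      have h4 : (π'' ≫ π' ≫ x) ≫ i₀ = ((y' ≫ r₁) ≫ A₁) ≫ i₀ := by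
        rw [← hy'T, Category.assoc (y' ≫ r₁) A₁ i₀, ← hi₁, ← Category.assoc, ← hy'i]
      simpa [Category.assoc, hr₀] using congrArg (· ≫ r₀) h4
    have h5 : π'' ≫ π' ≫ π ≫ z = 0 := by
      rw [hx, ← Category.assoc π', ← Category.assoc π'', h3, Category.assoc, Category.assoc, cokernel.condition,
        comp_zero, comp_zero]
    refine (cancel_epi π).1 ((cancel_epi π').1 ((cancel_epi π'').1 ?_))
    simpa using h5
  refine ⟨ShortComplex.mk f g hfg, ?_, ⟨Iso.refl _⟩, ⟨Iso.refl _⟩, ⟨Iso.refl _⟩⟩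
  refine { exact := ?_, mono_f := inferInstance, epi_g := inferInstance }
  rw [ShortComplex.exact_iff_exact_up_to_refinements]
  intro Z e he
  dsimp only at e he ⊢
  obtain ⟨Z₁, π, hπ, x, hx⟩ := surjective_up_to_refinements_of_epi (cokernel.π T₁) e
  have h1 : (x ≫ q₀) ≫ cokernel.π B₁ = 0 := by
    rw [Category.assoc, hqπ, ← Category.assoc, ← hx, Category.assoc, he, comp_zero]
  obtain ⟨Z₂, π', hπ', y, hy⟩ := (ShortComplex.exact_of_g_is_cokernel (ShortComplex.mk B₁ (cokernel.π B₁) (cokernel.condition B₁)) (cokernelIsCokernel B₁)).exact_up_to_refinements (x ≫ q₀) h1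
  dsimp only at y hy
  let x' : Z₂ ⟶ t₀ := π' ≫ x - y ≫ s₁ ≫ T₁
  have hx'q : x' ≫ q₀ = 0 := by
    simp only [x', Preadditive.sub_comp, Category.assoc, hq₁]
    rw [← Category.assoc s₁, hs₁, Category.id_comp, ← hy, sub_self]
  have hx'i : x' = (x' ≫ r₀) ≫ i₀ := by
    conv_lhs => rw [← Category.comp_id x', ← htot₀]
    rw [Preadditive.comp_add, ← Category.assoc x' q₀, hx'q, zero_comp, add_zero, Category.assoc]
  refine ⟨Z₂, π' ≫ π, inferInstance, (x' ≫ r₀) ≫ cokernel.π A₁, ?_⟩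
  have h6 : x' ≫ cokernel.π T₁ = π' ≫ x ≫ cokernel.π T₁ := by
    simp only [x', Preadditive.sub_comp, Category.assoc, cokernel.condition, comp_zero, sub_zero]
  rw [Category.assoc (x' ≫ r₀), show cokernel.π A₁ ≫ f = i₀ ≫ cokernel.π T₁ by simp [f], ← Category.assoc (x' ≫ r₀),
    ← hx'i, h6, Category.assoc, hx]

end Groth.Agent.ASB
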