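import Groth.Agent.ASB.Coef
import Groth.Agent.ASB.Tri
import Groth.Agent.ASB.Pic
import Groth.Agent.PicPnLib.Uniq
import Groth.Agent.LimMod.FPExtend
import Groth.Agent.LimMod.Crit
import Groth.Agent.LimMod.Descend
import Groth.Agent.FTDescent.FP
import Groth.Agent.Lib.PnDualExtPn
import Mathlib.CategoryTheory.Abelian.GrothendieckCategory.EnoughInjectives
import Mathlib.Algebra.Homology.DerivedCategory.Ext.ExactSequences

/-!
# Descent of twists up to multiplicity
-/

set_option linter.style.haveILetI false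
set_option linter.unusedSectionVars false
set_option backward.isDefEq.respectTransparency false
set_option backward.isDefEq.respectTransparency.types false
set_option maxHeartbeats 1000000

universe u v

open CategoryTheory CategoryTheory.Limits AlgebraicGeometry TopologicalSpace Opposite
open scoped TensorProduct

noncomputable section

namespace Groth.Agent.ASB

attribute [local instance] Abelian.hasFiniteBiproducts

/-- Pullback along an isomorphism, as an equivalence. -/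
def pullbackEquiv {Y Z : Scheme.{u}} (φ : Y ≅ Z) : Z.Modules ≌ Y.Modules :=
  CategoryTheory.Equivalence.mk (Scheme.Modules.pullback φ.hom) (Scheme.Modules.pullback φ.inv)
    (Scheme.Modules.pullbackComp φ.inv φ.hom ≪≫ Scheme.Modules.pullbackCongr φ.inv_hom_id ≪≫
      Scheme.Modules.pullbackId _).symm
    (Scheme.Modules.pullbackComp φ.hom φ.inv ≪≫ Scheme.Modules.pullbackCongr φ.hom_inv_id ≪≫
      Scheme.Modules.pullbackId _)

/-- Extensions of sums of a module by itself split when its morphisms lift. -/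
theorem iso_of_lift {C : Type v} [Category.{u} C] [Abelian C] {N : C}
    (hN : ∀ S : ShortComplex C, S.ShortExact → (S.X₁ ≅ N) → ∀ f : N ⟶ S.X₃, ∃ g, g ≫ S.g = f)
    {S : ShortComplex C} (hS : S.ShortExact) (a : S.X₁ ≅ N) {m : ℕ} (c : S.X₃ ≅ sumL (List.replicate m N)) :
    Nonempty (S.X₂ ≅ sumL (List.replicate (m + 1) N)) := by
  have h : ∀ (q : ℕ) (f : sumL (List.replicate q N) ⟶ S.X₃), ∃ g, g ≫ S.g = f := by
    intro q
    induction q with
    | zero => exact fun f => ⟨0, by rw [zero_comp]; exact (isZero_top.eq_of_src _ _)⟩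
    | succ q ih =>
      intro f
      obtain ⟨g₁, hg₁⟩ := hN S hS a ((biprod.inl : N ⟶ N ⊞ sumL (List.replicate q N)) ≫ f)
      obtain ⟨g₂, hg₂⟩ := ih ((biprod.inr : sumL (List.replicate q N) ⟶ N ⊞ sumL (List.replicate q N)) ≫ f)
      refine ⟨biprod.desc g₁ g₂, ?_⟩
      apply biprod.hom_ext' <;> simp [hg₁, hg₂] <;> rfl
  obtain ⟨g, hg⟩ := h m c.inv
  haveI := hS.mono_f
  let sp := ShortComplex.Splitting.ofExactOfSection S hS.exact (c.hom ≫ g)
    (by rw [Category.assoc, hg, Iso.hom_inv_id]) hS.mono_f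
  exact ⟨sp.isoBinaryBiproduct ≪≫ biprod.mapIso a c⟩

/-- Twists on projective space have no self-extensions. -/
theorem lift_twist {K : Type u} [Field K] {n : ℕ} (j : ℤ) (S : ShortComplex (CohB1.ProjSpace n K).Modules)
    (hS : S.ShortExact) (a : S.X₁ ≅ Twist.twistProjSpace n K j) (f : Twist.twistProjSpace n K j ⟶ S.X₃) :
    ∃ g, g ≫ S.g = f := by
  haveI : HasExt.{u} (CohB1.ProjSpace n K).Modules := IsGrothendieckAbelian.hasExt _
  haveI : HasExt.{u} (Proj (CohB1.polyGrading n K)).Modules :=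
    inferInstanceAs (HasExt.{u} (CohB1.ProjSpace n K).Modules)
  have hh : Subsingleton (Coh.HH (CohB1.ProjSpace n K) (Twist.twistProjSpace n K (j - j)) 1) :=
    S0844.result K n (j - j) 1 (fun h => by omega) (fun h => by omega)
  haveI hsub : Subsingleton (Abelian.Ext.{u} (Twist.twistProjSpace n K j) (Twist.twistProjSpace n K j) 1) :=
    PnDual.subsingleton_ext_twist (PnDual.coordsR K n) PnDual.coordsR_mem PnDual.coordsR_cover j j 1 hh
  haveI : Subsingleton (Abelian.Ext.{u} (Twist.twistProjSpace n K j) S.X₁ 1) :=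
    @Equiv.subsingleton _ _
      (((Abelian.extFunctorObj (Twist.twistProjSpace n K j) 1).mapIso a).addCommGroupIsoToAddEquiv).toEquiv hsub
  obtain ⟨y, hy⟩ := Abelian.Ext.covariant_sequence_exact₃ (Twist.twistProjSpace n K j) hS (Abelian.Ext.mk₀ f)
    (rfl : 0 + 1 = 1) (Subsingleton.elim _ _)
  refine ⟨Abelian.Ext.homEquiv₀ y, Abelian.Ext.homEquiv₀.symm.injective ?_⟩
  simp only [Abelian.Ext.homEquiv₀_symm_apply]
  rw [← Abelian.Ext.mk₀_comp_mk₀]
  simpa using hy

variable {k : Type u} [Field k] {X : Scheme.{u}} (p : X ⟶ Spec (CommRingCat.of k)) [IsProper p]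
  (K : Type u) [Field K] [Algebra k K]

/-- A coherent module upstairs is a quotient of a base change. -/
theorem exists_epi_bc {M : (BrSev.bc p K).Modules} (hM : Coh.IsCoh M) :
    ∃ (G : X.Modules) (q : bcF p K G ⟶ M), Coh.IsCoh G ∧ Epi q := by
  classical
  haveI := isNoetherian_of_proper p
  have hF := QCoh.isQCoh_pushforward (BrSev.proj p K) hM.1
  obtain ⟨m, U, hU, hcov⟩ := LimMod.exists_fin_succ_affine_cover X
  choose S hS using fun a => (QCoh.finite_of_isFT hM.1 hM.2 (isAffineOpen_pre p K (hU a))).fg_top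
  obtain ⟨G, π, hG, hπ⟩ := LimMod.exists_fp_hom_mem_fin hF U hU fun a => S a
  have hGc : Coh.IsCoh G := QCoh.isCoh_iff_isFP.2 hG
  let q := ((Scheme.Modules.pullbackPushforwardAdjunction (BrSev.proj p K)).homEquiv G M).symm π
  refine ⟨G, q, hGc, LimMod.epi_of_surjective q (fun a => pre p K (U a)) (fun a => isAffineOpen_pre p K (hU a))
    (fun x => hcov _) (QCoh.isQCoh_pullback _ hGc.1) hM.1 fun a z => ?_⟩
  have hz : z ∈ Submodule.span Γ(BrSev.bc p K, pre p K (U a)) (S a : Set Γ(M, pre p K (U a))) := hS a ▸ trivial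
  induction hz using Submodule.span_induction with
  | mem s hs =>
    obtain ⟨w, hw⟩ := hπ a s hs
    refine ⟨pull p K G (U a) w, ?_⟩
    have h := LimMod.adjunct_app (BrSev.proj p K) q (U a) w
    rw [Equiv.apply_symm_apply] at h
    exact h.symm.trans hw
  | zero => exact ⟨0, map_zero _⟩
  | add x y _ _ hx hy =>
    obtain ⟨x', rfl⟩ := hx
    obtain ⟨y', rfl⟩ := hy
    exact ⟨x' + y', map_add _ _ _⟩
  | smul r x _ hx =>
    obtain ⟨x', rfl⟩ := hx
    exact ⟨r • x', Scheme.Modules.Hom.app_smul _ _ _⟩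

variable [IsAlgClosed K] [Algebra.IsAlgebraic k K]

/-- A map to an algebraically closed field extends along an algebraic extension. -/
theorem exists_lift_aux {R S M : Type*} [Field R] [Field S] [Algebra R S] [Algebra.IsAlgebraic R S] [Field M]
    [IsAlgClosed M] (f : R →+* M) : ∃ g : S →+* M, ∀ r, g (algebraMap R S r) = f r :=
  letI := f.toAlgebra
  ⟨(IsAlgClosed.lift (R := R) (S := S) (M := M)).toRingHom, fun r => AlgHom.commutes _ r⟩

/-- An embedding of a subalgebra extends to an automorphism. -/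
theorem exists_aut_extend (L : Subalgebra k K) (σ : L →ₐ[k] K) : ∃ s : K ≃ₐ[k] K, ∀ l : L, s l = σ l := by
  letI : Field L := (Subalgebra.isField_of_algebraic L).toField
  haveI : Algebra.IsAlgebraic L K := Algebra.IsAlgebraic.tower_top (K := k) L
  obtain ⟨g, hg⟩ := exists_lift_aux (S := K) σ.toRingHom
  let t : K →ₐ[k] K := { g with commutes' := fun r => (hg (algebraMap k L r)).trans (σ.commutes r) }
  exact ⟨AlgEquiv.ofBijective t (Algebra.IsAlgebraic.algHom_bijective t), fun l => hg l⟩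

/-- The cokernels of a complex with coefficients in a commuting family. -/
theorem coker_coef {L : Subalgebra k K} {G₀ G₁ G₂ : X.Modules} (h₁ : Coh.IsQCoh G₁) (h₂ : Coh.IsQCoh G₂)
    (u₁ : letI := ovr p; L ⊗[k] (G₁ ⟶ G₀)) (u₂ : letI := ovr p; L ⊗[k] (G₂ ⟶ G₁))
    (hzero : ∀ (d : ℕ) (ρ : L →ₐ[k] Matrix (Fin d) (Fin d) K), coef p K L h₂ ρ u₂ ≫ coef p K L h₁ ρ u₁ = 0)
    (hz : tau p K L h₂ u₂ ≫ tau p K L h₁ u₁ = 0) (hex : (ShortComplex.mk _ _ hz).Exact)
    {N : (BrSev.bc p K).Modules} (eN : cokernel (tau p K L h₁ u₁) ≅ N)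
    (hinv : ∀ s : K ≃ₐ[k] K, Nonempty ((Scheme.Modules.pullback (sigX p K s)).obj N ≅ N))
    (hlift : ∀ S : ShortComplex (BrSev.bc p K).Modules, S.ShortExact → (S.X₁ ≅ N) →
      ∀ f : N ⟶ S.X₃, ∃ g, g ≫ S.g = f) :
    ∀ (d : ℕ) (ρ : L →ₐ[k] Matrix (Fin d) (Fin d) K),
      (ShortComplex.mk _ _ (hzero d ρ)).Exact ∧
      Nonempty (cokernel (coef p K L h₁ ρ u₁) ≅ sumL (List.replicate d N)) := by
  letI := ovr p
  intro d
  induction d with
  | zero =>
    intro ρ
    have hz0 : ∀ M : X.Modules, IsZero (⨁ fun _ : Fin 0 => bcF p K M) := fun M =>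
      (IsZero.iff_id_eq_zero _).2 (biproduct.hom_ext _ _ fun q => q.elim0)
    exact ⟨ShortComplex.exact_of_isZero_X₂ _ (hz0 G₁),
      ⟨IsZero.iso (IsZero.of_epi (cokernel.π _) (hz0 G₀)) isZero_top⟩⟩
  | succ d ih =>
    have tri : ∀ (ρ : L →ₐ[k] Matrix (Fin (d + 1)) (Fin (d + 1)) K) (_ : ∀ l (r : Fin d), ρ l r.succ 0 = 0),
        (ShortComplex.mk _ _ (hzero (d + 1) ρ)).Exact ∧
        Nonempty (cokernel (coef p K L h₁ ρ u₁) ≅ sumL (List.replicate (d + 1) N)) := by
      intro ρ h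
      obtain ⟨s, hs⟩ := exists_aut_extend K L (headHom K L ρ h)
      let Φ := Scheme.Modules.pullback (sigX p K s)
      haveI : Φ.IsEquivalence := (pullbackEquiv (sigIso p K s)).isEquivalence_functor
      haveI : Φ.Additive := Functor.additive_of_preserves_binary_products _
      have c₁ := sig_tau p K L h₁ (headHom K L ρ h) s hs u₁
      have c₂ := sig_tau p K L h₂ (headHom K L ρ h) s hs u₂
      have hzA : tauA p K L h₂ (headHom K L ρ h) u₂ ≫ tauA p K L h₁ (headHom K L ρ h) u₁ = 0 := by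
        rw [← cancel_epi (sigBc p K s G₂).hom, ← Category.assoc, ← c₂, Category.assoc, ← c₁,
          ← Functor.map_comp_assoc, hz, Functor.map_zero, zero_comp, comp_zero]
      have hAe : (ShortComplex.mk _ _ hzA).Exact :=
        ShortComplex.exact_of_iso (ShortComplex.isoMk (S₁ := (ShortComplex.mk _ _ hz).map Φ)
          (S₂ := ShortComplex.mk _ _ hzA) (sigBc p K s G₂) (sigBc p K s G₁) (sigBc p K s G₀) c₂.symm c₁.symm)
          (hex.map Φ)
      obtain ⟨i⟩ := hinv s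
      let eA : cokernel (tauA p K L h₁ (headHom K L ρ h) u₁) ≅ N :=
        (cokernel.mapIso (Φ.map (tau p K L h₁ u₁)) _ (sigBc p K s G₁) (sigBc p K s G₀) c₁).symm ≪≫
          (PreservesCokernel.iso Φ _).symm ≪≫ Φ.mapIso eN ≪≫ i
      obtain ⟨hBe, ⟨eB⟩⟩ := ih (tailHom K L ρ h)
      refine ⟨tri_exact hAe hBe (ι_coef p K L h₂ ρ h u₂) (ι_coef p K L h₁ ρ h u₁) (coef_qTail p K L h₂ ρ h u₂)
        (coef_qTail p K L h₁ ρ h u₁) (sTail_qTail p K _) (tail_total p K _) (biproduct.ι_π_self _ _), ?_⟩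
      obtain ⟨S, hS, ⟨j₁⟩, ⟨j₂⟩, ⟨j₃⟩⟩ := tri_coker_shortExact (hT := hzero (d + 1) ρ) hBe
        (ι_coef p K L h₁ ρ h u₁) (coef_qTail p K L h₂ ρ h u₂) (coef_qTail p K L h₁ ρ h u₁)
        (sTail_qTail p K _) (sTail_qTail p K _) (tail_total p K _) (biproduct.ι_π_self _ _)
        (sTail_qTail p K _) (tail_total p K _) (ι_qTail p K _)
      obtain ⟨r⟩ := iso_of_lift hlift hS (j₁ ≪≫ eA) (j₃ ≪≫ eB)
      exact ⟨j₂.symm ≪≫ r⟩
    intro ρ
    obtain ⟨P, Q, ρ', hPQ, hQP, hconj, h0⟩ := exists_conj ρ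
    obtain ⟨hex', ⟨ec⟩⟩ := tri ρ' h0
    let f₂ := smatIso p K hPQ hQP G₂
    let f₁ := smatIso p K hPQ hQP G₁
    let f₀ := smatIso p K hPQ hQP G₀
    have c₁ : f₁.hom ≫ coef p K L h₁ ρ u₁ = coef p K L h₁ ρ' u₁ ≫ f₀.hom := coef_conj p K L h₁ hconj u₁
    have c₂ : f₂.hom ≫ coef p K L h₂ ρ u₂ = coef p K L h₂ ρ' u₂ ≫ f₁.hom := coef_conj p K L h₂ hconj u₂
    exact ⟨ShortComplex.exact_of_iso (ShortComplex.isoMk (S₁ := ShortComplex.mk _ _ (hzero (d + 1) ρ'))
      (S₂ := ShortComplex.mk _ _ (hzero (d + 1) ρ)) f₂ f₁ f₀ c₂ c₁) hex',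
      ⟨(cokernel.mapIso _ _ f₁ f₀ c₁.symm).symm ≪≫ ec⟩⟩

end Groth.Agent.ASB
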