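import Groth.Agent.ASB.Coef
import Groth.Agent.ASB.Dim
import Groth.Agent.ASB.ActCore
import Groth.Agent.ASB.Twisted
import Groth.Prelude.Def_BrSev2

/-!
# Morphisms after extension of the field, evaluated at rational points
-/

set_option linter.style.haveILetI false
set_option linter.unusedSectionVars false
set_option backward.isDefEq.respectTransparency false
set_option backward.isDefEq.respectTransparency.types false
set_option maxHeartbeats 1000000

universe u

open CategoryTheory CategoryTheory.Limits AlgebraicGeometry TopologicalSpace Opposite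
open scoped TensorProduct

noncomputable section

namespace Groth.Agent.ASB

theorem pullback_map_comp_eq_zero_iff {U Y Z : Scheme.{u}} (f : U ⟶ Y) (g : Y ⟶ Z) {M N : Z.Modules} (φ : M ⟶ N) :
    (Scheme.Modules.pullback f).map ((Scheme.Modules.pullback g).map φ) = 0 ↔
      (Scheme.Modules.pullback (f ≫ g)).map φ = 0 := by
  have h := (Scheme.Modules.pullbackComp f g).hom.naturality φ
  simp only [Functor.comp_map] at h
  constructor
  · intro h0
    rw [h0, zero_comp] at h
    exact (cancel_epi ((Scheme.Modules.pullbackComp f g).hom.app M)).1 (h.symm.trans comp_zero.symm)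
  · intro h0
    rw [h0, comp_zero] at h
    exact (cancel_mono ((Scheme.Modules.pullbackComp f g).hom.app N)).1 (h.trans zero_comp.symm)

variable {k : Type u} [Field k] {X : Scheme.{u}} (p : X ⟶ Spec (CommRingCat.of k))
  (K : Type u) [Field K] [Algebra k K]

/-- Morphisms with coefficients in the larger field. -/
def omg {F G : X.Modules} (hF : Coh.IsQCoh F) :
    letI := ovr p
    (K ⊗[k] (F ⟶ G)) →+ (bcF p K F ⟶ bcF p K G) :=
  letI := ovr p
  TensorProduct.liftAddHom
    (AddMonoidHom.mk' (fun c => AddMonoidHom.mk' (fun φ => scalarHom p K c φ) (scalarHom_add_right p K c))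
      (fun c c' => AddMonoidHom.ext fun φ => scalarHom_add_left p K c c' φ))
    (fun a c φ => by
      show scalarHom p K (a • c) φ = scalarHom p K c (a • φ)
      rw [scalarHom_smul p K hF, Algebra.smul_def, mul_comm])

theorem omg_tmul {F G : X.Modules} (hF : Coh.IsQCoh F) (c : K) (φ : F ⟶ G) :
    letI := ovr p
    omg p K hF (c ⊗ₜ[k] φ) = scalarHom p K c φ := rfl

theorem omg_smul {F G : X.Modules} (hF : Coh.IsQCoh F) (b : K) (x : letI := ovr p; K ⊗[k] (F ⟶ G)) :
    letI := ovr p
    omg p K hF (b • x) = sm p K b _ ≫ omg p K hF x := by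
  letI := ovr p
  induction x using TensorProduct.induction_on with
  | zero => simp
  | add x y hx hy => rw [smul_add, map_add, map_add, hx, hy, Preadditive.comp_add]
  | tmul c φ => rw [TensorProduct.smul_tmul', omg_tmul, omg_tmul, sm_scalarHom, smul_eq_mul]

theorem omg_baseChange {F G H : X.Modules} (hF : Coh.IsQCoh F) (ψ : G ⟶ H)
    (d : letI := ovr p; (F ⟶ G) →ₗ[k] (F ⟶ H)) (hd : ∀ φ, d φ = φ ≫ ψ) (x : letI := ovr p; K ⊗[k] (F ⟶ G)) :
    letI := ovr p
    omg p K hF (d.baseChange K x) = omg p K hF x ≫ bcMap p K ψ := by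
  letI := ovr p
  induction x using TensorProduct.induction_on with
  | zero => simp
  | add x y hx hy => rw [map_add, map_add, map_add, hx, hy, Preadditive.add_comp]
  | tmul c φ =>
    rw [LinearMap.baseChange_tmul, omg_tmul, omg_tmul, hd, scalarHom, scalarHom, bcMap, bcMap, bcMap,
      Functor.map_comp, Category.assoc]

theorem omg_bijective [IsProper p] {F G : X.Modules} (hF : Coh.IsCoh F) (hG : Coh.IsQCoh G) :
    Function.Bijective (omg p K (G := G) hF.1) := by
  letI := ovr p
  classical
  let β := Module.Basis.ofVectorSpace k K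
  let e := TensorProduct.equivFinsuppOfBasisLeft (N := (F ⟶ G)) β
  have key : ∀ c, omg p K (G := G) hF.1 (e.symm c) = combo p K β c := fun c => by
    induction c using Finsupp.induction_linear with
    | zero => rw [map_zero, map_zero, map_zero]
    | add c c' hc hc' => rw [map_add, map_add, map_add, hc, hc']
    | single i φ =>
      have h1 : e.symm (Finsupp.single i φ) = β i ⊗ₜ φ := by
        rw [LinearEquiv.symm_apply_eq, TensorProduct.equivFinsuppOfBasisLeft_apply_tmul,
          Module.Basis.repr_self, Finsupp.mapRange_single, one_smul]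
      rw [h1, omg_tmul, combo_single]
  constructor
  · intro x y h
    obtain ⟨c, rfl⟩ := e.symm.surjective x
    obtain ⟨c', rfl⟩ := e.symm.surjective y
    rw [key, key] at h
    rw [combo_injective_basis p K β hG hF.1 h]
  · intro ψ
    obtain ⟨c, hc⟩ := combo_surjective p K β hF hG ψ
    exact ⟨e.symm c, (key c).trans hc⟩

theorem omg_sig {F G : X.Modules} (hF : Coh.IsQCoh F) (σ : K ≃ₐ[k] K) (x : letI := ovr p; K ⊗[k] (F ⟶ G)) :
    letI := ovr p
    (Scheme.Modules.pullback (sigX p K σ)).map (omg p K hF x) ≫ (sigBc p K σ G).hom =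
      (sigBc p K σ F).hom ≫ omg p K hF (Act.sV (F ⟶ G) σ x) := by
  letI := ovr p
  induction x using TensorProduct.induction_on with
  | zero => simp
  | add a b ha hb => rw [map_add, map_add, map_add, Functor.map_add, Preadditive.add_comp, Preadditive.comp_add, ha, hb]
  | tmul c φ =>
    rw [omg_tmul, sig_scalarHom, show Act.sV (F ⟶ G) σ (c ⊗ₜ[k] φ) = σ c ⊗ₜ[k] φ from rfl, omg_tmul]

/-- The section of the base change given by a rational point. -/
def ptBar (g : BrSev.Pts p K) : Spec (CommRingCat.of K) ⟶ BrSev.bc p K :=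
  pullback.lift g.1 (𝟙 _) (by rw [Category.id_comp]; exact g.2)

theorem ptBar_proj (g : BrSev.Pts p K) : ptBar p K g ≫ BrSev.proj p K = g.1 := pullback.lift_fst _ _ _

theorem ptBar_bcTo (g : BrSev.Pts p K) : ptBar p K g ≫ BrSev.bcTo p K = 𝟙 _ := pullback.lift_snd _ _ _

theorem ptBar_sig (g : BrSev.Pts p K) (σ : K ≃ₐ[k] K) :
    ptBar p K (BrSev.Pts.map p σ.toAlgHom g) ≫ sigX p K σ = specσ K σ ≫ ptBar p K g := by
  apply pullback.hom_ext
  · show (_ ≫ sigX p K σ) ≫ BrSev.proj p K = (_ ≫ _) ≫ BrSev.proj p K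
    rw [Category.assoc, sigX_proj, ptBar_proj, Category.assoc, ptBar_proj]
    rfl
  · show (_ ≫ sigX p K σ) ≫ BrSev.bcTo p K = (_ ≫ _) ≫ BrSev.bcTo p K
    rw [Category.assoc, sigX_bcTo, ← Category.assoc, ptBar_bcTo, Category.id_comp, Category.assoc, ptBar_bcTo,
      Category.comp_id]

/-- The combination vanishes at the point. -/
def VanAt {F G : X.Modules} (hF : Coh.IsQCoh F) (g : BrSev.Pts p K) (x : letI := ovr p; K ⊗[k] (F ⟶ G)) : Prop :=
  letI := ovr p
  (Scheme.Modules.pullback (ptBar p K g)).map (omg p K hF x) = 0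

theorem vanAt_sig {F G : X.Modules} (hF : Coh.IsQCoh F) (g : BrSev.Pts p K) (σ : K ≃ₐ[k] K)
    (x : letI := ovr p; K ⊗[k] (F ⟶ G)) :
    letI := ovr p
    VanAt p K hF (BrSev.Pts.map p σ.toAlgHom g) (Act.sV (F ⟶ G) σ x) ↔ VanAt p K hF g x := by
  letI := ovr p
  let g' := BrSev.Pts.map p σ.toAlgHom g
  let i : Spec (CommRingCat.of K) ≅ Spec (CommRingCat.of K) :=
    ⟨specσ K σ, specσ K σ.symm, by simpa using specσ_symm_comp K σ.symm, specσ_symm_comp K σ⟩
  haveI : (Scheme.Modules.pullback (specσ K σ)).IsEquivalence := (pullbackEquiv i).isEquivalence_functor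
  haveI : (Scheme.Modules.pullback (specσ K σ)).Additive := Functor.additive_of_preserves_binary_products _
  have h := congrArg (fun t => (sigBc p K σ F).inv ≫ t) (omg_sig p K (G := G) hF σ x)
  simp only [Iso.inv_hom_id_assoc] at h
  have e1 : (Scheme.Modules.pullback (ptBar p K g')).map (omg p K hF (Act.sV (F ⟶ G) σ x)) = 0 ↔
      (Scheme.Modules.pullback (ptBar p K g')).map ((Scheme.Modules.pullback (sigX p K σ)).map (omg p K hF x)) = 0 := by
    rw [← h, Functor.map_comp, Functor.map_comp]
    constructor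
    · intro h0
      have h1 := congrArg (fun t => (Scheme.Modules.pullback (ptBar p K g')).map (sigBc p K σ F).hom ≫ t ≫
        (Scheme.Modules.pullback (ptBar p K g')).map (sigBc p K σ G).inv) h0
      simpa [← Functor.map_comp, ← Functor.map_comp_assoc] using h1
    · intro h0
      rw [h0, zero_comp, comp_zero]
  show (Scheme.Modules.pullback (ptBar p K g')).map _ = 0 ↔ _
  rw [e1, pullback_map_comp_eq_zero_iff, ptBar_sig, ← pullback_map_comp_eq_zero_iff, Functor.map_eq_zero_iff]
  exact Iff.rfl

theorem vanAt_comp {F G H : X.Modules} (hF : Coh.IsQCoh F) (g : BrSev.Pts p K) (ψ : G ⟶ H)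
    (d : letI := ovr p; (F ⟶ G) →ₗ[k] (F ⟶ H)) (hd : ∀ φ, d φ = φ ≫ ψ) (x : letI := ovr p; K ⊗[k] (F ⟶ G)) :
    letI := ovr p
    VanAt p K hF g x → VanAt p K hF g (d.baseChange K x) := by
  letI := ovr p
  intro h
  show (Scheme.Modules.pullback (ptBar p K g)).map _ = 0
  rw [omg_baseChange p K hF ψ d hd, Functor.map_comp, h, zero_comp]

end Groth.Agent.ASB
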