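import Groth.Agent.ASB.Twisted
import Groth.Agent.AmpleFamGen.Basic
import Groth.Agent.ZClosLib.CohDescent
import Groth.Agent.H23.PnChart

/-!
# Twists descend up to multiplicity
-/

set_option linter.style.haveILetI false
set_option linter.unusedSectionVars false
set_option backward.isDefEq.respectTransparency false
set_option backward.isDefEq.respectTransparency.types false
set_option maxHeartbeats 1000000

universe u v

open CategoryTheory CategoryTheory.Limits AlgebraicGeometry TopologicalSpace Opposite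
open scoped TensorProduct

noncomputable section

namespace Groth.Agent.ASB

attribute [local instance] Abelian.hasFiniteBiproducts

variable {k : Type u} [Field k] {X : Scheme.{u}} {p : X ⟶ Spec (CommRingCat.of k)} [IsProper p]
  {K : Type u} [Field K] [Algebra k K]

/-- A combination with coefficients in a subalgebra is a morphism with coefficients. -/
theorem exists_tau_eq_combo {I : Type u} (b : I → K) (L : Subalgebra k K) {F G : X.Modules} (hF : Coh.IsQCoh F)
    (d : I →₀ (F ⟶ G)) (h : ∀ i ∈ d.support, b i ∈ L) :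
    letI := ovr p
    ∃ u, tau p K L hF u = combo p K b d := by
  classical
  letI := ovr p
  refine ⟨∑ i ∈ d.support.attach, (⟨b i.1, h _ i.2⟩ : L) ⊗ₜ d i.1, ?_⟩
  rw [map_sum]
  simp only [tau_tmul]
  rw [Finset.sum_attach d.support fun i => scalarHom p K (b i) (d i)]
  conv_rhs => rw [← Finsupp.sum_single d]
  rw [map_finsuppSum]
  exact Finset.sum_congr rfl fun i _ => (combo_single p K b i (d i)).symm

variable {n : ℕ}

theorem isInvertible_twist (e : BrSev.Splitting p K n) (j : ℤ) : PicF.IsInvertible (e.twist j) :=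
  PicClLib.isInvertible_pullback _
    (PnCoh.Finite.isInvertible_twist (ProjRegular.coords K n) ProjRegular.coords_mem ProjRegular.coords_cover j)

theorem isIntegral_bc (e : BrSev.Splitting p K n) : IsIntegral (BrSev.bc p K) := by
  haveI : IsIntegral (CohB1.ProjSpace n K) := H23.PnChart.isIntegral_projSpace n K
  haveI : Nonempty ↥(BrSev.bc p K) := ⟨e.iso.inv (Nonempty.some inferInstance)⟩
  exact isIntegral_of_isOpenImmersion e.iso.hom

/-- Field automorphisms fix the twists. -/
theorem twist_sig (e : BrSev.Splitting p K n) (j : ℤ) (s : K ≃ₐ[k] K) :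
    Nonempty ((Scheme.Modules.pullback (sigX p K s)).obj (e.twist j) ≅ e.twist j) := by
  obtain ⟨c⟩ := PicPnLib.pullback_twist (n := n) (R := K) (e.iso.symm ≪≫ sigIso p K s ≪≫ e.iso) j
  refine ⟨(Scheme.Modules.pullbackComp _ _).app _ ≪≫ (Scheme.Modules.pullbackCongr ?_).app _ ≪≫
    ((Scheme.Modules.pullbackComp e.iso.hom (e.iso.symm ≪≫ sigIso p K s ≪≫ e.iso).hom).app _).symm ≪≫
    (Scheme.Modules.pullback e.iso.hom).mapIso c⟩
  simp [sigIso]

/-- Morphisms from twists lift along extensions by the same twist. -/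
theorem lift_splitting (e : BrSev.Splitting p K n) (j : ℤ) (S : ShortComplex (BrSev.bc p K).Modules)
    (hS : S.ShortExact) (a : S.X₁ ≅ e.twist j) (f : e.twist j ⟶ S.X₃) : ∃ g, g ≫ S.g = f := by
  let I := Scheme.Modules.pullback e.iso.inv
  haveI : I.IsEquivalence := (pullbackEquiv e.iso.symm).isEquivalence_functor
  haveI : I.Additive := Functor.additive_of_preserves_binary_products _
  let b : I.obj (e.twist j) ≅ Twist.twistProjSpace n K j :=
    (Scheme.Modules.pullbackComp e.iso.inv e.iso.hom).app _ ≪≫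
      (Scheme.Modules.pullbackCongr e.iso.inv_hom_id).app _ ≪≫ (Scheme.Modules.pullbackId _).app _
  obtain ⟨g, hg⟩ := lift_twist j (S.map I) (hS.map_of_exact I) (I.mapIso a ≪≫ b) (b.inv ≫ I.map f)
  refine ⟨I.preimage (b.hom ≫ g), I.map_injective ?_⟩
  rw [Functor.map_comp, Functor.map_preimage, Category.assoc]
  exact (congrArg (fun t => b.hom ≫ t) hg).trans (b.hom_inv_id_assoc _)

/-- Every twist is, up to multiplicity, the base change of an indecomposable locally free module. -/
theorem exists_indec_twPow [IsAlgClosed K] [Algebra.IsAlgebraic k K] (e : BrSev.Splitting p K n) (j : ℤ) :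
    ∃ (W : X.Modules) (a : ℕ), a ≠ 0 ∧ FlatMod.IsFinLocFree W ∧ Indec W ∧
      Nonempty (bcF p K W ≅ sumL (List.replicate a (e.twist j))) := by
  classical
  letI := ovr p
  haveI := isNoetherian_of_proper p
  haveI : IsNoetherian (BrSev.bc p K) := isNoetherian_of_proper (BrSev.bcTo p K)
  haveI := isIntegral_bc e
  let N := e.twist j
  have hN : PicF.IsInvertible N := isInvertible_twist e j
  have hNc : Coh.IsCoh N := CurveDeg.isCoh_of_isInvertible hN
  obtain ⟨G₀, q₀, hG₀, hq₀⟩ := exists_epi_bc p K hNc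
  have hb : ∀ {G : X.Modules}, Coh.IsCoh G → Coh.IsCoh (bcF p K G) := fun h => ZClosLib.isCoh_pullback _ h
  obtain ⟨G₁, q₁, hG₁, hq₁⟩ := exists_epi_bc p K (QCoh.isCoh_kernel (hb hG₀) hNc q₀)
  let Φ₁ := q₁ ≫ kernel.ι q₀
  obtain ⟨G₂, q₂, hG₂, hq₂⟩ := exists_epi_bc p K (QCoh.isCoh_kernel (hb hG₁) (hb hG₀) Φ₁)
  let Φ₂ := q₂ ≫ kernel.ι Φ₁
  let β₀ := Module.Basis.ofVectorSpace k K
  obtain ⟨c₁, hc₁⟩ := combo_surjective p K β₀ hG₁ hG₀.1 Φ₁
  obtain ⟨c₂, hc₂⟩ := combo_surjective p K β₀ hG₂ hG₁.1 Φ₂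
  let T : Finset K := (c₁.support ∪ c₂.support).image β₀
  let L := Algebra.adjoin k (T : Set K)
  haveI : Module.Finite k L :=
    Module.Finite.iff_fg.2 (fg_adjoin_of_finite T.finite_toSet fun x _ => Algebra.IsIntegral.isIntegral x)
  let β := Module.finBasis k L
  have hmem : ∀ i ∈ c₁.support ∪ c₂.support, β₀ i ∈ L := fun i hi =>
    Algebra.subset_adjoin (Finset.mem_coe.2 (Finset.mem_image_of_mem _ hi))
  obtain ⟨u₁, hu₁⟩ := exists_tau_eq_combo (p := p) β₀ L hG₁.1 c₁ fun i hi => hmem i (Finset.mem_union_left _ hi)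
  obtain ⟨u₂, hu₂⟩ := exists_tau_eq_combo (p := p) β₀ L hG₂.1 c₂ fun i hi => hmem i (Finset.mem_union_right _ hi)
  replace hu₁ := hu₁.trans hc₁
  replace hu₂ := hu₂.trans hc₂
  have hz : tau p K L hG₂.1 u₂ ≫ tau p K L hG₁.1 u₁ = 0 := by
    rw [hu₁, hu₂]
    simp only [Φ₂, Category.assoc, kernel.condition, comp_zero]
  obtain ⟨w, hw, hw'⟩ := exists_comp' p K L hG₂.1 hG₁.1 u₂ u₁
  have hw0 : w = 0 := tau_injective p K L hG₂.1 hG₀.1 (by rw [← hw, hz, map_zero])
  have hzero : ∀ (d : ℕ) (ρ : L →ₐ[k] Matrix (Fin d) (Fin d) K),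
      coef p K L hG₂.1 ρ u₂ ≫ coef p K L hG₁.1 ρ u₁ = 0 := fun d ρ => by rw [hw' d ρ, hw0, map_zero]
  have hz' : Φ₂ ≫ Φ₁ = 0 := by simp only [Φ₂, Category.assoc, kernel.condition, comp_zero]
  have hex : (ShortComplex.mk _ _ hz).Exact := by
    have h1 : (ShortComplex.mk Φ₂ Φ₁ hz').Exact := by
      rw [ShortComplex.exact_iff_epi_kernel_lift]
      have : kernel.lift Φ₁ Φ₂ hz' = q₂ := by apply (cancel_mono (kernel.ι Φ₁)).1; simp [Φ₂]
      exact this ▸ hq₂
    refine ShortComplex.exact_of_iso ?_ h1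
    exact ShortComplex.isoMk (Iso.refl _) (Iso.refl _) (Iso.refl _) (by simp [hu₂]) (by simp [hu₁])
  let eN : cokernel (tau p K L hG₁.1 u₁) ≅ N :=
    cokernelIsoOfEq hu₁ ≪≫ cokernelEpiComp q₁ (kernel.ι q₀) ≪≫
      IsColimit.coconePointUniqueUpToIso (cokernelIsCokernel (kernel.ι q₀))
        (Abelian.epiIsCokernelOfKernel (KernelFork.ofι (kernel.ι q₀) (kernel.condition q₀)) (kernelIsKernel q₀))
  obtain ⟨-, ⟨ec⟩⟩ := coker_coef p K hG₁.1 hG₂.1 u₁ u₂ hzero hz hex eN (twist_sig e j) (lift_splitting e j)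
    (Module.finrank k L) (regHom K L β)
  let F := cokernel (mu p K L β u₁)
  have hcoh : ∀ {G : X.Modules}, Coh.IsCoh G → Coh.IsCoh (⨁ fun _ : Fin (Module.finrank k L) => G) := fun {G} hG => by
    obtain ⟨b⟩ := biproduct_replicate G (Module.finrank k L)
    exact isCoh_of_retract (isCoh_replicate hG _) b.hom b.inv b.hom_inv_id
  have hF : Coh.IsCoh F := QCoh.isCoh_cokernel (hcoh hG₁).1 (hcoh hG₀) _
  haveI : (Scheme.Modules.pullback (BrSev.proj p K)).IsLeftAdjoint :=
    (Scheme.Modules.pullbackPushforwardAdjunction _).isLeftAdjoint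
  haveI : PreservesColimitsOfShape WalkingParallelPair (Scheme.Modules.pullback (BrSev.proj p K)) :=
    (Scheme.Modules.pullbackPushforwardAdjunction _).leftAdjoint_preservesColimits.preservesColimitsOfShape
  let eF : bcF p K F ≅ sumL (List.replicate (Module.finrank k L) N) :=
    PreservesCokernel.iso (Scheme.Modules.pullback (BrSev.proj p K)) _ ≪≫
      cokernel.mapIso _ _ (bcBiprod p K G₁) (bcBiprod p K G₀) (bc_mu p K L β hG₁.1 u₁) ≪≫ ec
  have hNd : FlatMod.IsFinLocFree (bcF p K F) := by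
    have h := AmpleFamGen.isFinLocFree_biproduct (fun _ : Fin (Module.finrank k L) => N) fun _ => hN
    obtain ⟨b⟩ := biproduct_replicate N (Module.finrank k L)
    exact isFinLocFree_of_retract h (eF ≪≫ b.symm).hom (eF ≪≫ b.symm).inv (eF ≪≫ b.symm).hom_inv_id
  have hFf : FlatMod.IsFinLocFree F := FTDescent.isFinLocFree_of_pullback (BrSev.proj p K) hF.1 hNd
  have hF0 : ¬ IsZero F := fun h0 => by
    have h1 : IsZero (sumL (List.replicate (Module.finrank k L) N)) :=
      ((Scheme.Modules.pullback (BrSev.proj p K)).map_isZero h0).of_iso eF.symm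
    obtain ⟨d', hd'⟩ := Nat.exists_eq_succ_of_ne_zero (Module.finrank_pos (R := k) (M := L)).ne'
    rw [hd'] at h1
    refine (indec_invertible hN).1 ((IsZero.iff_id_eq_zero N).2 ?_)
    rw [← iS_pS N (List.replicate d' N)]
    exact (congrArg (· ≫ pS N (List.replicate d' N)) (h1.eq_of_tgt (iS N (List.replicate d' N)) 0)).trans zero_comp
  obtain ⟨W, m, -, hW, -, i, q, a, hiq, ⟨ea⟩⟩ := exists_pow_of_isotypical p K hF hF0 hNc (indec_invertible hN) eF
  exact ⟨W, a, replicate_pos (fun hz => hW.1 (isZero_of_bc p K (isCoh_of_retract hF i q hiq).1 hz)) ea,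
    isFinLocFree_of_retract hFf i q hiq, hW, ⟨ea⟩⟩

end Groth.Agent.ASB
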