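import Groth.Agent.ASB.SplitVan
import Groth.Agent.ASB.SectionsBC
import Groth.Agent.ASB.TwDescent
import Groth.Agent.ASB.GalDescent
import Groth.Agent.KFlatLib.Perfect.Top
import Groth.Agent.KRRReg.Exact
import Groth.Agent.PPSheaf.FlatPr
import Groth.Prelude.Def_KZero

/-!
# Modules of nonpositive twisting type generate K₀
-/

set_option linter.style.haveILetI false
set_option linter.unusedSectionVars false
set_option backward.isDefEq.respectTransparency false
set_option backward.isDefEq.respectTransparency.types false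
set_option maxHeartbeats 1000000

universe u

open CategoryTheory CategoryTheory.Limits AlgebraicGeometry TopologicalSpace Opposite
open scoped TensorProduct

noncomputable section

namespace Groth.Agent.ASB.GenNeg

attribute [local instance] Abelian.hasFiniteBiproducts preservesBinaryBiproducts_of_preservesBiproducts

section KZ

variable {X : Scheme.{u}} [IsNoetherian X]

/-- The class of a finite locally free module. -/
abbrev cl (M : X.Modules) : KZero.K0sub (fun M : X.Modules => FlatMod.IsFinLocFree M) :=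
  KZero.clSub (fun M : X.Modules => FlatMod.IsFinLocFree M) M

theorem cl_add {S : ShortComplex X.Modules} (hS : S.ShortExact) (h₁ : FlatMod.IsFinLocFree S.X₁)
    (h₂ : FlatMod.IsFinLocFree S.X₂) (h₃ : FlatMod.IsFinLocFree S.X₃) : cl S.X₂ = cl S.X₁ + cl S.X₃ := by
  simp only [cl, KZero.clSub, dif_pos h₁, dif_pos h₂, dif_pos h₃]
  rw [← sub_eq_zero, ← sub_sub]
  exact (QuotientAddGroup.eq_zero_iff _).2 (AddSubgroup.subset_closure ⟨S, h₁, h₂, h₃, hS, rfl⟩)

theorem cl_isZero {Z : X.Modules} (hZ : IsZero Z) (hf : FlatMod.IsFinLocFree Z) : cl Z = 0 := by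
  have hS : (ShortComplex.mk (𝟙 Z) (0 : Z ⟶ Z) (by simp)).ShortExact :=
    haveI : Epi (0 : Z ⟶ Z) := ⟨fun a b _ => hZ.eq_of_src a b⟩
    { exact := ShortComplex.exact_of_isZero_X₂ _ hZ }
  simpa using cl_add hS hf hf hf

theorem cl_iso {A B : X.Modules} (θ : A ≅ B) (hA : FlatMod.IsFinLocFree A) (hB : FlatMod.IsFinLocFree B) :
    cl A = cl B := by
  obtain ⟨Z, hZ⟩ : ∃ Z : X.Modules, IsZero Z := ⟨_, isZero_top⟩
  have hZf : FlatMod.IsFinLocFree Z :=
    isFinLocFree_of_retract hA 0 0 (hZ.eq_of_src _ _)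
  have hS : (ShortComplex.mk (0 : Z ⟶ A) θ.hom (zero_comp)).ShortExact :=
    haveI : Mono (0 : Z ⟶ A) := ⟨fun a b _ => hZ.eq_of_tgt a b⟩
    { exact := (ShortComplex.exact_iff_mono _ rfl).2 inferInstance }
  have h := cl_add hS hZf hA hB
  rw [cl_isZero hZ hZf, zero_add] at h
  exact h

theorem isFinLocFree_sumL : ∀ (l : List X.Modules), FlatMod.IsFinLocFree (sumL l) → ∀ M ∈ l, FlatMod.IsFinLocFree M
  | [], _, M, hM => absurd hM (List.not_mem_nil)
  | N :: l, h, M, hM => by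
    rcases List.mem_cons.1 hM with rfl | hM
    · exact isFinLocFree_of_retract h (iS M l) (pS M l) (iS_pS _ _)
    · exact isFinLocFree_sumL l (isFinLocFree_of_retract h (biprod.inr : sumL l ⟶ N ⊞ sumL l) biprod.snd biprod.inr_snd) M hM

theorem cl_sumL_mem (G : AddSubgroup (KZero.K0sub (fun M : X.Modules => FlatMod.IsFinLocFree M))) :
    ∀ (l : List X.Modules), FlatMod.IsFinLocFree (sumL l) → (∀ M ∈ l, cl M ∈ G) → cl (sumL l) ∈ G
  | [], h, _ => by rw [cl_isZero (Z := sumL ([] : List X.Modules)) isZero_top h]; exact zero_mem _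
  | N :: l, h, hl => by
    have hN : FlatMod.IsFinLocFree N := isFinLocFree_of_retract h (iS N l) (pS N l) (iS_pS _ _)
    have hR : FlatMod.IsFinLocFree (sumL l) :=
      isFinLocFree_of_retract h (biprod.inr : sumL l ⟶ N ⊞ sumL l) biprod.snd biprod.inr_snd
    have hS : (ShortComplex.mk (biprod.inl : N ⟶ N ⊞ sumL l) biprod.snd biprod.inl_snd).ShortExact :=
      ShortComplex.Splitting.shortExact (ShortComplex.Splitting.ofHasBinaryBiproduct N (sumL l))
    rw [show cl (sumL (N :: l)) = cl N + cl (sumL l) from cl_add hS hN h hR]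
    exact G.add_mem (hl N List.mem_cons_self) (cl_sumL_mem G l hR fun M hM => hl M (List.mem_cons_of_mem _ hM))

end KZ

section Sections

/-- Surjectivity on sections passes to a left factorization. -/
theorem surjective_app_of_fac {Y : Scheme.{u}} {A B C : Y.Modules} (β : A ⟶ B) (f : B ⟶ C) (g : A ⟶ C)
    (h : β ≫ f = g) (hg : Function.Surjective (g.app ⊤)) : Function.Surjective (f.app ⊤) := fun x => by
  obtain ⟨y, rfl⟩ := hg x
  exact ⟨β.app ⊤ y, by rw [← h]; rfl⟩

/-- Surjectivity on sections is insensitive to renaming the target. -/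
theorem surjective_app_eqToHom {Y Z : Scheme.{u}} (F : Y.Modules ⥤ Z.Modules) {A B C : Y.Modules} (g : A ⟶ B)
    (h : B = C) (hg : Function.Surjective ((F.map g).app ⊤)) :
    Function.Surjective ((F.map (g ≫ eqToHom h)).app ⊤) := by
  subst h
  rw [eqToHom_refl, Category.comp_id]
  exact hg

/-- Sections lift along a mapped short exact sequence without first cohomology. -/
theorem surjective_app_of_HH_one {Y Z : Scheme.{u}} (F : Y.Modules ⥤ Z.Modules) [F.PreservesZeroMorphisms]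
    (S : ShortComplex Y.Modules) (hS : (S.map F).ShortExact) (h : Subsingleton (Coh.HH Z (F.obj S.X₁) 1)) :
    Function.Surjective ((F.map S.g).app ⊤) :=
  QCoh.app_top_surjective_of_HH_one hS h

end Sections

section Twists

variable {K : Type u} [Field K] {m : ℕ}

/-- Twists have no middle cohomology. -/
theorem twist_mid (c n : ℤ) (i : ℕ) (h1 : 1 ≤ i) (h2 : i < m) :
    Subsingleton (Coh.HH (PnVan.P K m) ((PnVan.tw n).obj (Twist.twistProjSpace m K c)) i) := by
  obtain ⟨e⟩ := PnVan.twist_add (k := K) (r := m) c n (c + n) rfl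
  exact QCoh.subsingleton_HH_of_iso e.symm i (S0844.result K m (c + n) i (fun h => by omega) (fun h => by omega))

/-- Negative twists have no sections. -/
theorem twist_low (hm : 1 ≤ m) (c n : ℤ) (h : c + n < 0) :
    Subsingleton (Coh.HH (PnVan.P K m) ((PnVan.tw n).obj (Twist.twistProjSpace m K c)) 0) := by
  obtain ⟨e⟩ := PnVan.twist_add (k := K) (r := m) c n (c + n) rfl
  exact QCoh.subsingleton_HH_of_iso e.symm 0 (S0844.result K m (c + n) 0 (fun h => by omega) (fun h => by omega))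

/-- Sections of twists lift along short exact sequences without first cohomology. -/
theorem surjective_tw_app {S : ShortComplex (PnVan.P K m).Modules} (hS : S.ShortExact) (n : ℤ)
    (h : Subsingleton (Coh.HH (PnVan.P K m) ((PnVan.tw n).obj S.X₁) 1)) :
    Function.Surjective (((PnVan.tw n).map S.g).app ⊤) :=
  surjective_app_of_HH_one (PnVan.tw n) S (PnVan.shortExact_tw hS n) h

end Twists

variable {k : Type u} [Field k] {X : Scheme.{u}} {p : X ⟶ Spec (CommRingCat.of k)} [IsProper p]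
  {K : Type u} [Field K] [Algebra k K] {m : ℕ}

/-- The functor to modules on projective space. -/
abbrev Θ (e : BrSev.Splitting p K m) : X.Modules ⥤ (PnVan.P K m).Modules :=
  Scheme.Modules.pullback (BrSev.proj p K) ⋙ Scheme.Modules.pullback e.iso.inv

/-- Morphisms on projective space factor through a family spanning the morphisms below. -/
theorem exists_factor (e : BrSev.Splitting p K m) {W L E : X.Modules} (hW : Coh.IsCoh W) (hE : Coh.IsQCoh E)
    (π : L ⟶ E) (hπ : ∀ φ : W ⟶ E, ∃ ψ : W ⟶ L, ψ ≫ π = φ) {c : ℤ} {r : ℕ} (hr : r ≠ 0)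
    (hWt : BrSev.IsTwPow e c r W) (g : Twist.twistProjSpace m K c ⟶ toPn e E) :
    ∃ b : Twist.twistProjSpace m K c ⟶ toPn e L, b ≫ (Θ e).map π = g := by
  obtain ⟨r, rfl⟩ := Nat.exists_eq_succ_of_ne_zero hr
  obtain ⟨a⟩ := toPn_twPow e hWt
  let Ψ := Scheme.Modules.pullback e.iso.inv
  haveI : Ψ.IsEquivalence := (pullbackEquiv e.iso.symm).isEquivalence_functor
  obtain ⟨h, hh⟩ := Ψ.map_surjective (a.hom ≫ pS _ (List.replicate r (Twist.twistProjSpace m K c)) ≫ g)
  obtain ⟨x, rfl⟩ := (omg_bijective p K (F := W) (G := E) hW hE).2 h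
  letI := ovr p
  obtain ⟨ψ, hψ⟩ : ∃ ψ : bcF p K W ⟶ bcF p K L, ψ ≫ bcMap p K π = omg p K hW.1 x := by
    clear hh
    induction x using TensorProduct.induction_on with
    | zero => exact ⟨0, by rw [zero_comp, map_zero]⟩
    | add x y hx hy =>
      obtain ⟨ψ₁, h₁⟩ := hx
      obtain ⟨ψ₂, h₂⟩ := hy
      exact ⟨ψ₁ + ψ₂, by rw [Preadditive.add_comp, h₁, h₂, map_add]⟩
    | tmul b φ =>
      obtain ⟨ψ, rfl⟩ := hπ φ
      refine ⟨sm p K b _ ≫ bcMap p K ψ, ?_⟩
      rw [omg_tmul, scalarHom, Category.assoc]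
      simp [bcMap]
  refine ⟨iS _ (List.replicate r (Twist.twistProjSpace m K c)) ≫ a.inv ≫ Ψ.map ψ, ?_⟩
  show (_ ≫ _ ≫ Ψ.map ψ) ≫ Ψ.map (bcMap p K π) = g
  rw [Category.assoc, Category.assoc, ← Functor.map_comp, hψ, hh, Iso.inv_hom_id_assoc, ← Category.assoc, iS_pS,
    Category.id_comp]

variable [IsAlgClosed K] [Algebra.IsAlgebraic k K]

/-- The subgroup generated by the indecomposable modules of nonpositive twisting type. -/
def NegTypes (e : BrSev.Splitting p K m) : Set (KZero.K0sub (fun M : X.Modules => FlatMod.IsFinLocFree M)) :=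
  {c | ∃ (W : X.Modules) (j : ℕ) (r : ℕ), FlatMod.IsFinLocFree W ∧
    (¬ IsZero W ∧ ∀ M₁ M₂ : X.Modules, Nonempty (W ≅ M₁ ⊞ M₂) → IsZero M₁ ∨ IsZero M₂) ∧
    0 < r ∧ BrSev.IsTwPow e (-(j : ℤ)) r W ∧ c = cl W}

/-- No sections below degree zero. -/
def Low (e : BrSev.Splitting p K m) (E : X.Modules) : Prop :=
  ∀ n : ℤ, n < 0 → Subsingleton (Coh.HH (PnVan.P K m) ((PnVan.tw n).obj (toPn e E)) 0)

/-- A cover by modules of nonpositive twisting types, surjective on the sections of all twists. -/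
theorem exists_cover (hm : 1 ≤ m) (e : BrSev.Splitting p K m) {E : X.Modules} (hE : FlatMod.IsFinLocFree E) :
    ∃ (L : X.Modules) (π : L ⟶ E), Epi π ∧ FlatMod.IsFinLocFree L ∧
      cl L ∈ AddSubgroup.closure (NegTypes e) ∧ Low e L ∧
      (∀ (n : ℤ) (i : ℕ), 1 ≤ i → i < m → Subsingleton (Coh.HH (PnVan.P K m) ((PnVan.tw n).obj (toPn e L)) i)) ∧
      (Low e E → ∀ n : ℤ, Function.Surjective (((PnVan.tw n).map ((Θ e).map π)).app ⊤)) := by
  classical
  haveI := isNoetherian_of_proper p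
  letI := ovr p
  haveI : IsProper (X ↘ Spec (CommRingCat.of k)) := ‹IsProper p›
  have hEc := CurveDeg.isCoh_of_isFinLocFree hE
  have hlf : FlatMod.IsFinLocFree (toPn e E) :=
    KFlatLib.isFinLocFree_pullback _ (KFlatLib.isFinLocFree_pullback _ hE)
  have hF : Coh.IsCoh (X := PnVan.P K m) (toPn e E) :=
    QCoh.isCoh_iff_isFP.2 (QCoh.isFP_of_isFinLocFree (X := PnVan.P K m) hlf)
  obtain ⟨ι, _, d, hd, S, P', q, hS, h3, hK, hpq⟩ :=
    PnDual.exists_presentation_lt (PnDual.goodPn_of_isCoh (k := K) (n := m) hF) 0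
  haveI := hS.mono_f
  have hS2 : Coh.IsCoh (X := PnVan.P K m) S.X₂ :=
    QCoh.isCoh_iff_isFP.2 (QCoh.isFP_of_isFinLocFree (X := PnVan.P K m)
      (PnVan.isFinLocFree_of_decomposition P' q hpq fun a => PnVan.invertible_twist _))
  obtain ⟨d₀, hd₀⟩ := RegDescent.exists_vanishing_twF (k := K) (n := m)
    (QCoh.isCoh_of_mono S.f hS2 hK.1) 1 Nat.one_pos
  obtain ⟨N₀, hN₀⟩ : ∃ N₀ : ℕ, d₀ ≤ (N₀ : ℤ) := ⟨d₀.toNat, Int.self_le_toNat d₀⟩
  let T : Finset ℕ := Finset.univ.image (fun a => (-(d a)).toNat) ∪ Finset.range N₀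
  choose W r hr hWf hWi hWt using fun c : T => exists_indec_twPow e (-((c : ℕ) : ℤ))
  have hWc := fun c => CurveDeg.isCoh_of_isFinLocFree (hWf c)
  haveI := fun c => finite_hom (k := k) X (hWc c) hEc
  let J := (c : T) × Fin (Module.finrank k (W c ⟶ E))
  let ν := Fintype.equivFin J
  let M : Fin (Fintype.card J) → X.Modules := fun x => W (ν.symm x).1
  let φ : ∀ x, M x ⟶ E := fun x => Module.finBasis k (W (ν.symm x).1 ⟶ E) (ν.symm x).2
  let π : (⨁ M) ⟶ E := biproduct.desc φ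
  have hfac : ∀ (c : T) (ψ : W c ⟶ E), ∃ χ : W c ⟶ ⨁ M, χ ≫ π = ψ := by
    intro c ψ
    let S' : Submodule k (W c ⟶ E) :=
      LinearMap.range (Linear.rightComp k (W c) π)
    suffices ψ ∈ S' from this
    rw [← (Module.finBasis k (W c ⟶ E)).sum_repr ψ]
    refine S'.sum_mem fun l _ => S'.smul_mem _ ?_
    have h0 : ∃ χ : W c ⟶ ⨁ M, χ ≫ π = Module.finBasis k (W c ⟶ E) l := by
      obtain ⟨x, hx⟩ : ∃ x, ν.symm x = ⟨c, l⟩ := ⟨ν ⟨c, l⟩, ν.symm_apply_apply _⟩
      have key : ∀ (y : J) (x : Fin (Fintype.card J)), ν.symm x = y →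
          ∃ χ : W y.1 ⟶ ⨁ M, χ ≫ π = Module.finBasis k (W y.1 ⟶ E) y.2 := by
        rintro _ x rfl
        exact ⟨biproduct.ι M x, biproduct.ι_desc φ x⟩
      exact key ⟨c, l⟩ x hx
    exact h0
  have hfac' : ∀ c : ℤ, c ≤ 0 → (-c).toNat ∈ T → ∀ g : Twist.twistProjSpace m K c ⟶ toPn e E,
      ∃ b, b ≫ (Θ e).map π = g := by
    intro c hc hcT g
    refine exists_factor e (hWc ⟨_, hcT⟩) hEc.1 π (hfac ⟨_, hcT⟩) (hr ⟨_, hcT⟩) ?_ g
    have h := (isTwPow_iff e _ _ _).2 (hWt ⟨_, hcT⟩)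
    simp only at h
    rwa [show -(((-c).toNat : ℕ) : ℤ) = c by omega] at h
  haveI := hS.epi_g
  obtain ⟨β, hβ⟩ : ∃ β : S.X₂ ⟶ toPn e (⨁ M), β ≫ (Θ e).map π = S.g ≫ eqToHom h3 := by
    choose b hb using fun a => hfac' (d a) (le_of_lt (hd a))
      (Finset.mem_union_left _ (Finset.mem_image_of_mem _ (Finset.mem_univ a))) (q a ≫ S.g ≫ eqToHom h3)
    refine ⟨∑ a, P' a ≫ b a, ?_⟩
    rw [Preadditive.sum_comp, ← Category.id_comp (S.g ≫ eqToHom h3), ← hpq, Preadditive.sum_comp]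
    refine Finset.sum_congr rfl fun a _ => ?_
    rw [Category.assoc, hb, Category.assoc]
  haveI : Epi ((Θ e).map π) := epi_of_epi_fac hβ
  obtain ⟨g₁⟩ := coprod_ofFn M
  let g₀ : (⨁ M) ≅ sumL (List.ofFn M) := biproduct.isoCoproduct M ≪≫ g₁
  have hMf : ∀ M' ∈ List.ofFn M, ∃ c : T, M' = W c := fun M' h => by
    obtain ⟨x, rfl⟩ := List.mem_ofFn.1 h
    exact ⟨_, rfl⟩
  have hL : FlatMod.IsFinLocFree (⨁ M) := AmpleFamGen.isFinLocFree_biproduct' M fun x => hWf _
  have hΘL : ∀ (n : ℤ) (i : ℕ),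
      (∀ c : T, Subsingleton (Coh.HH (PnVan.P K m) ((PnVan.tw n).obj (Twist.twistProjSpace m K (-((c : ℕ) : ℤ)))) i)) →
      Subsingleton (Coh.HH (PnVan.P K m) ((PnVan.tw n).obj (toPn e (⨁ M))) i) := by
    intro n i h
    obtain ⟨g₂⟩ := map_sumL (Θ e ⋙ PnVan.tw n) (List.ofFn M)
    refine QCoh.subsingleton_HH_of_iso ((Θ e ⋙ PnVan.tw n).mapIso g₀ ≪≫ g₂).symm i
      (subsingleton_sumL i _ fun N hN => ?_)
    obtain ⟨M', hM', rfl⟩ := List.mem_map.1 hN
    obtain ⟨c, rfl⟩ := hMf M' hM'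
    obtain ⟨t⟩ := toPn_twPow e ((isTwPow_iff e _ _ _).2 (hWt c))
    obtain ⟨t'⟩ := map_replicate (PnVan.tw (k := K) (r := m) n) (Twist.twistProjSpace m K (-((c : ℕ) : ℤ))) (r c)
    exact QCoh.subsingleton_HH_of_iso ((PnVan.tw n).mapIso t ≪≫ t').symm i
      (subsingleton_sumL i _ fun N hN => by rw [List.eq_of_mem_replicate hN]; exact h c)
  have hπ : Epi π := by
    refine Preadditive.epi_of_isZero_cokernel π ?_
    haveI : (Scheme.Modules.pullback (BrSev.proj p K)).IsLeftAdjoint :=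
      (Scheme.Modules.pullbackPushforwardAdjunction _).isLeftAdjoint
    haveI : PreservesColimitsOfShape WalkingParallelPair (Scheme.Modules.pullback (BrSev.proj p K)) :=
      (Scheme.Modules.pullbackPushforwardAdjunction _).leftAdjoint_preservesColimits.preservesColimitsOfShape
    let Ψ := Scheme.Modules.pullback e.iso.inv
    haveI : Ψ.IsEquivalence := (pullbackEquiv e.iso.symm).isEquivalence_functor
    haveI : Epi (bcMap p K π) := Ψ.epi_of_epi_map (show Epi ((Θ e).map π) from inferInstance)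
    exact isZero_of_bc p K (QCoh.isQCoh_cokernel (QCoh.isQCoh_of_isFinLocFree hL) hEc.1 π)
      ((isZero_cokernel_of_epi (bcMap p K π)).of_iso (PreservesCokernel.iso _ π))
  refine ⟨⨁ M, π, hπ, hL, ?_, fun n hn => hΘL n 0 fun c => twist_low hm _ n (by omega),
    fun n i h1 h2 => hΘL n i fun c => twist_mid _ n i h1 h2, ?_⟩
  · have hL' : FlatMod.IsFinLocFree (sumL (List.ofFn M)) := isFinLocFree_of_retract hL g₀.inv g₀.hom g₀.inv_hom_id
    rw [cl_iso g₀ hL hL']
    refine cl_sumL_mem _ _ hL' fun M' hM' => ?_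
    obtain ⟨c, rfl⟩ := hMf M' hM'
    exact AddSubgroup.subset_closure ⟨W c, c, r c, hWf c, hWi c, Nat.pos_of_ne_zero (hr c),
      (isTwPow_iff e _ _ _).2 (hWt c), rfl⟩
  · intro hlow n
    by_cases hn0 : n < 0
    · haveI := hlow n hn0
      haveI : Subsingleton Γ((PnVan.tw n).obj ((Θ e).obj E), ⊤) :=
        (Sheaf.H.equiv₀ (Coh.toAb ((PnVan.tw n).obj (toPn e E))) isTerminalTop).symm.toEquiv.subsingleton
      exact fun x => ⟨0, Subsingleton.elim _ _⟩
    by_cases hn1 : (N₀ : ℤ) ≤ n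
    · exact surjective_app_of_fac ((PnVan.tw n).map β) ((PnVan.tw n).map ((Θ e).map π))
        ((PnVan.tw n).map (S.g ≫ eqToHom h3)) (by rw [← Functor.map_comp, hβ])
        (surjective_app_eqToHom (PnVan.tw n) S.g h3
          (surjective_tw_app (S := S) hS n (hd₀ n (le_trans hN₀ hn1))))
    intro x
    obtain ⟨t₁⟩ := PnVan.twist_add (k := K) (r := m) (-n) n 0 (by omega)
    obtain ⟨t₀⟩ := PnVan.twist_zero (k := K) (r := m)
    obtain ⟨g, hg⟩ := (PnVan.tw (k := K) (r := m) n).map_surjective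
      ((t₁ ≪≫ t₀.symm).hom ≫ InvX.ofSect x)
    obtain ⟨b, hb⟩ := hfac' (-n) (by omega) (by
      refine Finset.mem_union_right _ (Finset.mem_range.2 ?_)
      omega) g
    refine ⟨((t₁ ≪≫ t₀.symm).inv ≫ (PnVan.tw n).map b).app ⊤ (show Γ(PnVan.P K m, ⊤) from 1), ?_⟩
    show (((t₁ ≪≫ t₀.symm).inv ≫ (PnVan.tw n).map b) ≫ (PnVan.tw n).map ((Θ e).map π)).app ⊤
      (show Γ(PnVan.P K m, ⊤) from 1) = x
    rw [Category.assoc, ← Functor.map_comp, hb, hg, Iso.inv_hom_id_assoc]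
    exact InvX.one_ofSect x

/-- The kernel of a cover. -/
theorem kernel_props (e : BrSev.Splitting p K m) {E L : X.Modules} (π : L ⟶ E) [Epi π]
    (hL : FlatMod.IsFinLocFree L) (hE : FlatMod.IsFinLocFree E) :
    ∃ S : ShortComplex X.Modules, S.ShortExact ∧ S.X₂ = L ∧ S.X₃ = E ∧ FlatMod.IsFinLocFree S.X₁ ∧
      (Low e L → Low e S.X₁) ∧
      ((∀ n : ℤ, Function.Surjective (((PnVan.tw n).map ((Θ e).map π)).app ⊤)) →
        ∀ s : ℕ, (∀ (n : ℤ) (i : ℕ), 1 ≤ i → i < m →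
            Subsingleton (Coh.HH (PnVan.P K m) ((PnVan.tw n).obj (toPn e L)) i)) →
          (∀ (n : ℤ) (i : ℕ), 1 ≤ i → i ≤ s → i < m →
            Subsingleton (Coh.HH (PnVan.P K m) ((PnVan.tw n).obj (toPn e E)) i)) →
          ∀ (n : ℤ) (i : ℕ), 1 ≤ i → i ≤ s + 1 → i < m →
            Subsingleton (Coh.HH (PnVan.P K m) ((PnVan.tw n).obj (toPn e S.X₁)) i)) := by
  let S := ShortComplex.mk (kernel.ι π) π (kernel.condition π)
  have hS : S.ShortExact := { exact := ShortComplex.exact_of_f_is_kernel _ (kernelIsKernel π) }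
  haveI := PPSheaf.preservesFiniteLimits_pullback (BrSev.proj p K)
  haveI : (Scheme.Modules.pullback (BrSev.proj p K)).IsLeftAdjoint :=
    (Scheme.Modules.pullbackPushforwardAdjunction _).isLeftAdjoint
  haveI : PreservesFiniteColimits (Scheme.Modules.pullback (BrSev.proj p K)) :=
    ⟨fun _ _ _ => (Scheme.Modules.pullbackPushforwardAdjunction _).leftAdjoint_preservesColimits.preservesColimitsOfShape⟩
  haveI : (Scheme.Modules.pullback e.iso.inv).IsEquivalence := (pullbackEquiv e.iso.symm).isEquivalence_functor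
  have h1 : (S.map (Θ e)).ShortExact := by
    exact (hS.map_of_exact (Scheme.Modules.pullback (BrSev.proj p K))).map_of_exact
      (Scheme.Modules.pullback e.iso.inv)
  have h2 : ∀ n : ℤ, ((S.map (Θ e)).map (PnVan.tw n)).ShortExact := fun n => PnVan.shortExact_tw h1 n
  have low₁ : Low e L → Low e S.X₁ := fun hl n hn => by
    have h := hl n hn
    exact PnVan.subsingleton_X₁_zero (S := (S.map (Θ e)).map (PnVan.tw n)) (h2 n) h
  refine ⟨S, hS, rfl, rfl, KFlatLib.isFinLocFree_kernel π hL hE, low₁, ?_⟩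
  intro hs s hLm hEm n i hi1 his him
  rcases Nat.lt_or_ge i 2 with hi | hi
  · obtain rfl : i = 1 := by omega
    exact KRRReg.subsingleton_HH_X₁_one (S := (S.map (Θ e)).map (PnVan.tw n)) (h2 n) (hLm n 1 hi1 him) (hs n)
  · obtain ⟨i, rfl⟩ : ∃ j, i = j + 1 := ⟨i - 1, by omega⟩
    exact PnVan.subsingleton_X₁_succ (S := (S.map (Θ e)).map (PnVan.tw n)) (h2 n) i
      (hEm n i (by omega) (by omega) (by omega)) (hLm n _ hi1 him)

/-- Classes of bundles without negative sections and middle cohomology. -/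
theorem mem_of_split (hm : 1 ≤ m) (e : BrSev.Splitting p K m) {E : X.Modules} (hE : FlatMod.IsFinLocFree E)
    (hlow : Low e E)
    (hmid : ∀ (n : ℤ) (i : ℕ), 1 ≤ i → i < m → Subsingleton (Coh.HH (PnVan.P K m) ((PnVan.tw n).obj (toPn e E)) i)) :
    cl E ∈ AddSubgroup.closure (NegTypes e) := by
  haveI := isNoetherian_of_proper p
  obtain ⟨s, Ls, hLs, ⟨c⟩⟩ := exists_split_of_mid e hE hmid
  obtain ⟨d⟩ := coprod_ofFn Ls
  letI := ovr p
  haveI := finite_end p (CurveDeg.isCoh_of_isFinLocFree hE)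
  obtain ⟨l, hl, ⟨eE⟩⟩ := exists_decomp k E
  have h := twPow_of_split e (CurveDeg.isCoh_of_isFinLocFree hE) l hl eE Ls hLs (c ≪≫ d)
  have hl' : FlatMod.IsFinLocFree (sumL l) := isFinLocFree_of_retract hE eE.inv eE.hom eE.inv_hom_id
  rw [cl_iso eE hE hl']
  refine cl_sumL_mem _ _ hl' fun Z hZ => ?_
  obtain ⟨j, a, ha, hZf, ⟨t⟩⟩ := h Z hZ
  have hj : j ≤ 0 := by
    by_contra hj
    obtain ⟨l₁, l₂, rfl⟩ := List.append_of_mem hZ
    obtain ⟨ep⟩ := sumL_perm (C := X.Modules) (List.perm_middle (a := Z) (l₁ := l₁) (l₂ := l₂))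
    obtain ⟨a, rfl⟩ := Nat.exists_eq_succ_of_ne_zero ha
    obtain ⟨t'⟩ := toPn_twPow e ((isTwPow_iff e _ _ _).2 ⟨t⟩)
    let i₀ : Twist.twistProjSpace m K j ⟶ toPn e E :=
      iS _ (List.replicate a (Twist.twistProjSpace m K j)) ≫ t'.inv ≫
        (Θ e).map (iS Z (l₁ ++ l₂) ≫ ep.inv ≫ eE.inv)
    let p₀ : toPn e E ⟶ Twist.twistProjSpace m K j :=
      (Θ e).map (eE.hom ≫ ep.hom ≫ pS Z (l₁ ++ l₂)) ≫ t'.hom ≫ pS _ (List.replicate a (Twist.twistProjSpace m K j))
    have hip : i₀ ≫ p₀ = 𝟙 _ := by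
      simp only [i₀, p₀, Category.assoc]
      rw [← Functor.map_comp_assoc]
      simp [iS_pS]
    have h0 := PnVan.subsingleton_of_retract ((PnVan.tw (-j)).map i₀) ((PnVan.tw (-j)).map p₀)
      (by rw [← Functor.map_comp, hip, CategoryTheory.Functor.map_id]) 0 (hlow (-j) (by omega))
    obtain ⟨u⟩ := PnVan.twist_add (k := K) (r := m) j (-j) 0 (by omega)
    obtain ⟨t₀⟩ := PnVan.twist_zero (k := K) (r := m)
    have h1 := (S14439.hyp K m).one
    haveI := QCoh.subsingleton_HH_of_iso (u ≪≫ t₀.symm) 0 h0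
    rw [Module.finrank_zero_of_subsingleton] at h1
    omega
  obtain ⟨j', rfl⟩ : ∃ j' : ℕ, j = -(j' : ℤ) := ⟨(-j).toNat, by omega⟩
  exact AddSubgroup.subset_closure ⟨Z, j', a, hZf, hl Z hZ, Nat.pos_of_ne_zero ha, (isTwPow_iff e _ _ _).2 ⟨t⟩, rfl⟩

/-- The classes of nonpositive twisting types generate. -/
theorem mem_closure (hm : 1 ≤ m) (e : BrSev.Splitting p K m) :
    ∀ {E : X.Modules}, FlatMod.IsFinLocFree E → cl E ∈ AddSubgroup.closure (NegTypes e) := by
  haveI := isNoetherian_of_proper p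
  have main : ∀ (d s : ℕ), d + s + 1 = m → ∀ {E : X.Modules}, FlatMod.IsFinLocFree E → Low e E →
      (∀ (n : ℤ) (i : ℕ), 1 ≤ i → i ≤ s → i < m →
        Subsingleton (Coh.HH (PnVan.P K m) ((PnVan.tw n).obj (toPn e E)) i)) →
      cl E ∈ AddSubgroup.closure (NegTypes e) := by
    intro d
    induction d with
    | zero => exact fun s hs E hE hlow hmid => mem_of_split hm e hE hlow fun n i h1 h2 => hmid n i h1 (by omega) h2
    | succ d ih =>
      intro s hs E hE hlow hmid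
      obtain ⟨L, π, hπ, hLf, hL, hLlow, hLmid, hsurj⟩ := exists_cover hm e hE
      obtain ⟨S, hS, h2, h3, h1, hlow', hmid'⟩ := kernel_props e π hLf hE
      have h := cl_add hS h1 (h2 ▸ hLf) (h3 ▸ hE)
      rw [h2, h3] at h
      rw [← add_sub_cancel_left (cl S.X₁) (cl E), ← h]
      exact sub_mem hL (ih (s + 1) (by omega) h1 (hlow' hLlow) (hmid' (hsurj hlow) s hLmid hmid))
  intro E hE
  obtain ⟨L, π, hπ, hLf, hL, hLlow, -, -⟩ := exists_cover hm e hE
  obtain ⟨S, hS, h2, h3, h1, hlow', -⟩ := kernel_props e π hLf hE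
  have h := cl_add hS h1 (h2 ▸ hLf) (h3 ▸ hE)
  rw [h2, h3] at h
  rw [← add_sub_cancel_left (cl S.X₁) (cl E), ← h]
  exact sub_mem hL (main (m - 1) 0 (by omega) h1 (hlow' hLlow) (fun n i h1 h2 _ => absurd h1 (by omega)))

end Groth.Agent.ASB.GenNeg
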