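import Groth.Agent.ASB.Sect
import Groth.Agent.ExtPowSh.Loc
import Groth.Agent.ExtShX.LinearHom
import Groth.Agent.SheafHomX.Coherent
import Groth.Agent.S0002
import Mathlib.LinearAlgebra.Basis.VectorSpace

/-!
# Morphisms after a field extension
-/

set_option linter.style.haveILetI false
set_option linter.unusedSectionVars false
set_option backward.isDefEq.respectTransparency false
set_option backward.isDefEq.respectTransparency.types false
set_option maxHeartbeats 1000000

universe u

open CategoryTheory CategoryTheory.Limits AlgebraicGeometry TopologicalSpace Opposite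
open scoped TensorProduct

noncomputable section

namespace Groth.Agent.ASB

/-- Morphisms of coherent modules on a proper scheme form a finite-dimensional space. -/
theorem finite_hom {k : Type u} [Field k] (X : Scheme.{u}) [X.Over (Spec (CommRingCat.of k))]
    [IsProper (X ↘ Spec (CommRingCat.of k))] {F G : X.Modules} (hF : Coh.IsCoh F) (hG : Coh.IsCoh G) :
    Module.Finite k (F ⟶ G) := by
  haveI : IsLocallyNoetherian X := LocallyOfFiniteType.isLocallyNoetherian (X ↘ Spec (CommRingCat.of k))
  obtain ⟨e₀⟩ := ExtShX.exists_hom_HH0 (A := k) ((SheafHomX.hom F).obj G)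
  haveI := S0002.result k X _ (SheafHomX.isCoh_hom hF hG) 0
  exact Module.Finite.equiv (e₀.symm.trans (ExtShX.evLin _ _))

variable {k : Type u} [Field k] {X : Scheme.{u}} (p : X ⟶ Spec (CommRingCat.of k))
  (K : Type u) [Field K] [Algebra k K]

/-- Base change of morphisms. -/
abbrev bcMap {F G : X.Modules} (φ : F ⟶ G) : bcF p K F ⟶ bcF p K G :=
  (Scheme.Modules.pullback (BrSev.proj p K)).map φ

/-- Multiplication by an element of the larger field. -/
def sm (c : K) (M : (BrSev.bc p K).Modules) : M ⟶ M :=
  Formal.smulModΓ M (Coh.toGlobal (BrSev.bcTo p K) c)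

theorem sm_comm (c : K) {M N : (BrSev.bc p K).Modules} (f : M ⟶ N) : f ≫ sm p K c N = sm p K c M ≫ f :=
  KLin.comp_smulModΓ f _

theorem sm_one (M : (BrSev.bc p K).Modules) : sm p K 1 M = 𝟙 M := by
  rw [sm, map_one, KLin.smulModΓ_one]

theorem sm_mul (c d : K) (M : (BrSev.bc p K).Modules) : sm p K (c * d) M = sm p K c M ≫ sm p K d M := by
  rw [sm, map_mul, KLin.smulModΓ_mul]
  rfl

theorem sm_add (c d : K) (M : (BrSev.bc p K).Modules) : sm p K (c + d) M = sm p K c M + sm p K d M := by
  rw [sm, map_add, KLin.smulModΓ_add]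
  rfl

theorem sm_app (c : K) (M : (BrSev.bc p K).Modules) (W : (BrSev.bc p K).Opens) (m : Γ(M, W)) :
    (sm p K c M).app W m = rs p K W c • m :=
  KLin.smulModΓ_app_apply M _ W m

/-- A morphism with a coefficient. -/
def scalarHom {F G : X.Modules} (c : K) (φ : F ⟶ G) : bcF p K F ⟶ bcF p K G :=
  sm p K c _ ≫ bcMap p K φ

theorem scalarHom_add_left {F G : X.Modules} (c d : K) (φ : F ⟶ G) :
    scalarHom p K (c + d) φ = scalarHom p K c φ + scalarHom p K d φ := by
  rw [scalarHom, sm_add, Preadditive.add_comp]; rfl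

theorem scalarHom_add_right {F G : X.Modules} (c : K) (φ ψ : F ⟶ G) :
    scalarHom p K c (φ + ψ) = scalarHom p K c φ + scalarHom p K c ψ := by
  rw [scalarHom, bcMap, Functor.map_add, Preadditive.comp_add]; rfl

theorem scalarHom_comp {F G H : X.Modules} (c d : K) (φ : F ⟶ G) (ψ : G ⟶ H) :
    scalarHom p K c φ ≫ scalarHom p K d ψ = scalarHom p K (c * d) (φ ≫ ψ) := by
  rw [scalarHom, scalarHom, scalarHom, bcMap, bcMap, bcMap, Functor.map_comp, sm_mul]
  simp only [Category.assoc]
  congr 1
  rw [← Category.assoc, sm_comm, Category.assoc]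

theorem scalarHom_one_id (F : X.Modules) : scalarHom p K 1 (𝟙 F) = 𝟙 _ := by
  rw [scalarHom, sm_one, bcMap, CategoryTheory.Functor.map_id, Category.id_comp]

theorem scalarHom_app {F G : X.Modules} (c : K) (φ : F ⟶ G) (U : X.Opens) (m : Γ(F, U)) :
    (scalarHom p K c φ).app (pre p K U) (pull p K F U m) = rs p K (pre p K U) c • pull p K G U (φ.app U m) := by
  show (bcMap p K φ).app (pre p K U) ((sm p K c _).app (pre p K U) (pull p K F U m)) = _
  rw [sm_app, Scheme.Modules.Hom.app_smul, app_pull]

/-- Morphisms out of a base change are determined on pulled back sections. -/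
theorem bc_hom_ext {F : X.Modules} (hF : Coh.IsQCoh F) {N : (BrSev.bc p K).Modules} {ι : Type*} (U : ι → X.Opens)
    (hU : ∀ j, IsAffineOpen (U j)) (hcov : ∀ y : X, ∃ j, y ∈ U j) {φ ψ : bcF p K F ⟶ N}
    (h : ∀ (j : ι) (m : Γ(F, U j)), φ.app (pre p K (U j)) (pull p K F (U j) m) =
      ψ.app (pre p K (U j)) (pull p K F (U j) m)) : φ = ψ := by
  refine hom_ext_cover (QCoh.isQCoh_pullback _ hF) (fun j => pre p K (U j))
    (fun j => isAffineOpen_pre p K (hU j)) (fun y => hcov _) fun j y => ?_
  let β := Module.Basis.ofVectorSpace k K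
  obtain ⟨c, rfl⟩ := (bijective_sumPull p K β hF (hU j)).2 y
  induction c using Finsupp.induction_linear with
  | zero => rw [map_zero, map_zero, map_zero]
  | add c c' hc hc' => rw [map_add, map_add, map_add, hc, hc']
  | single i m => rw [sumPull_single, Scheme.Modules.Hom.app_smul, Scheme.Modules.Hom.app_smul, h]

/-- Scalars of the ground field come from downstairs. -/
theorem scalarHom_algebraMap {F G : X.Modules} (hF : Coh.IsQCoh F) (a : k) (φ : F ⟶ G) :
    letI : X.Over (Spec (CommRingCat.of k)) := ⟨p⟩
    scalarHom p K 1 (a • φ) = scalarHom p K (algebraMap k K a) φ := by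
  letI : X.Over (Spec (CommRingCat.of k)) := ⟨p⟩
  refine bc_hom_ext p K hF (fun U : X.affineOpens => U.1) (fun U => U.2) (fun y => ?_) fun U m => ?_
  · obtain ⟨_, ⟨V, hV, rfl⟩, hyV, -⟩ := X.isBasis_affineOpens.exists_subset_of_mem_open (Set.mem_univ y) isOpen_univ
    exact ⟨⟨V, hV⟩, hyV⟩
  · rw [scalarHom_app, scalarHom_app, KLin.smul_app_apply, map_one, one_smul, pull_smul]
    exact congrArg (· • pull p K G U.1 (φ.app U.1 m))
      (ConcreteCategory.congr_hom (isPushout_sections p K U.2).w a)

section Repr

variable {F G : X.Modules} {I : Type u}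

/-- Combinations with coefficients. -/
def combo (b : I → K) : (I →₀ (F ⟶ G)) →+ (bcF p K F ⟶ bcF p K G) :=
  Finsupp.liftAddHom fun i => AddMonoidHom.mk' (fun φ => scalarHom p K (b i) φ)
    (scalarHom_add_right p K (b i))

theorem combo_single (b : I → K) (i : I) (φ : F ⟶ G) :
    combo p K b (Finsupp.single i φ) = scalarHom p K (b i) φ :=
  Finsupp.liftAddHom_apply_single _ _ _

theorem combo_app (b : I → K) (c : I →₀ (F ⟶ G)) (U : X.Opens) (m : Γ(F, U)) :
    (combo p K b c).app (pre p K U) (pull p K F U m) =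
      sumPull p K b G U (c.mapRange (fun φ => φ.app U m) rfl) := by
  induction c using Finsupp.induction_linear with
  | zero => rw [Finsupp.mapRange_zero, map_zero, map_zero]; rfl
  | add c c' hc hc' =>
    rw [map_add, Finsupp.mapRange_add (fun x y => rfl), map_add, ← hc, ← hc']
    rfl
  | single i φ => rw [combo_single, Finsupp.mapRange_single, sumPull_single, scalarHom_app]

theorem combo_injective_basis (β : Module.Basis I k K) (hG : Coh.IsQCoh G) (hF : Coh.IsQCoh F) :
    Function.Injective (combo p K (F := F) (G := G) β) := by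
  rw [injective_iff_map_eq_zero]
  intro c hc
  ext i : 1
  refine hom_ext_cover hF (fun U : X.affineOpens => U.1) (fun U => U.2) (fun y => ?_) fun U m => ?_
  · obtain ⟨_, ⟨V, hV, rfl⟩, hyV, -⟩ := X.isBasis_affineOpens.exists_subset_of_mem_open (Set.mem_univ y) isOpen_univ
    exact ⟨⟨V, hV⟩, hyV⟩
  · have h := combo_app p K β c U.1 m
    rw [hc] at h
    have h0 : c.mapRange (fun φ => φ.app U.1 m) rfl = 0 :=
      (bijective_sumPull p K β hG U.2).1 (h.symm.trans ((map_zero (sumPull p K β G U.1)).symm ▸ rfl))
    exact DFunLike.congr_fun h0 i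

/-- Coefficients along a linearly independent family are unique. -/
theorem combo_injective {b : I → K} (hb : LinearIndependent k b) (hG : Coh.IsQCoh G) (hF : Coh.IsQCoh F) :
    Function.Injective (combo p K (F := F) (G := G) b) := by
  classical
  let β := Module.Basis.extend hb.linearIndepOn_id
  let ι₀ : I → hb.linearIndepOn_id.extend (Set.subset_univ (Set.range b)) :=
    fun i => ⟨b i, hb.linearIndepOn_id.subset_extend _ ⟨i, rfl⟩⟩
  have hι₀ : Function.Injective ι₀ := fun i j hij => hb.injective (congrArg Subtype.val hij)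
  intro c c' h
  have key : ∀ d : I →₀ (F ⟶ G), combo p K b d = combo p K β (d.mapDomain ι₀) := fun d => by
    induction d using Finsupp.induction_linear with
    | zero => rw [Finsupp.mapDomain_zero, map_zero, map_zero]
    | add d d' hd hd' => rw [Finsupp.mapDomain_add, map_add, map_add, hd, hd']
    | single i φ => rw [Finsupp.mapDomain_single, combo_single, combo_single, Module.Basis.extend_apply_self]
  rw [key, key] at h
  exact Finsupp.mapDomain_injective hι₀ (combo_injective_basis p K β hG hF h)

variable [IsProper p]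

/-- Every morphism upstairs is a combination of morphisms downstairs. -/
theorem combo_surjective (β : Module.Basis I k K) (hF : Coh.IsCoh F) (hG : Coh.IsQCoh G) :
    Function.Surjective (combo p K (F := F) (G := G) β) := by
  classical
  intro ψ
  let e : ∀ U : X.affineOpens, (I →₀ Γ(G, U.1)) ≃+ Γ(bcF p K G, pre p K U.1) := fun U =>
    AddEquiv.ofBijective _ (bijective_sumPull p K β hG U.2)
  let co : ∀ U : X.affineOpens, Γ(F, U.1) → (I →₀ Γ(G, U.1)) := fun U m =>
    (e U).symm (ψ.app (pre p K U.1) (pull p K F U.1 m))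
  have hco : ∀ U m, sumPull p K β G U.1 (co U m) = ψ.app (pre p K U.1) (pull p K F U.1 m) :=
    fun U m => (e U).apply_symm_apply _
  have hco_add : ∀ U m m', co U (m + m') = co U m + co U m' := fun U m m' =>
    (bijective_sumPull p K β hG U.2).1 (by rw [map_add, hco, hco, hco, pull_add, map_add])
  have hco_smul : ∀ (U : X.affineOpens) (r : Γ(X, U.1)) m, co U (r • m) = r • co U m := fun U r m =>
    (bijective_sumPull p K β hG U.2).1 (by
      rw [sumPull_smul, hco, hco, pull_smul, Scheme.Modules.Hom.app_smul])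
  have hφ : ∀ i, ∃ φ : F ⟶ G, ∀ (U : X.affineOpens) (m : Γ(F, U.1)), φ.app U.1 m = co U m i := fun i => by
    obtain ⟨φ, hφ⟩ := ExtPowSh.exists_hom_of_affine (M := F) (N := G)
      (fun U => { toFun := fun m => co U m i
                  map_add' := fun m m' => by rw [hco_add]; rfl
                  map_smul' := fun r m => by rw [hco_smul]; rfl })
      (fun U V h m => by
        have h1 := congrArg (fun t => (bcF p K G).presheaf.map (homOfLE (pre_mono p K h)).op t) (hco U m)
        simp only [sumPull_res p K β G h] at h1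
        have h2 : (bcF p K G).presheaf.map (homOfLE (pre_mono p K h)).op (ψ.app (pre p K U.1) (pull p K F U.1 m)) =
            ψ.app (pre p K V.1) (pull p K F V.1 (F.presheaf.map (homOfLE h).op m)) := by
          rw [← pull_res p K F h]
          exact (QCoh.map_app_comm ψ (homOfLE (pre_mono p K h)) _).symm
        rw [h2, ← hco V] at h1
        exact DFunLike.congr_fun ((bijective_sumPull p K β hG V.2).1 h1) i)
    exact ⟨φ, hφ⟩
  choose φ hφ using hφ
  haveI : CompactSpace X := QuasiCompact.compactSpace_of_compactSpace p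
  obtain ⟨T, hT⟩ := (CompactSpace.isCompact_univ (X := X)).elim_finite_subcover
    (fun U : X.affineOpens => (U.1 : Set X)) (fun U => U.1.2) fun y _ => by
      obtain ⟨_, ⟨V, hV, rfl⟩, hyV, -⟩ :=
        X.isBasis_affineOpens.exists_subset_of_mem_open (Set.mem_univ y) isOpen_univ
      exact Set.mem_iUnion.2 ⟨⟨V, hV⟩, hyV⟩
  have hgen : ∀ U : X.affineOpens, ∃ S : Finset I, ∀ m, (co U m).support ⊆ S := fun U => by
    obtain ⟨g, hg⟩ := (QCoh.finite_of_isFT hF.1 hF.2 U.2).fg_top
    refine ⟨g.biUnion fun a => (co U a).support, fun m => ?_⟩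
    have hm : m ∈ Submodule.span Γ(X, U.1) (g : Set Γ(F, U.1)) := hg ▸ trivial
    induction hm using Submodule.span_induction with
    | mem a ha => exact Finset.subset_biUnion_of_mem (fun a => (co U a).support) ha
    | zero =>
      rw [show co U 0 = 0 from (bijective_sumPull p K β hG U.2).1 (by rw [hco, pull_zero, map_zero, map_zero])]
      simp
    | add a a' _ _ h h' => rw [hco_add]; exact Finsupp.support_add.trans (Finset.union_subset h h')
    | smul r a _ h => rw [hco_smul]; exact Finsupp.support_smul.trans h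
  choose S hS using hgen
  let J : Finset I := T.biUnion S
  have hvan : ∀ i, i ∉ J → φ i = 0 := fun i hi => by
    refine hom_ext_cover hF.1 (fun U : T => (U : X.affineOpens).1) (fun U => (U : X.affineOpens).2)
      (fun y => ?_) fun U m => ?_
    · obtain ⟨U, hU, hy⟩ := Set.mem_iUnion₂.1 (hT (Set.mem_univ y))
      exact ⟨⟨U, hU⟩, hy⟩
    · rw [hφ]
      exact Finsupp.notMem_support_iff.1 fun h => hi (Finset.mem_biUnion.2 ⟨U, U.2, hS U.1 m h⟩)
  let c : I →₀ (F ⟶ G) := Finsupp.onFinset J φ fun i hi => by
    by_contra h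
    exact hi (hvan i h)
  refine ⟨c, bc_hom_ext p K hF.1 (fun U : X.affineOpens => U.1) (fun U => U.2) (fun y => ?_) fun U m => ?_⟩
  · obtain ⟨_, ⟨V, hV, rfl⟩, hyV, -⟩ := X.isBasis_affineOpens.exists_subset_of_mem_open (Set.mem_univ y) isOpen_univ
    exact ⟨⟨V, hV⟩, hyV⟩
  · rw [combo_app, ← hco]
    congr 1
    ext i
    exact hφ i U m

end Repr

end Groth.Agent.ASB
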