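import Groth.Agent.ASB.Dim
import Groth.Agent.H23.EndInv

/-!
# Invertible modules: endomorphisms and indecomposability
-/

set_option linter.style.haveILetI false
set_option linter.unusedSectionVars false
set_option backward.isDefEq.respectTransparency false
set_option backward.isDefEq.respectTransparency.types false
set_option maxHeartbeats 1000000

universe u v w

open CategoryTheory CategoryTheory.Limits AlgebraicGeometry TopologicalSpace Opposite
open Groth.Agent.AModX Groth.Agent.InvX

noncomputable section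

namespace Groth.Agent.ASB

attribute [local instance] Abelian.hasFiniteBiproducts

/-- An object without nontrivial idempotents is indecomposable. -/
theorem indec_of_idem {C : Type v} [Category.{u} C] [Abelian C] {X : C} (h0 : ¬ IsZero X)
    (h : ∀ e : X ⟶ X, e ≫ e = e → e = 0 ∨ e = 𝟙 X) : Indec X := by
  refine ⟨h0, fun A B ⟨φ⟩ => ?_⟩
  rcases h (φ.hom ≫ biprod.fst ≫ biprod.inl ≫ φ.inv) (by simp) with he | he
  · left
    rw [IsZero.iff_id_eq_zero]
    have := congrArg (fun t => biprod.inl ≫ φ.inv ≫ t ≫ φ.hom ≫ biprod.fst) he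
    simpa using this
  · right
    rw [IsZero.iff_id_eq_zero]
    have := congrArg (fun t => biprod.inr ≫ φ.inv ≫ t ≫ φ.hom ≫ biprod.snd) he
    simpa using this.symm

variable {Y : Scheme.{u}}

/-- An idempotent function on a connected scheme is 0 or 1. -/
theorem idem_global [PreconnectedSpace ↥Y] {s : Γ(Y, ⊤)} (hs : s * s = s) : s = 0 ∨ s = 1 := by
  have hcov : (Y.basicOpen s : Set Y) ∪ Y.basicOpen (1 - s) = Set.univ := by
    refine Set.eq_univ_of_forall fun x => ?_
    simp only [Set.mem_union, SetLike.mem_coe, Scheme.mem_basicOpen_top]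
    rw [map_sub, map_one]
    exact IsLocalRing.isUnit_or_isUnit_one_sub_self _
  have hdisj : (Y.basicOpen s : Set Y) ∩ Y.basicOpen (1 - s) = ∅ := by
    rw [← Opens.coe_inf, ← Scheme.basicOpen_mul, mul_sub, mul_one, hs, sub_self, Scheme.basicOpen_zero]
    rfl
  have hcl : IsClopen (Y.basicOpen s : Set Y) := by
    refine ⟨?_, (Y.basicOpen s).2⟩
    rw [← isOpen_compl_iff]
    convert (Y.basicOpen (1 - s)).2 using 1
    exact (IsCompl.compl_eq ⟨Set.disjoint_iff_inter_eq_empty.2 hdisj, codisjoint_iff.2 hcov⟩)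
  have hu : ∀ t : Γ(Y, ⊤), Y.basicOpen t = ⊤ → IsUnit t := fun t ht =>
    Y.toRingedSpace.isUnit_of_isUnit_germ ⊤ t fun x _ =>
      (Scheme.mem_basicOpen_top Y t x).1 (ht.ge trivial)
  rcases isClopen_iff.1 hcl with h | h
  · left
    have h1 : IsUnit (1 - s) := hu _ (Opens.ext (by rw [h, Set.empty_union] at hcov; exact hcov))
    refine h1.mul_left_eq_zero.1 ?_
    rw [mul_sub, mul_one, hs, sub_self]
  · right
    have h1 : IsUnit s := hu _ (Opens.ext h)
    exact h1.mul_left_cancel (hs.trans (mul_one s).symm)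

/-- Endomorphisms of an invertible module are multiplications by functions. -/
theorem exists_smulModΓ {L : Y.Modules} (hL : PicF.IsInvertible L) (v : L ⟶ L) :
    ∃ s : Γ(Y, ⊤), v = Formal.smulModΓ L s := by
  obtain ⟨s, hs⟩ := H23.EndInv.exists_coeff hL v
  refine ⟨s, Scheme.Modules.hom_ext _ _ fun W => ?_⟩
  ext l
  exact (hs W l).trans (KLin.smulModΓ_app_apply L s W l).symm

/-- The function of a multiplication is determined. -/
theorem smulModΓ_injective {L : Y.Modules} (hL : PicF.IsInvertible L) :
    Function.Injective (Formal.smulModΓ L) := fun s t h => by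
  choose U hU e he using InvX.exists_frame hL
  refine eq_of_locally (M := Coh.structureModule Y) _ _ fun p _ => ⟨U p, le_top, hU p, ?_⟩
  have h1 := congrArg (fun f => Scheme.Modules.Hom.app f (U p) (e p)) h
  simp only [KLin.smulModΓ_app_apply] at h1
  refine (he p).coord_unique le_rfl ?_
  rw [res_self]
  exact h1

/-- An invertible module on a connected scheme is indecomposable. -/
theorem indec_invertible [ConnectedSpace ↥Y] {L : Y.Modules} (hL : PicF.IsInvertible L) : Indec L := by
  refine indec_of_idem (fun h => ?_) fun e he => ?_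
  · have h1 : (1 : Γ(Y, ⊤)) = 0 := smulModΓ_injective hL (by
      rw [(IsZero.iff_id_eq_zero L).1 h |> fun hz => (show Formal.smulModΓ L (1 : Γ(Y, ⊤)) = 0 from
        (KLin.smulModΓ_one L).trans hz), KLin.smulModΓ_zero])
    haveI : Nontrivial Γ(Y, ⊤) := haveI : Nonempty (⊤ : Y.Opens) := ⟨⟨Nonempty.some inferInstance, trivial⟩⟩; Scheme.component_nontrivial Y ⊤
    exact one_ne_zero h1
  · obtain ⟨s, rfl⟩ := exists_smulModΓ hL e
    rw [← KLin.smulModΓ_mul] at he
    rcases idem_global (smulModΓ_injective hL he) with rfl | rfl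
    · exact Or.inl (KLin.smulModΓ_zero L)
    · exact Or.inr (KLin.smulModΓ_one L)

variable {F : Type u} [Field F]

/-- With scalars as global functions, endomorphisms of invertible modules are scalars. -/
theorem finrank_end_of_surjective [ConnectedSpace ↥Y] (q : Y ⟶ Spec (CommRingCat.of F))
    (hq : Function.Surjective (Coh.toGlobal q)) {L : Y.Modules} (hL : PicF.IsInvertible L) :
    letI := ovr q
    Module.finrank F (L ⟶ L) = 1 := by
  letI := ovr q
  refine finrank_eq_one_iff'.2 ⟨𝟙 L, fun h => (indec_invertible hL).1 ((IsZero.iff_id_eq_zero L).2 h), fun f => ?_⟩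
  obtain ⟨s, rfl⟩ := exists_smulModΓ hL f
  obtain ⟨c, rfl⟩ := hq s
  exact ⟨c, Category.comp_id _⟩

theorem isIso_of_finrank_eq_one {C : Type v} [Category.{u} C] [Abelian C] (k : Type w) [Field k] [Linear k C]
    {L : C} (h : Module.finrank k (L ⟶ L) = 1) (h0 : ¬ IsZero L) (f : L ⟶ L) (hf : f ≠ 0) : IsIso f := by
  obtain ⟨c, rfl⟩ := (finrank_eq_one_iff_of_nonzero' (𝟙 L) (fun h' => h0 ((IsZero.iff_id_eq_zero L).2 h'))).1 h f
  have hc : c ≠ 0 := by
    rintro rfl
    exact hf (zero_smul k _)
  exact ⟨c⁻¹ • 𝟙 L, by simp [smul_smul, hc], by simp [smul_smul, hc]⟩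

end Groth.Agent.ASB
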