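import Groth.Agent.ASB.Descent
import Groth.Agent.ExistEasy.Setup
import Groth.Agent.FittX.Sheaf
import Groth.Agent.LimMod.Exact
import Groth.Agent.KFlatLib.Scheme.CohD
import Groth.Agent.PnVan.HomEpi

/-!
# Isotypical modules: base change of sums, summands
-/

set_option linter.style.haveILetI false
set_option linter.unusedSectionVars false
set_option backward.isDefEq.respectTransparency false
set_option backward.isDefEq.respectTransparency.types false
set_option maxHeartbeats 1000000

universe u v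

open CategoryTheory CategoryTheory.Limits AlgebraicGeometry TopologicalSpace Opposite
open scoped TensorProduct

noncomputable section

namespace Groth.Agent.ASB

attribute [local instance] Abelian.hasFiniteBiproducts

section Sums

variable {C : Type v} [Category.{u} C] [Abelian C]

theorem clsL_eq_map_replicate {X : C} {n : ℕ} :
    clsL (List.replicate n X) = Multiset.replicate n (Quotient.mk (isIsomorphicSetoid C) X) := by
  simp only [clsL, List.map_replicate]
  exact Multiset.coe_replicate n _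

/-- A sum of repeated copies of a sum of repeated copies. -/
theorem replicate_replicate (W : C) (s r : ℕ) :
    Nonempty (sumL (List.replicate s (sumL (List.replicate r W))) ≅ sumL (List.replicate (s * r) W)) := by
  induction s with
  | zero => exact ⟨by rw [Nat.zero_mul]; exact Iso.refl _⟩
  | succ s ih =>
    obtain ⟨e⟩ := ih
    obtain ⟨ea⟩ := sumL_append (List.replicate r W) (List.replicate (s * r) W)
    refine ⟨biprod.mapIso (Iso.refl _) e ≪≫ ea.symm ≪≫ eqToIso ?_⟩
    rw [← List.replicate_add, Nat.succ_mul, add_comm]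

/-- Congruence for sums of repeated copies. -/
theorem replicate_congr {X Y : C} (e : X ≅ Y) : ∀ n : ℕ,
    Nonempty (sumL (List.replicate n X) ≅ sumL (List.replicate n Y))
  | 0 => ⟨Iso.refl _⟩
  | n + 1 => (replicate_congr e n).map fun e' => biprod.mapIso e e'

/-- A nonempty sum of a nonzero object is nonzero. -/
theorem replicate_pos {X W : C} (hX : ¬ IsZero X) {r : ℕ} (e : X ≅ sumL (List.replicate r W)) : r ≠ 0 := by
  rintro rfl
  exact hX (isZero_top.of_iso e)

variable (k : Type*) [Field k] [Linear k C]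

/-- Indecomposables with isomorphic powers are isomorphic. -/
theorem iso_of_indec_replicate {E E' : C} (hE : Indec E) (hE' : Indec E') [Module.Finite k (E ⟶ E)] {s r : ℕ}
    (hs : s ≠ 0) (e : sumL (List.replicate s E) ≅ sumL (List.replicate r E')) : Nonempty (E ≅ E') := by
  haveI := finite_sumL k E s
  have h := clsL_eq k _ _ (fun Z hZ => (List.eq_of_mem_replicate hZ).symm ▸ hE)
    (fun Z hZ => (List.eq_of_mem_replicate hZ).symm ▸ hE') ⟨e⟩
  rw [clsL_eq_map_replicate, clsL_eq_map_replicate] at h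
  have hm : Quotient.mk (isIsomorphicSetoid C) E ∈ Multiset.replicate r (Quotient.mk (isIsomorphicSetoid C) E') :=
    h ▸ Multiset.mem_replicate.2 ⟨hs, rfl⟩
  exact Quotient.exact (Multiset.mem_replicate.1 hm).2

/-- Summands of a multiple of an indecomposable are multiples of it. -/
theorem summand_replicate {L A B : C} (hL : Indec L) [Module.Finite k (L ⟶ L)] {r : ℕ}
    (e : sumL (List.replicate r L) ≅ A ⊞ B) : ∃ a : ℕ, Nonempty (A ≅ sumL (List.replicate a L)) := by
  haveI := finite_sumL k L r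
  haveI : Module.Finite k (A ⊞ B ⟶ A ⊞ B) := finite_of_retract k e.inv e.hom e.inv_hom_id
  haveI : Module.Finite k (A ⟶ A) := finite_of_retract k (biprod.inl : A ⟶ A ⊞ B) biprod.fst biprod.inl_fst
  haveI : Module.Finite k (B ⟶ B) := finite_of_retract k (biprod.inr : B ⟶ A ⊞ B) biprod.snd biprod.inr_snd
  obtain ⟨lA, hlA, ⟨eA⟩⟩ := exists_decomp k A
  obtain ⟨lB, hlB, ⟨eB⟩⟩ := exists_decomp k B
  obtain ⟨ea⟩ := sumL_append lA lB
  have h := clsL_eq k (List.replicate r L) (lA ++ lB) (fun Z hZ => (List.eq_of_mem_replicate hZ).symm ▸ hL)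
    (fun Z hZ => (List.mem_append.1 hZ).elim (hlA Z) (hlB Z)) ⟨e ≪≫ biprod.mapIso eA eB ≪≫ ea.symm⟩
  refine ⟨lA.length, ⟨eA ≪≫ (sumL_of_clsL lA _ ?_).some⟩⟩
  rw [clsL_eq_map_replicate]
  refine Multiset.eq_replicate.2 ⟨by simp [clsL], fun q hq => ?_⟩
  rw [clsL_eq_map_replicate] at h
  refine Multiset.eq_of_mem_replicate (n := r) (h ▸ ?_)
  simp only [clsL, List.map_append, Multiset.mem_coe, List.mem_append] at hq ⊢
  exact Or.inl hq

end Sums

section Coh

variable {X : Scheme.{u}} [IsNoetherian X]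

theorem isCoh_top : Coh.IsCoh (⊤_ X.Modules) := KFlatLib.isCoh_of_isZero isZero_top

theorem isCoh_sumL : ∀ l : List X.Modules, (∀ M ∈ l, Coh.IsCoh M) → Coh.IsCoh (sumL l)
  | [], _ => isCoh_top
  | M :: l, h => ExistEasy.isCoh_biprod (h M (List.mem_cons_self ..))
      (isCoh_sumL l fun N hN => h N (List.mem_cons_of_mem _ hN))

theorem isCoh_replicate {M : X.Modules} (hM : Coh.IsCoh M) (n : ℕ) : Coh.IsCoh (sumL (List.replicate n M)) :=
  isCoh_sumL _ fun _ hN => (List.eq_of_mem_replicate hN).symm ▸ hM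

/-- A retract of a coherent module is coherent. -/
theorem isCoh_of_retract {E F : X.Modules} (hE : Coh.IsCoh E) (i : F ⟶ E) (r : E ⟶ F) (h : i ≫ r = 𝟙 F) :
    Coh.IsCoh F := by
  let π := 𝟙 E - r ≫ i
  have hc : cokernel (𝟙 E - r ≫ i) ≅ F :=
    { hom := cokernel.desc π r (by simp [π, h])
      inv := i ≫ cokernel.π π
      hom_inv_id := by
        rw [← cancel_epi (cokernel.π π), cokernel.π_desc_assoc, Category.comp_id]
        have h2 := cokernel.condition π
        rw [Preadditive.sub_comp, Category.id_comp, sub_eq_zero, Category.assoc] at h2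
        exact h2.symm
      inv_hom_id := by rw [Category.assoc, cokernel.π_desc, h] }
  exact SheafHomX.isCoh_of_iso hc ⟨QCoh.isQCoh_cokernel hE.1 hE.1 _, LimMod.isFT_cokernel hE.1 hE.1 hE.2 _⟩

theorem isFinLocFree_of_retract {E F : X.Modules} (hE : FlatMod.IsFinLocFree E) (i : F ⟶ E) (r : E ⟶ F)
    (h : i ≫ r = 𝟙 F) : FlatMod.IsFinLocFree F :=
  PnVan.isFinLocFree_of_retract hE
    (QCoh.isCoh_iff_isFP.1 (isCoh_of_retract (CurveDeg.isCoh_of_isFinLocFree hE) i r h)) i r h

end Coh

section BC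

variable {k : Type u} [Field k] {X : Scheme.{u}} (p : X ⟶ Spec (CommRingCat.of k))
  (K : Type u) [Field K] [Algebra k K]

instance : (Scheme.Modules.pullback (BrSev.proj p K)).IsLeftAdjoint :=
  (Scheme.Modules.pullbackPushforwardAdjunction _).isLeftAdjoint

instance : PreservesBinaryBiproducts (Scheme.Modules.pullback (BrSev.proj p K)) :=
  preservesBinaryBiproducts_of_preservesBinaryCoproducts _

/-- Base change commutes with sums. -/
theorem bc_sumL : ∀ l : List X.Modules, Nonempty (bcF p K (sumL l) ≅ sumL (l.map (bcF p K)))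
  | [] => ⟨IsZero.iso ((Scheme.Modules.pullback (BrSev.proj p K)).map_isZero isZero_top) isZero_top⟩
  | M :: l => (bc_sumL l).map fun e =>
      (Scheme.Modules.pullback (BrSev.proj p K)).mapBiprod M (sumL l) ≪≫ biprod.mapIso (Iso.refl _) e

theorem bc_replicate (M : X.Modules) (n : ℕ) :
    Nonempty (bcF p K (sumL (List.replicate n M)) ≅ sumL (List.replicate n (bcF p K M))) := by
  obtain ⟨e⟩ := bc_sumL p K (List.replicate n M)
  rw [List.map_replicate] at e
  exact ⟨e⟩

/-- A module with zero base change is zero. -/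
theorem isZero_of_bc {F : X.Modules} (hF : Coh.IsQCoh F) (h : IsZero (bcF p K F)) : IsZero F := by
  rw [IsZero.iff_id_eq_zero]
  have hli : LinearIndependent k (fun _ : PUnit.{u+1} => (1 : K)) :=
    LinearIndependent.of_subsingleton PUnit.unit one_ne_zero
  have := combo_injective p K hli hF hF (a₁ := Finsupp.single PUnit.unit (𝟙 F)) (a₂ := 0) (h.eq_of_src _ _)
  simpa using this

theorem isCoh_bc {F : X.Modules} (hF : Coh.IsCoh F) : Coh.IsCoh (bcF p K F) :=
  ⟨QCoh.isQCoh_pullback _ hF.1, FittX.isFT_pullback _ hF.1 hF.2⟩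

theorem isNoetherian_of_proper {R : Type u} [CommRing R] [IsNoetherianRing R] {Y : Scheme.{u}}
    (q : Y ⟶ Spec (CommRingCat.of R)) [IsProper q] : IsNoetherian Y := by
  haveI : CompactSpace Y := QuasiCompact.compactSpace_of_compactSpace q
  haveI : IsLocallyNoetherian Y := LocallyOfFiniteType.isLocallyNoetherian q
  exact { __ := ‹IsLocallyNoetherian Y›, __ := ‹CompactSpace Y› }

variable [IsProper p]

instance : IsProper (BrSev.bcTo p K) := MorphismProperty.pullback_snd _ _ ‹IsProper p›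

include p in
theorem finite_end {F : X.Modules} (hF : Coh.IsCoh F) :
    letI := ovr p
    Module.Finite k (F ⟶ F) :=
  letI := ovr p
  haveI : IsProper (X ↘ Spec (CommRingCat.of k)) := ‹IsProper p›
  finite_hom X hF hF

variable [Algebra.IsAlgebraic k K]

/-- Indecomposable modules of the same isotypical type are isomorphic. -/
theorem iso_of_isotypical {E E' : X.Modules} (hE : Coh.IsCoh E) (hE' : Coh.IsCoh E') (hEi : Indec E)
    (hE'i : Indec E') (W : (BrSev.bc p K).Modules) {r s : ℕ} (eE : bcF p K E ≅ sumL (List.replicate r W))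
    (eE' : bcF p K E' ≅ sumL (List.replicate s W)) : Nonempty (E ≅ E') := by
  haveI := isNoetherian_of_proper p
  have hs : s ≠ 0 := replicate_pos (fun h => hE'i.1 (isZero_of_bc p K hE'.1 h)) eE'
  obtain ⟨a⟩ := bc_replicate p K E s
  obtain ⟨a'⟩ := replicate_congr eE s
  obtain ⟨a''⟩ := replicate_replicate W s r
  obtain ⟨b⟩ := bc_replicate p K E' r
  obtain ⟨b'⟩ := replicate_congr eE' r
  obtain ⟨b''⟩ := replicate_replicate W r s
  obtain ⟨e⟩ := iso_of_bc_iso p K (isCoh_replicate hE s) (isCoh_replicate hE' r)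
    (a ≪≫ a' ≪≫ a'' ≪≫ eqToIso (by rw [Nat.mul_comm]) ≪≫ b''.symm ≪≫ b'.symm ≪≫ b.symm)
  letI := ovr p
  haveI := finite_end p hE
  exact iso_of_indec_replicate k hEi hE'i hs e

/-- An isotypical module is a multiple of one indecomposable. -/
theorem exists_pow_of_isotypical {E : X.Modules} (hE : Coh.IsCoh E) (hE0 : ¬ IsZero E)
    {L : (BrSev.bc p K).Modules} (hL : Coh.IsCoh L) (hLi : Indec L) {r : ℕ}
    (eE : bcF p K E ≅ sumL (List.replicate r L)) :
    ∃ (G : X.Modules) (n : ℕ), n ≠ 0 ∧ Indec G ∧ Nonempty (E ≅ sumL (List.replicate n G)) ∧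
      ∃ (i : G ⟶ E) (q : E ⟶ G) (a : ℕ), i ≫ q = 𝟙 G ∧ Nonempty (bcF p K G ≅ sumL (List.replicate a L)) := by
  classical
  haveI := isNoetherian_of_proper p
  letI : (BrSev.bc p K).Over (Spec (CommRingCat.of K)) := ⟨BrSev.bcTo p K⟩
  haveI : IsProper (BrSev.bc p K ↘ Spec (CommRingCat.of K)) := inferInstanceAs (IsProper (BrSev.bcTo p K))
  haveI := finite_hom (k := K) (BrSev.bc p K) hL hL
  letI := ovr p
  haveI := finite_end p hE
  obtain ⟨l, hl, ⟨e⟩⟩ := exists_decomp k E
  have key : ∀ G ∈ l, ∃ (i : G ⟶ E) (q : E ⟶ G) (a : ℕ), i ≫ q = 𝟙 G ∧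
      Nonempty (bcF p K G ≅ sumL (List.replicate a L)) := by
    intro G hG
    obtain ⟨l₁, l₂, rfl⟩ := List.append_of_mem hG
    obtain ⟨ep⟩ := sumL_perm (C := X.Modules) (List.perm_middle (a := G) (l₁ := l₁) (l₂ := l₂))
    let e' : E ≅ G ⊞ sumL (l₁ ++ l₂) := e ≪≫ ep
    obtain ⟨a, ha⟩ := summand_replicate K hLi (eE.symm ≪≫ (Scheme.Modules.pullback (BrSev.proj p K)).mapIso e' ≪≫
      (Scheme.Modules.pullback (BrSev.proj p K)).mapBiprod G (sumL (l₁ ++ l₂)))
    exact ⟨biprod.inl ≫ e'.inv, e'.hom ≫ biprod.fst, a, by simp, ha⟩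
  obtain ⟨G, hG⟩ : ∃ G, G ∈ l := by
    cases l with
    | nil => exact absurd (isZero_top.of_iso e) hE0
    | cons G l => exact ⟨G, List.mem_cons_self ..⟩
  obtain ⟨i, q, a, hiq, ⟨ea⟩⟩ := key G hG
  refine ⟨G, l.length, by rintro h; simp [List.length_eq_zero_iff.1 h] at hG, hl G hG, ?_, i, q, a, hiq, ⟨ea⟩⟩
  refine ⟨e ≪≫ (sumL_of_clsL l (List.replicate l.length G) ?_).some⟩
  rw [clsL_eq_map_replicate]
  refine Multiset.eq_replicate.2 ⟨by simp [clsL], fun x hx => ?_⟩
  simp only [clsL, Multiset.mem_coe, List.mem_map] at hx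
  obtain ⟨G', hG', rfl⟩ := hx
  obtain ⟨i', q', b, hiq', ⟨eb⟩⟩ := key G' hG'
  exact Quotient.sound (iso_of_isotypical p K (isCoh_of_retract hE i' q' hiq') (isCoh_of_retract hE i q hiq)
    (hl G' hG') (hl G hG) L eb ea)

end BC

end Groth.Agent.ASB
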