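import Groth.Agent.ASB.PtLinear
import Groth.Agent.ASB.SectionsBC
import Groth.Agent.ExistEasy.PP.PullSec
import Groth.Agent.S3572
import Groth.Agent.S3573
import Groth.Agent.Lib.AmpleEmbed
import Groth.Agent.Lib.AVAmple
import Groth.Agent.PnVan.Twist

/-!
# Linear endomorphisms of projective space and sections of base changes
-/

set_option linter.style.haveILetI false
set_option linter.unusedSectionVars false
set_option backward.isDefEq.respectTransparency false
set_option backward.isDefEq.respectTransparency.types false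
set_option maxHeartbeats 1000000

universe u

open CategoryTheory CategoryTheory.Limits AlgebraicGeometry TopologicalSpace Opposite
open scoped TensorProduct

noncomputable section

namespace Groth.Agent.ASB.LinProj

open Groth.Agent

/-- The pulled back global section. -/
abbrev pull {Y Z : Scheme.{u}} (φ : Y ⟶ Z) (M : Z.Modules) (x : Γ(M, ⊤)) :
    Γ((Scheme.Modules.pullback φ).obj M, ⊤) :=
  ProjUP.pullSec φ M x

/-- A constant. -/
abbrev cst {Y : Scheme.{u}} {A : Type u} [CommRing A] (q : Y ⟶ Spec (CommRingCat.of A)) (c : A) : Γ(Y, ⊤) :=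
  Coh.toGlobal q c

section Cst

variable {Y : Scheme.{u}} {A : Type u} [CommRing A] (q : Y ⟶ Spec (CommRingCat.of A))

theorem cst_add (a b : A) : cst q (a + b) = cst q a + cst q b := map_add (Coh.toGlobal q) a b

theorem cst_mul (a b : A) : cst q (a * b) = cst q a * cst q b := map_mul (Coh.toGlobal q) a b

theorem cst_zero : cst q (0 : A) = 0 := map_zero (Coh.toGlobal q)

theorem cst_one : cst q (1 : A) = 1 := map_one (Coh.toGlobal q)

theorem cst_sum {ι : Type*} (s : Finset ι) (a : ι → A) : cst q (∑ i ∈ s, a i) = ∑ i ∈ s, cst q (a i) :=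
  map_sum (Coh.toGlobal q) a s

end Cst

section Pull

variable {W Y Z : Scheme.{u}}

theorem pull_natural (φ : Y ⟶ Z) {M N : Z.Modules} (t : M ⟶ N) (x : Γ(M, ⊤)) :
    ((Scheme.Modules.pullback φ).map t).app ⊤ (pull φ M x) = pull φ N (t.app ⊤ x) :=
  (congrArg (fun s => Scheme.Modules.Hom.app s ⊤ x)
    ((Scheme.Modules.pullbackPushforwardAdjunction φ).unit.naturality t)).symm

theorem pull_eq (φ : Y ⟶ Z) (M : Z.Modules) (x : Γ(M, ⊤)) :
    QCoh.pullSec φ M (le_refl _ : φ ⁻¹ᵁ ⊤ ≤ φ ⁻¹ᵁ ⊤) x = pull φ M x :=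
  QCoh.map_id' (M := (Scheme.Modules.pullback φ).obj M) _ _

theorem pull_comp (a : W ⟶ Y) (b : Y ⟶ Z) (M : Z.Modules) (x : Γ(M, ⊤)) :
    ((Scheme.Modules.pullbackComp a b).hom.app M).app ⊤ (pull a _ (pull b M x)) = pull (a ≫ b) M x := by
  rw [← pull_eq (a ≫ b) M x, ← pull_eq b M x, ← pull_eq a _ _]
  exact ExistEasy.pullSec_comp a b M (U := ⊤) (V := ⊤) (W := ⊤) le_rfl le_rfl x

theorem pull_congr {a b : Y ⟶ Z} (h : a = b) (M : Z.Modules) (x : Γ(M, ⊤)) :
    ((Scheme.Modules.pullbackCongr h).hom.app M).app ⊤ (pull a M x) = pull b M x := by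
  subst h
  rfl

theorem pull_smul (φ : Y ⟶ Z) (M : Z.Modules) (r : Γ(Z, ⊤)) (x : Γ(M, ⊤)) :
    pull φ M (r • x) = (show Γ(Y, ⊤) from φ.appTop r) • pull φ M x :=
  Scheme.Modules.Hom.app_smul ((Scheme.Modules.pullbackPushforwardAdjunction φ).unit.app M) r x

theorem pull_sum (φ : Y ⟶ Z) (M : Z.Modules) {ι : Type*} (s : Finset ι) (x : ι → Γ(M, ⊤)) :
    pull φ M (∑ i ∈ s, x i) = ∑ i ∈ s, pull φ M (x i) :=
  map_sum (((Scheme.Modules.pullbackPushforwardAdjunction φ).unit.app M).app ⊤).hom x s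

theorem pullbackId_app (M : Z.Modules) (x : Γ(M, ⊤)) :
    ((Scheme.Modules.pullbackId Z).hom.app M).app ⊤ (pull (𝟙 Z) M x) = x := by
  have h := unit_conjugateEquiv Adjunction.id (Scheme.Modules.pullbackPushforwardAdjunction (𝟙 Z))
    (Scheme.Modules.pullbackId Z).hom M
  rw [Scheme.Modules.conjugateEquiv_pullbackId_hom] at h
  exact (congrArg (fun s => Scheme.Modules.Hom.app s ⊤ x) h).symm

theorem toGlobal_comp' {A : Type u} [CommRing A] (φ : Y ⟶ Z) (q : Z ⟶ Spec (CommRingCat.of A)) (c : A) :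
    φ.appTop (cst q c) = cst (φ ≫ q) c :=
  (KLin.toGlobal_comp φ q c).symm

end Pull

section Span

variable {k : Type u} [Field k] {X : Scheme.{u}} (f : X ⟶ Spec (CommRingCat.of k)) [IsProper f]
  (K : Type u) [Field K] [Algebra k K]

theorem exists_hom_eq {Y Z : Scheme.{u}} (φ : Y ⟶ Z) (M : Z.Modules)
    (z : Γ((Scheme.Modules.pullback φ).obj M, ⊤)) :
    ∃ ψ : (Scheme.Modules.pullback φ).obj (Coh.structureModule Z) ⟶ (Scheme.Modules.pullback φ).obj M,
      ψ.app ⊤ (pull φ (Coh.structureModule Z) (1 : Γ(Z, ⊤))) = z := by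
  let adj := Scheme.Modules.pullbackPushforwardAdjunction φ
  let h : Coh.structureModule Z ⟶ (Scheme.Modules.pushforward φ).obj ((Scheme.Modules.pullback φ).obj M) :=
    InvX.ofSect (show Γ((Scheme.Modules.pushforward φ).obj ((Scheme.Modules.pullback φ).obj M), ⊤) from z)
  refine ⟨(adj.homEquiv _ _).symm h, ?_⟩
  have h1 : adj.homEquiv _ _ ((adj.homEquiv _ _).symm h) = h := Equiv.apply_symm_apply _ _
  rw [Adjunction.homEquiv_unit] at h1
  exact (congrArg (fun s => Scheme.Modules.Hom.app s ⊤ (1 : Γ(Z, ⊤))) h1).trans (InvX.one_ofSect _)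

/-- Sections of a base change are combinations of pulled back sections. -/
theorem span_bc {M : X.Modules} (hM : Coh.IsQCoh M) {ι : Type*} [Fintype ι] (σ : ι → Γ(M, ⊤))
    (hσ : ∀ x : Γ(M, ⊤), ∃ c : ι → k, x = ∑ i, cst f (c i) • σ i) (z : Γ(bcF f K M, ⊤)) :
    ∃ c : ι → K, z = ∑ i, cst (BrSev.bcTo f K) (c i) • pull (BrSev.proj f K) M (σ i) := by
  classical
  haveI := isNoetherian_of_proper f
  letI := ovr f
  let π := BrSev.proj f K
  let s : Γ(bcF f K (Coh.structureModule X), ⊤) := pull π (Coh.structureModule X) (1 : Γ(X, ⊤))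
  let P : Γ(bcF f K M, ⊤) → Prop := fun w =>
    ∃ c : ι → K, w = ∑ i, cst (BrSev.bcTo f K) (c i) • pull π M (σ i)
  obtain ⟨ψ, hψ⟩ := exists_hom_eq π M z
  have hO : Coh.IsCoh (Coh.structureModule X) := CurveDeg.isCoh_of_isInvertible CurveDeg.isInvertible_structureModule
  obtain ⟨x, hx⟩ := (omg_bijective f K hO hM).2 ψ
  show P z
  rw [← hψ, ← hx]
  clear hx hψ
  induction x using TensorProduct.induction_on with
  | zero =>
    refine ⟨0, ?_⟩
    rw [map_zero]
    simp only [Pi.zero_apply, cst_zero, zero_smul, Finset.sum_const_zero]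
    rfl
  | add a b ha hb =>
    obtain ⟨c, hc⟩ := ha
    obtain ⟨d, hd⟩ := hb
    refine ⟨c + d, ?_⟩
    rw [map_add]
    refine (congrArg₂ (· + ·) hc hd).trans ?_
    rw [← Finset.sum_add_distrib]
    exact Finset.sum_congr rfl fun i _ => by rw [Pi.add_apply, cst_add, add_smul]
  | tmul a φ =>
    obtain ⟨c, hc⟩ := hσ (φ.app ⊤ (1 : Γ(X, ⊤)))
    refine ⟨fun i => a * algebraMap k K (c i), ?_⟩
    rw [omg_tmul]
    show ((Scheme.Modules.pullback π).map φ).app ⊤ ((sm f K a (bcF f K (Coh.structureModule X))).app ⊤ s) = _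
    rw [sm_app, Scheme.Modules.Hom.app_smul, pull_natural, hc, pull_sum, Finset.smul_sum]
    refine Finset.sum_congr rfl fun i _ => ?_
    rw [pull_smul, ← mul_smul, cst_mul, toGlobal_comp']
    refine congrArg₂ (· • ·) (congrArg₂ (· * ·) ?_ ?_) rfl
    · exact ConcreteCategory.congr_hom ((BrSev.bc f K).presheaf.map_id (op ⊤)) _
    · exact ((QCoh.toGlobal_comm f (BrSev.bcTo f K) π pullback.condition (c i)).trans (toGlobal_comp' π f (c i))).symm

end Span

section Lin

variable {K : Type u} [Field K] {m : ℕ}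

local notation "P" => CohB1.ProjSpace m K
local notation "σP" => CohB1.ProjSpace.toSpec m K
local notation "O1" => Twist.twistProjSpace m K 1

/-- The coordinate sections span. -/
theorem exists_coord_sum (z : Γ(O1, ⊤)) :
    ∃ c : Fin (m + 1) → K, z = ∑ j, cst σP (c j) • (ProjUP.coord m K j : Γ(O1, ⊤)) := by
  letI := ovrP m K
  obtain ⟨hfin, hdim⟩ := finrank_hom_one m K
  haveI := hfin
  have hsurj : Function.Surjective (lform m K) :=
    (LinearMap.injective_iff_surjective_of_finrank_eq_finrank (by rw [hdim, Module.finrank_fin_fun])).1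
      (lform_injective (m := m) (L := K))
  obtain ⟨c, hc⟩ := hsurj (InvX.ofSect z)
  refine ⟨c, ?_⟩
  let ev : (Coh.structureModule P ⟶ O1) →+ Γ(O1, ⊤) :=
    AddMonoidHom.mk' (fun φ => φ.app ⊤ (1 : Γ(P, ⊤))) fun φ ψ => rfl
  have h := congrArg ev hc
  rw [show ev (InvX.ofSect z) = z from InvX.one_ofSect z, lform, Fintype.linearCombination_apply, map_sum] at h
  rw [← h]
  refine Finset.sum_congr rfl fun j _ => ?_
  show (c j • InvX.ofSect (show Γ(O1, ⊤) from ProjUP.coord m K j)).app ⊤ _ = _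
  rw [KLin.smul_app_apply]
  exact congrArg₂ (· • ·) (ConcreteCategory.congr_hom ((CohB1.ProjSpace m K).presheaf.map_id (op ⊤)) _)
    (InvX.one_ofSect _)

/-- Every point lies in the locus of a coordinate. -/
theorem exists_mem_locus_coord (y : (CohB1.ProjSpace m K : Scheme.{u})) :
    ∃ l, y ∈ H23.TrivBasic.locus (ProjUP.coord m K l : Γ(O1, ⊤)) := by
  obtain ⟨l, hl⟩ := Opens.mem_iSup.1 ((AmpleEmbed.iSup_basicOpen_X m K).ge (Set.mem_univ y))
  refine ⟨l, ?_⟩
  show y ∈ H23.TrivBasic.locus (ProjUPX.sec (CohB1.polyGrading m K) (ProjPt.X_mem l))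
  rw [show H23.TrivBasic.locus (ProjUPX.sec (CohB1.polyGrading m K) (ProjPt.X_mem l)) =
    Proj.basicOpen (CohB1.polyGrading m K) (MvPolynomial.X l) from
    AmpleX.genLocus_sec (CohB1.polyGrading m K) (fun j : Fin (m + 1) => MvPolynomial.X j)
      (fun j => ProjPt.X_mem j) (AmpleEmbed.iSup_basicOpen_X m K) (ProjPt.X_mem l)]
  exact hl

/-- Sections that combine to generating ones generate. -/
theorem generatedBy_of_combination {Y : Scheme.{u}} {L : Y.Modules} {ι κ : Type*} [Fintype ι]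
    (s : ι → Γ(L, ⊤)) (t : κ → Γ(L, ⊤)) (a : κ → ι → Γ(Y, ⊤)) (h : ∀ l, t l = ∑ i, a l i • s i)
    (ht : ProjUP.GeneratedBy L t) : ProjUP.GeneratedBy L s := fun y => by
  refine eq_top_iff.2 ((ht y).ge.trans (Submodule.span_le.2 ?_))
  rintro _ ⟨l, rfl⟩
  show (L.presheaf.germ ⊤ y trivial).hom (t l) ∈ _
  rw [h l, map_sum]
  refine Submodule.sum_mem _ fun i _ => ?_
  rw [QCoh.germ_smul']
  exact Submodule.smul_mem _ _ (Submodule.subset_span ⟨i, rfl⟩)

/-- An endomorphism with a given effect on the coordinates. -/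
def IsLin (φ : CohB1.ProjSpace m K ⟶ CohB1.ProjSpace m K) (B : Matrix (Fin (m + 1)) (Fin (m + 1)) K) : Prop :=
  φ ≫ σP = σP ∧ ∃ τ : (Scheme.Modules.pullback φ).obj O1 ≅ O1,
    ∀ i, τ.hom.app ⊤ (pull φ O1 (ProjUP.coord m K i : Γ(O1, ⊤))) =
      ∑ j, cst σP (B i j) • (ProjUP.coord m K j : Γ(O1, ⊤))

theorem IsLin.comp {φ ψ : CohB1.ProjSpace m K ⟶ CohB1.ProjSpace m K} {B C : Matrix (Fin (m + 1)) (Fin (m + 1)) K}
    (hφ : IsLin φ B) (hψ : IsLin ψ C) : IsLin (φ ≫ ψ) (C * B) := by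
  obtain ⟨hφ', τ, hτ⟩ := hφ
  obtain ⟨hψ', θ, hθ⟩ := hψ
  refine ⟨by rw [Category.assoc, hψ', hφ'], ((Scheme.Modules.pullbackComp φ ψ).app _).symm ≪≫
    (Scheme.Modules.pullback φ).mapIso θ ≪≫ τ, fun i => ?_⟩
  have h0 : ((Scheme.Modules.pullbackComp φ ψ).inv.app O1).app ⊤ (pull (φ ≫ ψ) O1 (ProjUP.coord m K i)) =
      pull φ _ (pull ψ O1 (ProjUP.coord m K i)) := by
    rw [← pull_comp φ ψ]
    exact congrArg (fun s => Scheme.Modules.Hom.app s ⊤ (pull φ _ (pull ψ O1 (ProjUP.coord m K i))))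
      ((Scheme.Modules.pullbackComp φ ψ).hom_inv_id_app O1)
  show τ.hom.app ⊤ (((Scheme.Modules.pullback φ).map θ.hom).app ⊤
    (((Scheme.Modules.pullbackComp φ ψ).inv.app O1).app ⊤ (pull (φ ≫ ψ) O1 (ProjUP.coord m K i)))) = _
  rw [h0, pull_natural, hθ, pull_sum, map_sum]
  have h1 : ∀ l, τ.hom.app ⊤ (pull φ O1 (cst σP (C i l) • (ProjUP.coord m K l : Γ(O1, ⊤)))) =
      ∑ j, cst σP (C i l * B l j) • (ProjUP.coord m K j : Γ(O1, ⊤)) := fun l => by
    rw [pull_smul, Scheme.Modules.Hom.app_smul, hτ, Finset.smul_sum, toGlobal_comp', hφ']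
    exact Finset.sum_congr rfl fun j _ => by rw [cst_mul, mul_smul]
  rw [Finset.sum_congr rfl fun l _ => h1 l, Finset.sum_comm]
  exact Finset.sum_congr rfl fun j _ => by rw [Matrix.mul_apply, cst_sum, Finset.sum_smul]

theorem IsLin.eq_id {φ : CohB1.ProjSpace m K ⟶ CohB1.ProjSpace m K} (h : IsLin φ 1) : φ = 𝟙 _ := by
  obtain ⟨hφ, τ, hτ⟩ := h
  let ι₀ := (Scheme.Modules.pullbackId (CohB1.ProjSpace m K)).app O1
  refine S3573.result m φ (𝟙 _) (by rw [hφ, Category.id_comp]) (τ ≪≫ ι₀.symm) fun i => ?_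
  show ι₀.inv.app ⊤ (τ.hom.app ⊤ (pull φ O1 (ProjUP.coord m K i))) = pull (𝟙 _) O1 (ProjUP.coord m K i)
  rw [hτ i, Finset.sum_eq_single i (fun j _ hj => by rw [Matrix.one_apply_ne hj.symm, cst_zero, zero_smul])
    (fun hi => absurd (Finset.mem_univ i) hi), Matrix.one_apply_eq, cst_one, one_smul]
  conv_lhs => rw [← pullbackId_app O1 (ProjUP.coord m K i)]
  refine (congrArg (fun s => Scheme.Modules.Hom.app s ⊤ _) ι₀.hom_inv_id).trans ?_
  rfl

/-- An invertible matrix is the effect of an endomorphism. -/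
theorem exists_isLin {B C : Matrix (Fin (m + 1)) (Fin (m + 1)) K} (hCB : C * B = 1) : ∃ φ, IsLin φ B := by
  have hgen : ProjUP.GeneratedBy O1 fun i => ∑ j, cst σP (B i j) • (ProjUP.coord m K j : Γ(O1, ⊤)) := by
    refine generatedBy_of_combination _ (fun l => (ProjUP.coord m K l : Γ(O1, ⊤)))
      (fun l i => cst σP (C l i)) (fun l => ?_) (AVAmple.generatedBy_of_locus _ exists_mem_locus_coord)
    simp only [Finset.smul_sum]
    rw [Finset.sum_comm]
    have h1 : ∀ j, ∑ i, cst σP (C l i) • cst σP (B i j) • (ProjUP.coord m K j : Γ(O1, ⊤)) =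
        cst σP ((C * B) l j) • (ProjUP.coord m K j : Γ(O1, ⊤)) := fun j => by
      rw [Matrix.mul_apply, cst_sum, Finset.sum_smul]
      exact Finset.sum_congr rfl fun i _ => by rw [cst_mul, mul_smul]
    rw [Finset.sum_congr rfl fun j _ => h1 j, hCB,
      Finset.sum_eq_single l (fun j _ hj => by rw [Matrix.one_apply_ne hj.symm, cst_zero, zero_smul])
      (fun hl => absurd (Finset.mem_univ l) hl), Matrix.one_apply_eq, cst_one, one_smul]
  obtain ⟨φ, hφ, τ, hτ⟩ := S3572.result m σP O1 (PnVan.invertible_twist (k := K) (r := m) 1) _ hgen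
  exact ⟨φ, hφ, τ, hτ⟩

/-- An endomorphism pulling the coordinates back to a spanning family is an isomorphism. -/
theorem isIso_of_span (φ : CohB1.ProjSpace m K ⟶ CohB1.ProjSpace m K) (hφ : φ ≫ σP = σP)
    (τ : (Scheme.Modules.pullback φ).obj O1 ≅ O1)
    (hspan : ∀ z : Γ(O1, ⊤), ∃ c : Fin (m + 1) → K,
      z = ∑ i, cst σP (c i) • τ.hom.app ⊤ (pull φ O1 (ProjUP.coord m K i))) :
    IsIso φ := by
  classical
  choose B hB using fun i => exists_coord_sum (τ.hom.app ⊤ (pull φ O1 (ProjUP.coord m K i)))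
  choose C hC using fun l => hspan (ProjUP.coord m K l)
  have hind : ∀ c d : Fin (m + 1) → K,
      (∑ j, cst σP (c j) • (ProjUP.coord m K j : Γ(O1, ⊤))) = ∑ j, cst σP (d j) • (ProjUP.coord m K j : Γ(O1, ⊤)) →
        c = d := fun c d h => by
    letI := ovrP m K
    refine lform_injective (hom_structure_ext ?_)
    have hv : ∀ e : Fin (m + 1) → K, (lform m K e).app ⊤ (1 : Γ(P, ⊤)) =
        ∑ j, cst σP (e j) • (ProjUP.coord m K j : Γ(O1, ⊤)) := fun e => by
      let ev : (Coh.structureModule P ⟶ O1) →+ Γ(O1, ⊤) :=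
        AddMonoidHom.mk' (fun φ => φ.app ⊤ (1 : Γ(P, ⊤))) fun φ ψ => rfl
      show ev (lform m K e) = _
      rw [lform, Fintype.linearCombination_apply, map_sum]
      refine Finset.sum_congr rfl fun j _ => ?_
      show (e j • InvX.ofSect (show Γ(O1, ⊤) from ProjUP.coord m K j)).app ⊤ _ = _
      rw [KLin.smul_app_apply]
      exact congrArg₂ (· • ·) (ConcreteCategory.congr_hom ((CohB1.ProjSpace m K).presheaf.map_id (op ⊤)) _)
        (InvX.one_ofSect _)
    rw [hv, hv]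
    exact h
  let BM : Matrix (Fin (m + 1)) (Fin (m + 1)) K := Matrix.of B
  let CM : Matrix (Fin (m + 1)) (Fin (m + 1)) K := Matrix.of C
  have hCB : CM * BM = 1 := by
    ext l j
    refine congrFun (hind (fun j => (CM * BM) l j) (fun j => (1 : Matrix _ _ K) l j) ?_) j
    rw [Finset.sum_eq_single (f := fun j => cst σP ((1 : Matrix _ _ K) l j) • (ProjUP.coord m K j : Γ(O1, ⊤))) l
      (fun j _ hj => by rw [Matrix.one_apply_ne hj.symm, cst_zero, zero_smul])
      (fun hl => absurd (Finset.mem_univ l) hl), Matrix.one_apply_eq, cst_one, one_smul]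
    conv_rhs => rw [hC l]
    simp only [hB, Finset.smul_sum]
    rw [Finset.sum_comm]
    refine Finset.sum_congr rfl fun j _ => ?_
    rw [Matrix.mul_apply, cst_sum, Finset.sum_smul]
    exact Finset.sum_congr rfl fun i _ => by rw [cst_mul, mul_smul]; rfl
  obtain ⟨ψ, hψ⟩ := exists_isLin (B := CM) (C := BM) (mul_eq_one_comm.1 hCB)
  have hl : IsLin φ BM := ⟨hφ, τ, hB⟩
  refine ⟨ψ, ?_, ?_⟩
  · exact IsLin.eq_id (hCB ▸ hl.comp hψ)
  · exact IsLin.eq_id (mul_eq_one_comm.1 hCB ▸ hψ.comp hl)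

end Lin

end Groth.Agent.ASB.LinProj
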