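import Groth.Agent.ASB.LinProj
import Groth.Agent.GrModX.ScalarExtAlg
import Groth.Agent.Proj16.BaseChange
import Groth.Agent.SegreX.Basic
import Mathlib.RingTheory.TensorProduct.MvPolynomial

/-!
# Projective space under an extension of the field, with its coordinates
-/

set_option linter.style.haveILetI false
set_option linter.unusedSectionVars false
set_option backward.isDefEq.respectTransparency false
set_option backward.isDefEq.respectTransparency.types false
set_option maxHeartbeats 1000000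

universe u

open CategoryTheory CategoryTheory.Limits AlgebraicGeometry TopologicalSpace Opposite

noncomputable section

namespace Groth.Agent.ASB.LinProj

open Groth.Agent

section Gen

variable {R A : Type u} [CommRing R] [CommRing A] [Algebra R A] {𝒜 : ℕ → Submodule R A} [GradedAlgebra 𝒜]
  {S B : Type u} [CommRing S] [CommRing B] [Algebra S B] {ℬ : ℕ → Submodule S B} [GradedAlgebra ℬ]
  (φ : 𝒜 →+*ᵍ ℬ) (hφ : HomogeneousIdeal.irrelevant ℬ ≤ (HomogeneousIdeal.irrelevant 𝒜).map φ)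

/-- The comparison of twisting sheaves on a pulled back global section. -/
theorem adjunct_globalOf (a : 𝒜 1) :
    (GrModX.adjunct φ hφ 1 (GrModX.selfMap φ) (GrModX.selfMap_mem φ)).app ⊤
        (pull (Proj.map φ hφ) (Twist.twist 𝒜 1) (Twist.globalOf 𝒜 a : Γ(Twist.twist 𝒜 1, ⊤))) =
      (Twist.globalOf ℬ ⟨φ a, φ.map_mem a.2⟩ : Γ(Twist.twist ℬ 1, ⊤)) := by
  refine Eq.trans ?_ ((GrModX.adjunct_pullSec φ hφ 1 (GrModX.selfMap φ) (GrModX.selfMap_mem φ) ⊤
    (Twist.globalOf 𝒜 a)).trans ?_)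
  · exact congrArg _ (pull_eq (Proj.map φ hφ) (Twist.twist 𝒜 1) _).symm
  · refine Subtype.ext (funext fun y => Subtype.ext ?_)
    refine (GrMod.comap_app_val φ hφ (GrModX.selfMap φ) (GrModX.selfMap_mem φ) 1 ⊤ _ y).trans ?_
    refine (GrMod.locModMap_mk φ hφ (GrModX.selfMap φ) y.1 _ _).trans ?_
    show LocalizedModule.mk (φ (a : A)) _ = LocalizedModule.mk (φ (a : A)) _
    congr 1
    exact Subtype.ext (map_one φ)

/-- The comparison of twisting sheaves of degree one, with its effect on global sections. -/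
theorem exists_twist_iso (h : IsIso (GrModX.adjunct φ hφ 1 (GrModX.selfMap φ) (GrModX.selfMap_mem φ))) :
    ∃ τ : (Scheme.Modules.pullback (Proj.map φ hφ)).obj (Twist.twist 𝒜 1) ≅ Twist.twist ℬ 1,
      ∀ a : 𝒜 1, τ.hom.app ⊤ (pull (Proj.map φ hφ) (Twist.twist 𝒜 1) (Twist.globalOf 𝒜 a : Γ(Twist.twist 𝒜 1, ⊤))) =
        (Twist.globalOf ℬ ⟨φ a, φ.map_mem a.2⟩ : Γ(Twist.twist ℬ 1, ⊤)) :=
  ⟨@asIso _ _ _ _ (GrModX.adjunct φ hφ 1 (GrModX.selfMap φ) (GrModX.selfMap_mem φ)) h, adjunct_globalOf φ hφ⟩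

end Gen

attribute [local instance] MvPolynomial.algebraMvPolynomial

theorem exists_bc_proj (k : Type u) [Field k] (K : Type u) [Field K] [Algebra k K] (m : ℕ) :
    ∃ (q : CohB1.ProjSpace m K ⟶ CohB1.ProjSpace m k),
      IsPullback q (CohB1.ProjSpace.toSpec m K) (CohB1.ProjSpace.toSpec m k)
        (Spec.map (CommRingCat.ofHom (algebraMap k K))) ∧
      ∃ τ : (Scheme.Modules.pullback q).obj (Twist.twistProjSpace m k 1) ≅ Twist.twistProjSpace m K 1,
        ∀ i, τ.hom.app ⊤ (pull q (Twist.twistProjSpace m k 1) (ProjUP.coord m k i)) = ProjUP.coord m K i := by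
  let 𝒜 := CohB1.polyGrading m k
  let ℬ := CohB1.polyGrading m K
  let φ : 𝒜 →+*ᵍ ℬ :=
    { MvPolynomial.map (algebraMap k K) with
      map_mem := fun {i x} hx => by
        rw [MvPolynomial.mem_homogeneousSubmodule] at hx ⊢
        exact hx.map _ }
  have hφA : ∀ b, φ b = algebraMap (MvPolynomial (Fin (m + 1)) k) (MvPolynomial (Fin (m + 1)) K) b := fun _ => rfl
  have hφ : HomogeneousIdeal.irrelevant ℬ ≤ (HomogeneousIdeal.irrelevant 𝒜).map φ := by
    intro a ha
    refine (Ideal.span_le.2 ?_ : Ideal.span _ ≤ ((HomogeneousIdeal.irrelevant 𝒜).map φ).toIdeal)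
      (SegreX.irrelevant_le_span m K ha)
    rintro _ ⟨i, rfl⟩
    have h2 := Ideal.mem_map_of_mem (φ : MvPolynomial (Fin (m + 1)) k →+* MvPolynomial (Fin (m + 1)) K)
      (HomogeneousIdeal.mem_irrelevant_of_mem 𝒜 one_pos (MvPolynomial.isHomogeneous_X k i))
    rw [show (φ : MvPolynomial (Fin (m + 1)) k →+* MvPolynomial (Fin (m + 1)) K) (MvPolynomial.X i) =
      MvPolynomial.X i from MvPolynomial.map_X _ i] at h2
    exact h2
  have sq := Proj16.BaseChange.isPullback_map φ hφA hφ
  obtain ⟨τ, hτ⟩ := exists_twist_iso φ hφ (GrModX.isIso_adjunct_self φ hφ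
    (algebraMap k (MvPolynomial (Fin (m + 1)) k)) (fun r => SetLike.algebraMap_mem_graded 𝒜 r)
    (algebraMap K (MvPolynomial (Fin (m + 1)) K)) (fun s => SetLike.algebraMap_mem_graded ℬ s) (algebraMap k K)
    (fun r => by rw [hφA, ← IsScalarTower.algebraMap_apply, ← IsScalarTower.algebraMap_apply])
    (fun Q _ _ w hw => by
      simpa only [hφA] using GrModX.existsUnique_addHom_of_isPushout (R := k) (S := K)
        (A := MvPolynomial (Fin (m + 1)) k) (B := MvPolynomial (Fin (m + 1)) K) Q w hw) 1)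
  have hX : ∀ i, φ (MvPolynomial.X i) = MvPolynomial.X i := fun i => MvPolynomial.map_X _ i
  refine ⟨Proj.map φ hφ, sq, τ, fun i => ?_⟩
  have h := hτ ⟨MvPolynomial.X i, MvPolynomial.isHomogeneous_X k i⟩
  simp only [hX] at h
  exact h

end Groth.Agent.ASB.LinProj
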