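import Groth.Agent.CSALib.Index
import Groth.Agent.CSALib.PiTensor
import Mathlib.Data.Int.ModEq

/-!
# Indices of powers modulo a killing exponent
-/

universe u v w

open scoped TensorProduct

namespace Groth.Agent.ASB.PowLib

open Groth.Agent.CSALib

variable {k : Type u} [Field k] {A : Type v} [Ring A] [Algebra k A] [Algebra.IsCentral k A] [IsSimpleRing A]
  [FiniteDimensional k A]

/-- The index of an algebra similar to a power divides the index. -/
theorem index_dvd_of_similar {B : Type w} [Ring B] [Algebra k B] [Algebra.IsCentral k B] [IsSimpleRing B]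
    [FiniteDimensional k B] {d d' : ℕ} (h : CSAGal.IsIndex k A d) (h' : CSAGal.IsIndex k B d') (i : ℕ)
    (hs : Similar k (⨂[k] _i : Fin i, A) B) : d' ∣ d := by
  obtain ⟨_, _, _⟩ := centralSimple_pow k A i
  exact index_pow_dvd h i (isIndex_congr h' hs)

/-- The index of a power whose exponent is a multiple modulo a killing exponent. -/
theorem index_pow_dvd_of_modEq {n : ℕ} (hn : Similar k (⨂[k] _i : Fin n, A) k) {x y u : ℕ}
    (hxy : x * u ≡ y [MOD n]) {d d' : ℕ} (hx : CSAGal.IsIndex k (⨂[k] _i : Fin x, A) d)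
    (hy : CSAGal.IsIndex k (⨂[k] _i : Fin y, A) d') : d' ∣ d := by
  obtain ⟨_, _, _⟩ := centralSimple_pow k A x
  obtain ⟨_, _, _⟩ := centralSimple_pow k A y
  exact index_dvd_of_similar hx hy u ((similar_pow_mul x u).symm.trans (similar_pow_of_modEq hn hxy))

/-- Powers whose exponents are multiples of each other modulo a killing exponent have equal index. -/
theorem index_pow_eq {n : ℕ} (hn : Similar k (⨂[k] _i : Fin n, A) k) {x y u u' : ℕ}
    (hxy : x * u ≡ y [MOD n]) (hyx : y * u' ≡ x [MOD n]) {d d' : ℕ}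
    (hx : CSAGal.IsIndex k (⨂[k] _i : Fin x, A) d) (hy : CSAGal.IsIndex k (⨂[k] _i : Fin y, A) d') : d = d' :=
  Nat.dvd_antisymm (index_pow_dvd_of_modEq hn hyx hy hx) (index_pow_dvd_of_modEq hn hxy hx hy)

omit [Algebra.IsCentral k A] [IsSimpleRing A] [FiniteDimensional k A] in
theorem modEq_natAbs {n : ℕ} (hn : 0 < n) {i j : ℤ} (h : (n : ℤ) ∣ j - i) :
    ∃ u, i.natAbs * u ≡ j.natAbs [MOD n] := by
  obtain ⟨c, hc⟩ : ∃ c : ℤ, (n : ℤ) ∣ (j.natAbs : ℤ) - c * i.natAbs := by
    have h' : (n : ℤ) ∣ i - j := by rw [← neg_sub, dvd_neg]; exact h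
    rcases Int.natAbs_eq i with hi | hi <;> rcases Int.natAbs_eq j with hj | hj
    · exact ⟨1, (show (j.natAbs : ℤ) - 1 * i.natAbs = j - i by omega) ▸ h⟩
    · exact ⟨-1, (show (j.natAbs : ℤ) - -1 * i.natAbs = i - j by omega) ▸ h'⟩
    · exact ⟨-1, (show (j.natAbs : ℤ) - -1 * i.natAbs = j - i by omega) ▸ h⟩
    · exact ⟨1, (show (j.natAbs : ℤ) - 1 * i.natAbs = i - j by omega) ▸ h'⟩
  have hn' : (n : ℤ) ≠ 0 := by exact_mod_cast hn.ne'
  refine ⟨(c % n).toNat, Nat.modEq_iff_dvd.2 ?_⟩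
  rw [Nat.cast_mul, Int.toNat_of_nonneg (Int.emod_nonneg c hn')]
  have h1 : (j.natAbs : ℤ) - i.natAbs * (c % n) =
      ((j.natAbs : ℤ) - c * i.natAbs) + (i.natAbs : ℤ) * (n * (c / n)) := by
    rw [Int.emod_def]; ring
  rw [h1]
  exact dvd_add hc (dvd_mul_of_dvd_right (dvd_mul_right _ _) _)

/-- The index of a power only depends on the exponent up to sign modulo a killing exponent. -/
theorem index_natAbs_eq {n : ℕ} (hn0 : 0 < n) (hn : Similar k (⨂[k] _i : Fin n, A) k) {i j : ℤ}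
    (h : (n : ℤ) ∣ j - i) {d d' : ℕ} (hi : CSAGal.IsIndex k (⨂[k] _i : Fin i.natAbs, A) d)
    (hj : CSAGal.IsIndex k (⨂[k] _i : Fin j.natAbs, A) d') : d = d' := by
  obtain ⟨u, hu⟩ := modEq_natAbs hn0 (i := i) (j := j) h
  obtain ⟨u', hu'⟩ := modEq_natAbs hn0 (i := j) (j := i) (by rw [← neg_sub, dvd_neg]; exact h)
  exact index_pow_eq hn hu hu' hi hj

/-- Killed powers have index one. -/
theorem index_eq_one {d : ℕ} {B : Type w} [Ring B] [Algebra k B] [Algebra.IsCentral k B]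
    (h : CSAGal.IsIndex k B d) (hs : Similar k B k) : d = 1 :=
  index_eq_of_similar h (D' := k) (by rw [Module.finrank_self, one_pow]) hs

end Groth.Agent.ASB.PowLib
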