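import Groth.Agent.ASB.ActCore
import Groth.Agent.SBSplit.Iso

/-!
# Rational points of a Severi–Brauer variety over a splitting field
-/

set_option linter.style.haveILetI false
set_option linter.unusedSectionVars false
set_option backward.isDefEq.respectTransparency false

universe u

open CategoryTheory AlgebraicGeometry
open scoped TensorProduct

noncomputable section

namespace Groth.Agent.ASB

variable {k : Type u} [Field k] {A : Type u} [Ring A] [Algebra k A] {K : Type u} [Field K] [Algebra k K]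
  {m : ℕ} (Φ : K ⊗[k] A ≃ₐ[K] Matrix (Fin (m + 1)) (Fin (m + 1)) K)
  (hA : Module.finrank k A = (m + 1) * (m + 1)) {X : Scheme.{u}} {f : X ⟶ Spec (CommRingCat.of k)}
  (s : BrSev.SBStr k A ((m + 1) * (m + 1) - (m + 1)) f)

/-- The point corresponds to the vector. -/
def IsPt (g : BrSev.Pts f K) (w : Fin (m + 1) → K) : Prop :=
  ∀ y : K ⊗[k] A, y ∈ (s.bij K g).1.toSubmodule ↔ Act.Row w (Φ y)

theorem splitHom_self (y : K ⊗[k] A) : SBAut.splitHom Φ K y = Φ y := by
  have hbc : ∀ z, SBAut.bc (A := A) (IsScalarTower.toAlgHom k K K) z = z := fun z => by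
    induction z using TensorProduct.induction_on with
    | zero => simp
    | tmul c a => simp
    | add a b ha hb => simp [map_add, ha, hb]
  have h := SBAut.splitHom_bc Φ K y
  rw [hbc] at h
  rw [h]
  ext i j
  simp

theorem IsPt.unique {g g' : BrSev.Pts f K} {w : Fin (m + 1) → K} (h : IsPt Φ s g w) (h' : IsPt Φ s g' w) :
    g = g' :=
  (s.bij K).injective (SBAut.sbSet_ext (Submodule.ext fun y => (h y).trans (h' y).symm))

include hA in
/-- The point of a vector, through a chart. -/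
theorem exists_isPt (e : BrSev.Splitting f K m) (he : ∀ i, SBSplit.ι i ≫ e.iso.inv = SBSplit.chartMap Φ hA s i)
    (w : Fin (m + 1) → K) (hw : Act.Pivot w) :
    ∃ (i : Fin (m + 1)) (a : SBSplit.Ch (K := K) i →+* K), a.comp (ProjPt.cst i) = RingHom.id K ∧
      (∀ j, a (ProjPt.crd i j) = w j) ∧
      ∃ g : BrSev.Pts f K,
        g.1 = ((Spec.map (CommRingCat.ofHom a) ≫ SBSplit.ι i) ≫ e.iso.inv) ≫ BrSev.proj f K ∧ IsPt Φ s g w := by
  obtain ⟨i, hi⟩ := hw
  let a := SBSplit.evC (RingHom.id K) w i hi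
  have ha : a.comp (ProjPt.cst i) = algebraMap K K := SBSplit.evC_cst _ _ _ _
  have hcrd : ∀ j, a (ProjPt.crd i j) = w j := fun j => SBSplit.evC_crd _ _ _ _ _
  obtain ⟨hg, h⟩ := SBSplit.chartMap_spec Φ hA s i K a ha
  refine ⟨i, a, ha, hcrd, SBSplit.toPt _ hg, ?_, fun y => ?_⟩
  · rw [Category.assoc, Category.assoc, reassoc_of% (he i)]
    rfl
  · change y ∈ (SBSplit.idl s _ hg).1.toSubmodule ↔ _
    rw [h, SBSplit.mem_vecPtP, splitHom_self, SBAut.mem_rowIdeal]
    simp only [hcrd]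
    rfl

include hA in
/-- Every point has a vector. -/
theorem exists_vec (g : BrSev.Pts f K) : ∃ w, Act.Pivot w ∧ IsPt Φ s g w := by
  obtain ⟨v, hv, hN⟩ := SBAut.exists_vecPt Φ hA m.succ_pos (s.bij K g)
  obtain ⟨i, hi⟩ := hv.exists_isUnit
  refine ⟨(v i)⁻¹ • v, ⟨i, by simp [hi.ne_zero]⟩, fun y => ?_⟩
  rw [← hN, SBAut.mem_vecPt, splitHom_self, SBAut.mem_rowIdeal]
  refine ⟨fun h a p q => ?_, fun h a p q => ?_⟩
  · have := h a p q
    simp only [Pi.smul_apply, smul_eq_mul]
    linear_combination (v i)⁻¹ * this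
  · have := h a p q
    simp only [Pi.smul_apply, smul_eq_mul] at this
    have hne := hi.ne_zero
    refine mul_left_cancel₀ (inv_ne_zero hne) ?_
    linear_combination this

theorem bc_eq_sA (σ : K ≃ₐ[k] K) (y : K ⊗[k] A) :
    SBAut.bc (A := A) σ.toAlgHom y = Act.sA A σ y := by
  induction y using TensorProduct.induction_on with
  | zero => simp
  | tmul c a => simp [Act.sA]
  | add a b ha hb => rw [map_add, map_add, ha, hb]

theorem map_symm_map (σ : K ≃ₐ[k] K) (g : BrSev.Pts f K) :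
    BrSev.Pts.map f σ.symm.toAlgHom (BrSev.Pts.map f σ.toAlgHom g) = g := by
  refine Subtype.ext ?_
  show Spec.map _ ≫ Spec.map _ ≫ g.1 = g.1
  rw [← Category.assoc, ← Spec.map_comp, ← CommRingCat.ofHom_comp,
    show (σ.symm.toAlgHom : K →+* K).comp (σ.toAlgHom : K →+* K) = RingHom.id K from
      RingHom.ext fun x => σ.symm_apply_apply x, CommRingCat.ofHom_id, Spec.map_id, Category.id_comp]

theorem sA_mem_iff (σ : K ≃ₐ[k] K) (g : BrSev.Pts f K) (y : K ⊗[k] A) :
    Act.sA A σ y ∈ (s.bij K (BrSev.Pts.map f σ.toAlgHom g)).1.toSubmodule ↔ y ∈ (s.bij K g).1.toSubmodule := by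
  have key : ∀ (τ : K ≃ₐ[k] K) g y, y ∈ (s.bij K g).1.toSubmodule →
      Act.sA A τ y ∈ (s.bij K (BrSev.Pts.map f τ.toAlgHom g)).1.toSubmodule := fun τ g y hy => by
    rw [s.natural K K τ.toAlgHom g, ← bc_eq_sA]
    exact SBAut.mem_map_of_mem _ _ hy
  refine ⟨fun h => ?_, key σ g y⟩
  have := key σ.symm _ _ h
  rwa [map_symm_map, Act.sA_symm] at this

end Groth.Agent.ASB
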