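import Groth.Agent.QCoh.PullbackBC
import Groth.Agent.QCoh.Stalk
import Groth.Agent.Pi1X.PushOne
import Groth.Agent.Lib.CurveHom
import Groth.Prelude.Def_BrSev
import Groth.Prelude.Def_KLin
import Mathlib.RingTheory.TensorProduct.IsBaseChangeFree
import Mathlib.LinearAlgebra.TensorProduct.Basis

/-!
# Sections of the base change of a module to a field extension
-/

set_option linter.style.haveILetI false
set_option linter.unusedSectionVars false
set_option backward.isDefEq.respectTransparency false
set_option backward.isDefEq.respectTransparency.types false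
set_option maxHeartbeats 1000000

universe u

open CategoryTheory CategoryTheory.Limits AlgebraicGeometry TopologicalSpace Opposite
open scoped TensorProduct

noncomputable section

namespace Groth.Agent.ASB

/-- Morphisms out of a quasi-coherent module are determined on an affine cover. -/
theorem hom_ext_cover {Y : Scheme.{u}} {M N : Y.Modules} (hM : Coh.IsQCoh M) {ι : Type*} (U : ι → Y.Opens)
    (hU : ∀ j, IsAffineOpen (U j)) (hcov : ∀ y : Y, ∃ j, y ∈ U j) {φ ψ : M ⟶ N}
    (h : ∀ (j : ι) (m : Γ(M, U j)), φ.app (U j) m = ψ.app (U j) m) : φ = ψ := by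
  rw [← sub_eq_zero]
  refine CurveHom.eq_zero_of_stalk _ fun y v => ?_
  obtain ⟨j, hy⟩ := hcov y
  letI := QCoh.stalkAlg (X := Y) hy
  letI := QCoh.stalkModule M hy
  haveI := QCoh.isLocalizedModule_germLin hM (hU j) hy
  obtain ⟨⟨m, s⟩, hms⟩ := IsLocalizedModule.surj ((hU j).primeIdealOf ⟨y, hy⟩).asIdeal.primeCompl
    (QCoh.germLin M hy) v
  set f := RefHull.stalkMapₗ (φ - ψ) y
  have h0 : f (M.presheaf.germ (U j) y hy m) = 0 := by
    rw [RefHull.stalkMapₗ_germ]
    show N.presheaf.germ (U j) y hy (φ.app (U j) m - ψ.app (U j) m) = 0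
    rw [h, sub_self, map_zero]
  have hu : IsUnit (Y.presheaf.germ (U j) y hy (s : Γ(Y, U j))) :=
    (Y.mem_basicOpen _ y hy).1 ((QCoh.mem_basicOpen_iff_notMem (hU j) hy _).2 s.2)
  have hv : (Y.presheaf.germ (U j) y hy (s : Γ(Y, U j))) • (show M.presheaf.stalk y from v) =
      M.presheaf.germ (U j) y hy m := hms
  have h1 : f ((Y.presheaf.germ (U j) y hy (s : Γ(Y, U j))) • (show M.presheaf.stalk y from v)) = 0 := by
    rw [hv]; exact h0
  rw [map_smul] at h1
  exact hu.smul_eq_zero.1 h1

variable {k : Type u} [Field k] {X : Scheme.{u}} (p : X ⟶ Spec (CommRingCat.of k))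
  (K : Type u) [Field K] [Algebra k K]

/-- The ground field inside the functions on an open. -/
def rsk (U : X.Opens) : k →+* Γ(X, U) :=
  (X.presheaf.map (homOfLE (le_top : U ≤ ⊤)).op).hom.comp (Coh.toGlobal p)

/-- The larger field inside the functions on an open upstairs. -/
def rs (W : (BrSev.bc p K).Opens) : K →+* Γ(BrSev.bc p K, W) :=
  rsk (BrSev.bcTo p K) W

theorem rs_res {V W : (BrSev.bc p K).Opens} (h : V ≤ W) (c : K) :
    (BrSev.bc p K).presheaf.map (homOfLE h).op (rs p K W c) = rs p K V c := by
  show (BrSev.bc p K).presheaf.map _ ((BrSev.bc p K).presheaf.map _ _) = (BrSev.bc p K).presheaf.map _ _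
  rw [← ConcreteCategory.comp_apply, ← Functor.map_comp]
  rfl

instance : IsAffineHom (BrSev.proj p K) := MorphismProperty.pullback_fst _ _ inferInstance

/-- The preimage of an open. -/
abbrev pre (U : X.Opens) : (BrSev.bc p K).Opens := BrSev.proj p K ⁻¹ᵁ U

theorem isAffineOpen_pre {U : X.Opens} (hU : IsAffineOpen U) : IsAffineOpen (pre p K U) :=
  hU.preimage _

theorem pre_mono {U V : X.Opens} (h : V ≤ U) : pre p K V ≤ pre p K U := fun _ hx => h hx

/-- Functions upstairs over an affine open are a tensor product. -/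
theorem isPushout_sections {U : X.Opens} (hU : IsAffineOpen U) :
    IsPushout (CommRingCat.ofHom (rsk p U)) (CommRingCat.ofHom (algebraMap k K))
      ((BrSev.proj p K).app U) (CommRingCat.ofHom (rs p K (pre p K U))) := by
  let t := Spec.map (CommRingCat.ofHom (algebraMap k K))
  have H : IsPullback (BrSev.proj p K) (BrSev.bcTo p K) p t := IsPullback.of_hasPullback p t
  have hpo : IsPushout (p.appLE ⊤ U le_top) (t.appLE ⊤ (⊤ : (Spec (CommRingCat.of K)).Opens) le_rfl)
      ((BrSev.proj p K).appLE U (pre p K U) le_rfl) ((BrSev.bcTo p K).appLE ⊤ (pre p K U) le_top) :=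
    (isIso_pushoutSection_iff H (le_refl (⊤ : (Spec (CommRingCat.of K)).Opens)) le_top
      (show pre p K U = BrSev.proj p K ⁻¹ᵁ U ⊓ BrSev.bcTo p K ⁻¹ᵁ ⊤ by
        exact (inf_top_eq _).symm)).1
      (isIso_pushoutSection_of_isAffineOpen H (le_refl (⊤ : (Spec (CommRingCat.of K)).Opens)) le_top _
        (isAffineOpen_top _) (isAffineOpen_top _) hU)
  rw [← Scheme.Hom.appLE_eq_app]
  refine hpo.of_iso (Scheme.ΓSpecIso (CommRingCat.of k)) (Iso.refl _) (Scheme.ΓSpecIso (CommRingCat.of K))
    (Iso.refl _) ?_ ?_ (by simp) ?_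
  · rw [Iso.refl_hom, Category.comp_id, ← cancel_epi (Scheme.ΓSpecIso (CommRingCat.of k)).inv, Iso.inv_hom_id_assoc]
    ext c
    show _ = X.presheaf.map _ (p.appTop ((Scheme.ΓSpecIso (CommRingCat.of k)).inv c))
    rfl
  · show t.appLE ⊤ (t ⁻¹ᵁ ⊤) le_rfl ≫ _ = _
    rw [Scheme.Hom.appLE_eq_app]
    exact Scheme.ΓSpecIso_naturality _
  · rw [Iso.refl_hom, Category.comp_id, ← cancel_epi (Scheme.ΓSpecIso (CommRingCat.of K)).inv, Iso.inv_hom_id_assoc]
    ext c
    rfl

/-- The base change of a module. -/
abbrev bcF (F : X.Modules) : (BrSev.bc p K).Modules := (Scheme.Modules.pullback (BrSev.proj p K)).obj F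

/-- Pull back a section over an open to its preimage. -/
def pull (F : X.Modules) (U : X.Opens) (m : Γ(F, U)) : Γ(bcF p K F, pre p K U) :=
  QCoh.pullSec (BrSev.proj p K) F (le_refl (pre p K U)) m

theorem pull_add (F : X.Modules) (U : X.Opens) (m m' : Γ(F, U)) :
    pull p K F U (m + m') = pull p K F U m + pull p K F U m' :=
  QCoh.pullSec_add _ _ _ _ _

theorem pull_zero (F : X.Modules) (U : X.Opens) : pull p K F U 0 = 0 := by
  have h := pull_add p K F U 0 0
  rw [add_zero] at h
  exact left_eq_add.1 h

theorem pull_smul (F : X.Modules) (U : X.Opens) (r : Γ(X, U)) (m : Γ(F, U)) :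
    pull p K F U (r • m) = (BrSev.proj p K).app U r • pull p K F U m := by
  rw [← Scheme.Hom.appLE_eq_app]
  exact QCoh.pullSec_smul _ _ _ _ _

theorem pull_eq (F : X.Modules) (U : X.Opens) (m : Γ(F, U)) :
    pull p K F U m =
      ((Scheme.Modules.pullbackPushforwardAdjunction (BrSev.proj p K)).unit.app F).app U m := by
  show (bcF p K F).presheaf.map (𝟙 (op (pre p K U))) _ = _
  rw [CategoryTheory.Functor.map_id]
  rfl

theorem pull_res (F : X.Modules) {U V : X.Opens} (h : V ≤ U) (m : Γ(F, U)) :
    (bcF p K F).presheaf.map (homOfLE (pre_mono p K h)).op (pull p K F U m) =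
      pull p K F V (F.presheaf.map (homOfLE h).op m) := by
  rw [pull_eq, pull_eq]
  exact (QCoh.map_app_comm ((Scheme.Modules.pullbackPushforwardAdjunction (BrSev.proj p K)).unit.app F)
    (homOfLE h) m).symm

theorem app_pull {F G : X.Modules} (φ : F ⟶ G) (U : X.Opens) (m : Γ(F, U)) :
    ((Scheme.Modules.pullback (BrSev.proj p K)).map φ).app (pre p K U) (pull p K F U m) =
      pull p K G U (φ.app U m) := by
  rw [pull_eq, pull_eq]
  exact (ConcreteCategory.congr_hom (congrArg (fun f => Scheme.Modules.Hom.app f U)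
    ((Scheme.Modules.pullbackPushforwardAdjunction (BrSev.proj p K)).unit.naturality φ)) m).symm

variable {I : Type u} (b : I → K)

/-- Combinations of pulled back sections with coefficients in the larger field. -/
def sumPull (F : X.Modules) (U : X.Opens) : (I →₀ Γ(F, U)) →+ Γ(bcF p K F, pre p K U) :=
  Finsupp.liftAddHom fun i => AddMonoidHom.mk' (fun m => rs p K (pre p K U) (b i) • pull p K F U m)
    fun m m' => by rw [pull_add, smul_add]

@[simp]
theorem sumPull_single (F : X.Modules) (U : X.Opens) (i : I) (m : Γ(F, U)) :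
    sumPull p K b F U (Finsupp.single i m) = rs p K (pre p K U) (b i) • pull p K F U m :=
  Finsupp.liftAddHom_apply_single _ _ _

theorem sumPull_smul (F : X.Modules) (U : X.Opens) (r : Γ(X, U)) (c : I →₀ Γ(F, U)) :
    sumPull p K b F U (r • c) = (BrSev.proj p K).app U r • sumPull p K b F U c := by
  induction c using Finsupp.induction_linear with
  | zero => rw [smul_zero, map_zero, smul_zero]
  | add c c' hc hc' => rw [smul_add, map_add, map_add, hc, hc', smul_add]
  | single i m => rw [Finsupp.smul_single, sumPull_single, sumPull_single, pull_smul, smul_comm]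

theorem sumPull_res (F : X.Modules) {U V : X.Opens} (h : V ≤ U) (c : I →₀ Γ(F, U)) :
    (bcF p K F).presheaf.map (homOfLE (pre_mono p K h)).op (sumPull p K b F U c) =
      sumPull p K b F V (c.mapRange (fun m : Γ(F, U) => (F.presheaf.map (homOfLE h).op m : Γ(F, V))) (map_zero (F.presheaf.map (homOfLE h).op).hom)) := by
  induction c using Finsupp.induction_linear with
  | zero => rw [Finsupp.mapRange_zero, map_zero, map_zero, map_zero]
  | add c c' hc hc' =>
    rw [map_add, Finsupp.mapRange_add (fun x y => map_add (F.presheaf.map (homOfLE h).op).hom x y), map_add, map_add, hc, hc']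
  | single i m =>
    rw [Finsupp.mapRange_single, sumPull_single, sumPull_single, ← pull_res p K F h]
    exact (QCoh.map_smul' (M := bcF p K F) (homOfLE (pre_mono p K h)) _ _).trans
      (congrArg (· • (bcF p K F).presheaf.map (homOfLE (pre_mono p K h)).op (pull p K F U m)) (rs_res p K _ _))

/-- Sections upstairs are unique combinations of sections downstairs. -/
theorem bijective_sumPull (β : Module.Basis I k K) {F : X.Modules} (hF : Coh.IsQCoh F) {U : X.Opens}
    (hU : IsAffineOpen U) : Function.Bijective (sumPull p K β F U) := by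
  classical
  let R := Γ(X, U)
  let T := Γ(BrSev.bc p K, pre p K U)
  letI : Algebra R T := ((BrSev.proj p K).app U).hom.toAlgebra
  letI : Algebra k R := (rsk p U).toAlgebra
  letI : Algebra K T := (rs p K (pre p K U)).toAlgebra
  letI : Algebra k T := ((algebraMap R T).comp (algebraMap k R)).toAlgebra
  have hpo := isPushout_sections p K hU
  haveI : IsScalarTower k R T := IsScalarTower.of_algebraMap_eq' rfl
  haveI : IsScalarTower k K T := IsScalarTower.of_algebraMap_eq' (congrArg CommRingCat.Hom.hom hpo.w)
  haveI : Algebra.IsPushout k R K T := CommRingCat.isPushout_iff_isPushout.1 hpo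
  let ℬ : Module.Basis I R T := (Algebra.IsPushout.out (R := k) (S := R) (R' := K) (S' := T)).basis β
  have hℬ : ∀ i, ℬ i = algebraMap K T (β i) := fun i => by
    simp only [ℬ, IsBaseChange.basis_apply]
    rfl
  let N := Γ(bcF p K F, pre p K U)
  letI : Module R N := Module.compHom N (algebraMap R T)
  haveI : IsScalarTower R T N := IsScalarTower.of_algebraMap_smul fun _ _ => rfl
  let l : Γ(F, U) →ₗ[R] N :=
    { toFun := pull p K F U
      map_add' := pull_add p K F U
      map_smul' := pull_smul p K F U }
  have hbc : IsBaseChange T l := by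
    refine QCoh.isBaseChange_pullback hU (BrSev.proj p K) (isAffineOpen_pre p K hU) hF le_rfl ?_ l fun x => rfl
    intro r
    rw [Scheme.Hom.appLE_eq_app]
    rfl
  let e : (I →₀ Γ(F, U)) ≃ₗ[R] N :=
    (TensorProduct.equivFinsuppOfBasisLeft ℬ).symm ≪≫ₗ hbc.equiv.restrictScalars R
  have he : ∀ c, sumPull p K β F U c = e c := fun c => by
    induction c using Finsupp.induction_linear with
    | zero => rw [map_zero, map_zero]
    | add c c' hc hc' => rw [map_add, map_add, hc, hc']
    | single i m =>
      rw [sumPull_single]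
      show _ = hbc.equiv ((TensorProduct.equivFinsuppOfBasisLeft ℬ).symm (Finsupp.single i m))
      have h1 : (TensorProduct.equivFinsuppOfBasisLeft ℬ).symm (Finsupp.single i m) = ℬ i ⊗ₜ m := by
        rw [LinearEquiv.symm_apply_eq, TensorProduct.equivFinsuppOfBasisLeft_apply_tmul,
          Module.Basis.repr_self, Finsupp.mapRange_single, one_smul]
      rw [h1, IsBaseChange.equiv_tmul, hℬ]
      rfl
  rw [show (sumPull p K β F U : (I →₀ Γ(F, U)) → N) = e from funext he]
  exact e.bijective

end Groth.Agent.ASB
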