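import Groth.Agent.ASB.Descent

/-!
# Field automorphisms acting on a base change
-/

set_option linter.style.haveILetI false
set_option linter.unusedSectionVars false
set_option backward.isDefEq.respectTransparency false
set_option backward.isDefEq.respectTransparency.types false
set_option maxHeartbeats 1000000

universe u v

open CategoryTheory CategoryTheory.Limits AlgebraicGeometry TopologicalSpace Opposite

noncomputable section

namespace Groth.Agent.ASB

/-- Pullback carries multiplication by a function to multiplication by its pullback. -/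
theorem pullback_smulModΓ {Y Z : Scheme.{u}} (g : Y ⟶ Z) (M : Z.Modules) (s : Γ(Z, ⊤)) :
    (Scheme.Modules.pullback g).map (Formal.smulModΓ M s) =
      Formal.smulModΓ ((Scheme.Modules.pullback g).obj M) (g.appTop s) := by
  apply ((Scheme.Modules.pullbackPushforwardAdjunction g).homEquiv _ _).injective
  rw [Adjunction.homEquiv_unit, Adjunction.homEquiv_unit]
  have h1 : (Scheme.Modules.pushforward g).map (Formal.smulModΓ ((Scheme.Modules.pullback g).obj M) (g.appTop s)) =
      Formal.smulModΓ ((Scheme.Modules.pushforward g).obj ((Scheme.Modules.pullback g).obj M)) s := by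
    refine Scheme.Modules.hom_ext _ _ fun U => ?_
    ext m
    rw [Scheme.Modules.pushforward_map_app]
    show (Formal.smulModΓ ((Scheme.Modules.pullback g).obj M) (g.appTop s)).app (g ⁻¹ᵁ U) m = _
    rw [KLin.smulModΓ_app_apply, KLin.smulModΓ_app_apply]
    show _ = g.app U (Z.presheaf.map (homOfLE (le_top : U ≤ ⊤)).op s) • (show Γ((Scheme.Modules.pullback g).obj M, g ⁻¹ᵁ U) from m)
    rw [← ConcreteCategory.comp_apply (Z.presheaf.map (homOfLE (le_top : U ≤ ⊤)).op) (g.app U), g.naturality]
    rfl
  rw [h1]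
  refine ((Scheme.Modules.pullbackPushforwardAdjunction g).unit.naturality (Formal.smulModΓ M s)).symm.trans ?_
  exact (KLin.comp_smulModΓ _ s).symm

variable {k : Type u} [Field k] {X : Scheme.{u}} (p : X ⟶ Spec (CommRingCat.of k))
  (K : Type u) [Field K] [Algebra k K] (σ : K ≃ₐ[k] K)

/-- The map of spectra of an automorphism. -/
abbrev specσ : Spec (CommRingCat.of K) ⟶ Spec (CommRingCat.of K) :=
  Spec.map (CommRingCat.ofHom σ.toAlgHom.toRingHom)

theorem specσ_comp : specσ K σ ≫ Spec.map (CommRingCat.ofHom (algebraMap k K)) =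
    Spec.map (CommRingCat.ofHom (algebraMap k K)) := by
  rw [← Spec.map_comp, ← CommRingCat.ofHom_comp]
  congr 2
  exact RingHom.ext σ.commutes

/-- The endomorphism of the base change given by a field automorphism. -/
def sigX : BrSev.bc p K ⟶ BrSev.bc p K :=
  pullback.lift (BrSev.proj p K) (BrSev.bcTo p K ≫ specσ K σ) (by
    rw [Category.assoc, specσ_comp]
    exact pullback.condition)

theorem sigX_proj : sigX p K σ ≫ BrSev.proj p K = BrSev.proj p K := pullback.lift_fst _ _ _

theorem sigX_bcTo : sigX p K σ ≫ BrSev.bcTo p K = BrSev.bcTo p K ≫ specσ K σ := pullback.lift_snd _ _ _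

theorem sigX_comp (τ : K ≃ₐ[k] K) (h : specσ K τ ≫ specσ K σ = 𝟙 _) : sigX p K τ ≫ sigX p K σ = 𝟙 _ := by
  apply pullback.hom_ext
  · rw [Category.assoc, sigX_proj, sigX_proj, Category.id_comp]
  · rw [Category.assoc, sigX_bcTo, ← Category.assoc, sigX_bcTo, Category.assoc, h, Category.comp_id, Category.id_comp]

theorem specσ_symm_comp : specσ K σ.symm ≫ specσ K σ = 𝟙 _ := by
  rw [← Spec.map_comp, ← CommRingCat.ofHom_comp]
  refine Eq.trans ?_ (Spec.map_id (CommRingCat.of K))
  congr 1
  refine CommRingCat.hom_ext (RingHom.ext fun x => ?_)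
  exact σ.symm_apply_apply x

/-- The automorphism of the base change given by a field automorphism. -/
def sigIso : BrSev.bc p K ≅ BrSev.bc p K where
  hom := sigX p K σ
  inv := sigX p K σ.symm
  hom_inv_id := sigX_comp p K σ.symm σ (by simpa using specσ_symm_comp K σ.symm)
  inv_hom_id := sigX_comp p K σ σ.symm (specσ_symm_comp K σ)

theorem toGlobal_sigX (c : K) :
    (sigX p K σ).appTop (Coh.toGlobal (BrSev.bcTo p K) c) = Coh.toGlobal (BrSev.bcTo p K) (σ c) := by
  rw [← KLin.toGlobal_comp, sigX_bcTo, KLin.toGlobal_comp]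
  show (BrSev.bcTo p K).appTop ((specσ K σ).appTop ((Scheme.ΓSpecIso (CommRingCat.of K)).inv c)) = _
  rw [← ConcreteCategory.comp_apply (Scheme.ΓSpecIso (CommRingCat.of K)).inv, ← Scheme.ΓSpecIso_inv_naturality]
  rfl

/-- The pullback of a base change along the automorphism. -/
def sigBc (G : X.Modules) : (Scheme.Modules.pullback (sigX p K σ)).obj (bcF p K G) ≅ bcF p K G :=
  (Scheme.Modules.pullbackComp (sigX p K σ) (BrSev.proj p K) ≪≫
    Scheme.Modules.pullbackCongr (sigX_proj p K σ)).app G

theorem sig_scalarHom {F G : X.Modules} (c : K) (φ : F ⟶ G) :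
    (Scheme.Modules.pullback (sigX p K σ)).map (scalarHom p K c φ) ≫ (sigBc p K σ G).hom =
      (sigBc p K σ F).hom ≫ scalarHom p K (σ c) φ := by
  have hn := (Scheme.Modules.pullbackComp (sigX p K σ) (BrSev.proj p K) ≪≫
    Scheme.Modules.pullbackCongr (sigX_proj p K σ)).hom.naturality φ
  rw [scalarHom, scalarHom, Functor.map_comp, Category.assoc]
  erw [hn]
  rw [← Category.assoc, ← Category.assoc]
  congr 1
  show (Scheme.Modules.pullback (sigX p K σ)).map (Formal.smulModΓ _ _) ≫ _ = _ ≫ Formal.smulModΓ _ _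
  rw [pullback_smulModΓ, toGlobal_sigX]
  exact (KLin.comp_smulModΓ (sigBc p K σ F).hom _).symm

end Groth.Agent.ASB
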