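import Groth.Agent.ASB.Iso
import Groth.Agent.Lib.InvEnd
import Mathlib.RingTheory.SimpleRing.Basic
import Mathlib.AlgebraicGeometry.Geometrically.Integral

/-!
# Endomorphisms of modules of rank one isotypical type
-/

set_option linter.style.haveILetI false
set_option linter.unusedSectionVars false
set_option backward.isDefEq.respectTransparency false
set_option backward.isDefEq.respectTransparency.types false
set_option maxHeartbeats 1000000

universe u v

open CategoryTheory CategoryTheory.Limits AlgebraicGeometry TopologicalSpace Opposite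
open scoped TensorProduct

noncomputable section

namespace Groth.Agent.ASB

attribute [local instance] Abelian.hasFiniteBiproducts

/-- If all endomorphisms of `L` are scalars, every nonzero endomorphism of a multiple of `L` generates the unit ideal. -/
theorem sum_comp_eq_id {C : Type v} [Category.{u} C] [Abelian C] {L : C}
    (hL : ∀ f : L ⟶ L, f ≠ 0 → IsIso f) {r : ℕ} (F : (⨁ fun _ : Fin r => L) ⟶ ⨁ fun _ : Fin r => L) (hF : F ≠ 0) :
    ∃ a b : Fin r → ((⨁ fun _ : Fin r => L) ⟶ ⨁ fun _ : Fin r => L), ∑ l, a l ≫ F ≫ b l = 𝟙 _ := by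
  obtain ⟨i, j, hij⟩ : ∃ i j, biproduct.ι (fun _ : Fin r => L) i ≫ F ≫ biproduct.π (fun _ : Fin r => L) j ≠ 0 := by
    by_contra h
    push Not at h
    refine hF ?_
    apply biproduct.hom_ext'
    intro i
    apply biproduct.hom_ext
    intro j
    rw [comp_zero, zero_comp, Category.assoc]
    exact h i j
  haveI := hL _ hij
  set c := biproduct.ι (fun _ : Fin r => L) i ≫ F ≫ biproduct.π (fun _ : Fin r => L) j
  refine ⟨fun l => biproduct.π (fun _ : Fin r => L) l ≫ inv c ≫ biproduct.ι (fun _ : Fin r => L) i,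
    fun l => biproduct.π (fun _ : Fin r => L) j ≫ biproduct.ι (fun _ : Fin r => L) l, ?_⟩
  rw [← biproduct.total]
  refine Finset.sum_congr rfl fun l _ => ?_
  calc (biproduct.π (fun _ : Fin r => L) l ≫ inv c ≫ biproduct.ι (fun _ : Fin r => L) i) ≫ F ≫
        biproduct.π (fun _ : Fin r => L) j ≫ biproduct.ι (fun _ : Fin r => L) l
      = biproduct.π (fun _ : Fin r => L) l ≫ (inv c ≫ c) ≫ biproduct.ι (fun _ : Fin r => L) l := by
        simp only [c, Category.assoc]
    _ = _ := by rw [IsIso.inv_hom_id, Category.id_comp]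

variable {k : Type u} [Field k] {X : Scheme.{u}} (p : X ⟶ Spec (CommRingCat.of k))
  (K : Type u) [Field K] [Algebra k K]

/-- Combinations with all values in an ideal. -/
theorem exists_combo_of_closure {E : X.Modules} (hE : Coh.IsQCoh E) {I : Type u} (β : Module.Basis I k K)
    (S : AddSubgroup (E ⟶ E)) (hS : letI := ovr p; ∀ (a : k) g, g ∈ S → a • g ∈ S)
    {Φ : bcF p K E ⟶ bcF p K E}
    (hΦ : Φ ∈ AddSubgroup.closure {Ψ | ∃ (c : K) (g : E ⟶ E), g ∈ S ∧ Ψ = scalarHom p K c g}) :
    ∃ d : I →₀ (E ⟶ E), (∀ i, d i ∈ S) ∧ combo p K β d = Φ := by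
  letI := ovr p
  induction hΦ using AddSubgroup.closure_induction with
  | mem Ψ h =>
    obtain ⟨c, g, hg, rfl⟩ := h
    refine ⟨(β.repr c).mapRange (fun a => a • g) (zero_smul k g), fun i => ?_, ?_⟩
    · rw [Finsupp.mapRange_apply]; exact hS _ g hg
    · conv_rhs => rw [← β.linearCombination_repr c]
      generalize β.repr c = d
      induction d using Finsupp.induction_linear with
      | zero => rw [Finsupp.mapRange_zero, map_zero, map_zero]; simp [scalarHom, sm, KLin.smulModΓ_zero]
      | add d d' h h' =>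
        rw [Finsupp.mapRange_add (fun x y => add_smul x y g), map_add, map_add, scalarHom_add_left, h, h']
      | single i a =>
        rw [Finsupp.mapRange_single, combo_single, Finsupp.linearCombination_single, scalarHom_smul p K hE,
          Algebra.smul_def, mul_comm]
  | zero => exact ⟨0, fun i => S.zero_mem, map_zero _⟩
  | add Φ Φ' _ _ h h' =>
    obtain ⟨d, hd, rfl⟩ := h
    obtain ⟨d', hd', rfl⟩ := h'
    exact ⟨d + d', fun i => S.add_mem (hd i) (hd' i), map_add _ _ _⟩
  | neg Φ _ h =>
    obtain ⟨d, hd, rfl⟩ := h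
    exact ⟨-d, fun i => S.neg_mem (hd i), map_neg _ _⟩

variable [IsProper p]

/-- The endomorphism ring is simple when the base change is a multiple of a module with scalar endomorphisms. -/
theorem isSimpleRing_end {E : X.Modules} (hE : Coh.IsCoh E) (hE0 : ¬ IsZero E)
    {L : (BrSev.bc p K).Modules} (hL : ∀ f : L ⟶ L, f ≠ 0 → IsIso f) {r : ℕ}
    (e : bcF p K E ≅ ⨁ fun _ : Fin r => L) : IsSimpleRing (End E) := by
  letI := ovr p
  haveI : Nontrivial (End E) := ⟨⟨𝟙 E, 0, fun h => hE0 ((IsZero.iff_id_eq_zero E).2 h)⟩⟩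
  refine IsSimpleRing.of_eq_bot_or_eq_top fun J => ?_
  by_cases hJ : J = ⊥
  · exact Or.inl hJ
  right
  obtain ⟨f, hfJ, hf0⟩ : ∃ f : End E, f ∈ J ∧ f ≠ 0 := by
    by_contra h
    push Not at h
    refine hJ (le_antisymm (fun x hx => ?_) bot_le)
    rw [TwoSidedIdeal.mem_bot]
    exact h x hx
  rw [← TwoSidedIdeal.one_mem_iff]
  let β := Module.Basis.ofVectorSpace k K
  let S : AddSubgroup (E ⟶ E) :=
    { carrier := {g | (show End E from g) ∈ J}
      zero_mem' := J.zero_mem
      add_mem' := fun h h' => J.add_mem h h'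
      neg_mem' := fun h => J.neg_mem h }
  have hS : ∀ (a : k) (g : E ⟶ E), g ∈ S → a • g ∈ S := fun a g hg => by
    have h : a • g = (a • 𝟙 E) ≫ g := by rw [Linear.smul_comp, Category.id_comp]
    show (show End E from a • g) ∈ J
    rw [h]
    exact J.mul_mem_right (show End E from g) (show End E from a • 𝟙 E) hg
  let T := AddSubgroup.closure {Ψ | ∃ (c : K) (g : E ⟶ E), g ∈ S ∧ Ψ = scalarHom p K c g}
  have hF0 : bcMap p K f ≠ 0 := fun h0 => hf0 <| by
    have hli : LinearIndependent k (fun _ : PUnit.{u+1} => (1 : K)) :=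
      LinearIndependent.of_subsingleton PUnit.unit one_ne_zero
    have h1 : combo p K (fun _ : PUnit.{u+1} => (1 : K)) (Finsupp.single PUnit.unit (show E ⟶ E from f)) = 0 := by
      rw [combo_single, scalarHom, sm_one, Category.id_comp]; exact h0
    exact Finsupp.single_eq_zero.1 (combo_injective p K hli hE.1 hE.1 (h1.trans (map_zero _).symm))
  obtain ⟨a, b, hab⟩ := sum_comp_eq_id hL (e.inv ≫ bcMap p K f ≫ e.hom) (fun h => hF0 (by
    have := congrArg (fun t => e.hom ≫ t ≫ e.inv) h
    simpa using this))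
  have h1 : 𝟙 (bcF p K E) ∈ T := by
    have : 𝟙 (bcF p K E) = ∑ l, (e.hom ≫ a l ≫ e.inv) ≫ bcMap p K f ≫ (e.hom ≫ b l ≫ e.inv) := by
      have h2 := congrArg (fun t => e.hom ≫ t ≫ e.inv) hab
      simp only [Category.id_comp, e.hom_inv_id, Preadditive.comp_sum, Preadditive.sum_comp, Category.assoc] at h2
      rw [← h2]
      simp only [Category.assoc]
    rw [this]
    refine AddSubgroup.sum_mem _ fun l _ => ?_
    obtain ⟨c₁, hc₁⟩ := combo_surjective p K β hE hE.1 (e.hom ≫ a l ≫ e.inv)
    obtain ⟨c₂, hc₂⟩ := combo_surjective p K β hE hE.1 (e.hom ≫ b l ≫ e.inv)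
    rw [← hc₁, ← hc₂, show bcMap p K f = scalarHom p K 1 (show E ⟶ E from f) by rw [scalarHom, sm_one, Category.id_comp]]
    clear hc₁ hc₂
    induction c₁ using Finsupp.induction_linear with
    | zero => rw [map_zero, zero_comp]; exact T.zero_mem
    | add x y hx hy => rw [map_add, Preadditive.add_comp]; exact T.add_mem hx hy
    | single i g =>
      induction c₂ using Finsupp.induction_linear with
      | zero => rw [map_zero, comp_zero, comp_zero]; exact T.zero_mem
      | add x y hx hy => rw [map_add, Preadditive.comp_add, Preadditive.comp_add]; exact T.add_mem hx hy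
      | single j g' =>
        rw [combo_single, combo_single, scalarHom_comp, scalarHom_comp]
        refine AddSubgroup.subset_closure ⟨_, _, ?_, rfl⟩
        exact J.mul_mem_right _ (show End E from g) (J.mul_mem_left (show End E from g') _ hfJ)
  obtain ⟨d, hd, hdeq⟩ := exists_combo_of_closure p K hE.1 β S hS h1
  let d₁ : _ →₀ (E ⟶ E) := (β.repr 1).mapRange (fun a => a • 𝟙 E) (zero_smul k _)
  have hd₁ : combo p K β d₁ = 𝟙 _ := by
    rw [← scalarHom_one_id p K E]
    conv_rhs => rw [← β.linearCombination_repr 1]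
    show combo p K β ((β.repr 1).mapRange _ _) = _
    generalize β.repr 1 = q
    induction q using Finsupp.induction_linear with
    | zero => rw [Finsupp.mapRange_zero, map_zero, map_zero]; simp [scalarHom, sm, KLin.smulModΓ_zero]
    | add q q' h h' =>
      rw [Finsupp.mapRange_add (fun x y => add_smul x y (𝟙 E)), map_add, map_add, scalarHom_add_left, h, h']
    | single i a =>
      rw [Finsupp.mapRange_single, combo_single, Finsupp.linearCombination_single, scalarHom_smul p K hE.1,
        Algebra.smul_def, mul_comm]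
  obtain ⟨i, hi⟩ : ∃ i, β.repr 1 i ≠ 0 := by
    by_contra h
    push Not at h
    exact one_ne_zero (β.repr.map_eq_zero_iff.1 (Finsupp.ext h))
  have hdi : d i = β.repr 1 i • 𝟙 E := by
    rw [combo_injective_basis p K β hE.1 hE.1 (hdeq.trans hd₁.symm)]
    exact Finsupp.mapRange_apply
  have := hS (β.repr 1 i)⁻¹ _ (hd i)
  rw [hdi, smul_smul, inv_mul_cancel₀ hi, one_smul] at this
  exact this

/-- The only endomorphisms of an invertible module on an integral proper scheme are scalars. -/
theorem isIso_of_ne_zero_invertible {Y : Scheme.{u}} {F : Type u} [Field F] [IsAlgClosed F]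
    (q : Y ⟶ Spec (CommRingCat.of F)) [IsProper q] [IsIntegral Y] {L : Y.Modules} (hL : PicF.IsInvertible L)
    (f : L ⟶ L) (hf : f ≠ 0) : IsIso f := by
  letI : Y.Over (Spec (CommRingCat.of F)) := ⟨q⟩
  haveI : IsProper (Y ↘ Spec (CommRingCat.of F)) := ‹IsProper q›
  letI := CurveEnd.kAlgebra (k := F) L
  obtain ⟨c, hc⟩ := (InvEnd.exists_scalar (k := F) hL).2 f
  have hc0 : c ≠ 0 := by
    rintro rfl
    exact hf (hc.symm.trans (map_zero _))
  refine (isUnit_iff_isIso f).1 ?_
  have := (isUnit_iff_ne_zero.2 hc0).map (algebraMap F (End L))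
  rwa [hc] at this

end Groth.Agent.ASB
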