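import Groth.Agent.PnVan.Split
import Groth.Agent.ASB.Tensor
import Groth.Agent.ASB.TwDescent

/-!
# A criterion for absolute splitting
-/

set_option linter.style.haveILetI false
set_option linter.unusedSectionVars false
set_option backward.isDefEq.respectTransparency false
set_option backward.isDefEq.respectTransparency.types false
set_option maxHeartbeats 1000000

universe u

open CategoryTheory CategoryTheory.Limits AlgebraicGeometry TopologicalSpace Opposite

noncomputable section

namespace Groth.Agent.ASB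

attribute [local instance] Abelian.hasFiniteBiproducts preservesBinaryBiproducts_of_preservesBiproducts

variable {k : Type u} [Field k] {X : Scheme.{u}} {p : X ⟶ Spec (CommRingCat.of k)}
  {K : Type u} [Field K] [Algebra k K] {m : ℕ}

/-- The transport of the base change to projective space. -/
abbrev toPn (e : BrSev.Splitting p K m) (E : X.Modules) : (CohB1.ProjSpace m K).Modules :=
  (Scheme.Modules.pullback e.iso.inv).obj (bcF p K E)

/-- Absolute splitting from the vanishing of the middle cohomology. -/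
theorem exists_split_of_mid [IsProper p] (e : BrSev.Splitting p K m) {E : X.Modules} (hE : FlatMod.IsFinLocFree E)
    (h : ∀ (n : ℤ) (i : ℕ), 1 ≤ i → i < m →
      Subsingleton (Coh.HH (PnVan.P K m) ((PnVan.tw n).obj (toPn e E)) i)) :
    ∃ (s : ℕ) (Ls : Fin s → (BrSev.bc p K).Modules), (∀ i, PicF.IsInvertible (Ls i)) ∧
      Nonempty (BrSev.bcMod p K E ≅ ∐ Ls) := by
  have hlf : FlatMod.IsFinLocFree (toPn e E) :=
    KFlatLib.isFinLocFree_pullback _ (KFlatLib.isFinLocFree_pullback _ hE)
  have hc : Coh.IsCoh (X := PnVan.P K m) (toPn e E) :=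
    QCoh.isCoh_iff_isFP.2 (QCoh.isFP_of_isFinLocFree (X := PnVan.P K m) hlf)
  obtain ⟨b, a, ⟨θ⟩⟩ := (PnVan.iso_sigma_iff (k := K) (r := m) hc).2
    ⟨hc, h, fun hm => PnVan.negVan_of_isFinLocFree (k := K) (r := m) 0 hm hlf⟩
  refine ⟨b, fun i => e.twist (a i), fun i => isInvertible_twist e (a i), ?_⟩
  obtain ⟨g₁⟩ := coprod_ofFn fun i => Twist.twistProjSpace m K (a i)
  obtain ⟨g₂⟩ := map_sumL (Scheme.Modules.pullback e.iso.hom) (List.ofFn fun i => Twist.twistProjSpace m K (a i))
  obtain ⟨g₃⟩ := coprod_ofFn fun i => e.twist (a i)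
  exact ⟨((Scheme.Modules.pullbackId _).app _).symm ≪≫
    (Scheme.Modules.pullbackCongr e.iso.hom_inv_id.symm).app _ ≪≫
    ((Scheme.Modules.pullbackComp e.iso.hom e.iso.inv).app _).symm ≪≫
    (Scheme.Modules.pullback e.iso.hom).mapIso (θ ≪≫ g₁) ≪≫ g₂ ≪≫
    eqToIso (by rw [List.map_ofFn]; rfl) ≪≫ g₃.symm⟩

end Groth.Agent.ASB
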