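import Groth.Agent.ASB.PtLinear
import Groth.Agent.ASB.SBPoints
import Groth.Agent.ASB.SectionsBC

/-!
# The action of the algebra on the sections of a module of type `O(1)`
-/

set_option linter.style.haveILetI false
set_option linter.unusedSectionVars false
set_option backward.isDefEq.respectTransparency false
set_option backward.isDefEq.respectTransparency.types false
set_option maxHeartbeats 1000000

universe u

open CategoryTheory CategoryTheory.Limits AlgebraicGeometry TopologicalSpace Opposite
open scoped TensorProduct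

noncomputable section

namespace Groth.Agent.ASB

attribute [local instance] Abelian.hasFiniteBiproducts

variable {K : Type u} [Field K] {m : ℕ}

theorem sum_comp_π_ι {C : Type*} [Category C] [Preadditive C] [HasFiniteBiproducts C] {r : ℕ} (N : Fin r → C)
    {M : C} (h : M ⟶ ⨁ N) : ∑ a, (h ≫ biproduct.π N a) ≫ biproduct.ι N a = h := by
  simp only [Category.assoc, ← Preadditive.comp_sum, biproduct.total, Category.comp_id]

/-- Tuples of linear forms as morphisms to a sum of copies of `O(1)`. -/
def hForms (r : ℕ) (C : Fin r → Fin (m + 1) → K) :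
    Coh.structureModule (CohB1.ProjSpace m K) ⟶ ⨁ fun _ : Fin r => Twist.twistProjSpace m K 1 :=
  biproduct.lift fun a => lform m K (C a)

theorem hForms_bijective (r : ℕ) : Function.Bijective (hForms (K := K) (m := m) r) := by
  constructor
  · intro C C' h
    funext a
    have h1 := congrArg (fun t => t ≫ biproduct.π (fun _ : Fin r => Twist.twistProjSpace m K 1) a) h
    simp only [hForms, biproduct.lift_π] at h1
    exact lform_injective h1
  · intro h
    refine ⟨fun a => (lform_bijective.2 (h ≫ biproduct.π _ a)).choose, ?_⟩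
    apply biproduct.hom_ext
    intro a
    rw [hForms, biproduct.lift_π]
    exact (lform_bijective.2 (h ≫ biproduct.π _ a)).choose_spec

theorem hForms_add (r : ℕ) (C C' : Fin r → Fin (m + 1) → K) :
    hForms r (C + C') = hForms r C + hForms r C' := by
  apply biproduct.hom_ext
  intro a
  rw [Preadditive.add_comp, hForms, hForms, hForms, biproduct.lift_π, biproduct.lift_π, biproduct.lift_π,
    Pi.add_apply, map_add]

theorem hForms_smul (r : ℕ) (b : K) (C : Fin r → Fin (m + 1) → K) :
    hForms r (b • C) =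
      Formal.smulModΓ _ (Coh.toGlobal (CohB1.ProjSpace.toSpec m K) b) ≫ hForms r C := by
  letI := ovrP m K
  apply biproduct.hom_ext
  intro a
  rw [Category.assoc, hForms, hForms, biproduct.lift_π, biproduct.lift_π, Pi.smul_apply, map_smul]
  rfl

variable {k : Type u} [Field k] [Algebra k K] [IsGalois k K] {A : Type u} [Ring A] [Algebra k A]
  (Φ : K ⊗[k] A ≃ₐ[K] Matrix (Fin (m + 1)) (Fin (m + 1)) K)
  (hA : Module.finrank k A = (m + 1) * (m + 1)) {X : Scheme.{u}} {f : X ⟶ Spec (CommRingCat.of k)} [IsProper f]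
  (s : BrSev.SBStr k A ((m + 1) * (m + 1) - (m + 1)) f)

include Φ hA s in
/-- The algebra acts on the sections of a module of type `O(1)`, commuting with the endomorphisms. -/
theorem exists_act_sections (e : BrSev.Splitting f K m)
    (he : ∀ i, SBSplit.ι i ≫ e.iso.inv = SBSplit.chartMap Φ hA s i)
    (hO : Coh.IsCoh (Coh.structureModule X)) {W : X.Modules} (hW : Coh.IsCoh W) {r : ℕ} (hr : r ≠ 0)
    (E : bcF f K W ≅ ⨁ fun _ : Fin r => e.twist 1) :
    letI := ovr f
    Module.finrank k (Coh.structureModule X ⟶ W) = r * (m + 1) ∧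
      ∃ φ : A →ₐ[k] Module.End k (Coh.structureModule X ⟶ W),
        ∀ (d : W ⟶ W) (a : A) (v : Coh.structureModule X ⟶ W), φ a (v ≫ d) = φ a v ≫ d := by
  letI := ovr f
  obtain ⟨u₁⟩ := PicClLib.nonempty_pullback_structureModule (BrSev.proj f K)
  obtain ⟨u₂⟩ := PicClLib.nonempty_pullback_structureModule e.iso.hom
  let Ψ := Scheme.Modules.pullback e.iso.hom
  haveI : Ψ.IsEquivalence := (pullbackEquiv e.iso).isEquivalence_functor
  haveI : Ψ.Additive := Functor.additive_of_preserves_binary_products _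
  let u : bcF f K (Coh.structureModule X) ≅ Ψ.obj (Coh.structureModule (CohB1.ProjSpace m K)) := u₁ ≪≫ u₂.symm
  let E' : Ψ.obj (⨁ fun _ : Fin r => Twist.twistProjSpace m K 1) ≅ bcF f K W :=
    Ψ.mapBiproduct (fun _ : Fin r => Twist.twistProjSpace m K 1) ≪≫ E.symm
  let G : (Fin r → Fin (m + 1) → K) → (bcF f K (Coh.structureModule X) ⟶ bcF f K W) :=
    fun C => u.hom ≫ Ψ.map (hForms r C) ≫ E'.hom
  have hG : Function.Bijective G := by
    constructor
    · intro C C' h
      exact (hForms_bijective r).1 (Ψ.map_injective ((cancel_mono E'.hom).1 ((cancel_epi u.hom).1 h)))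
    · intro h
      obtain ⟨h', hh'⟩ := Ψ.map_surjective (u.inv ≫ h ≫ E'.inv)
      obtain ⟨C, rfl⟩ := (hForms_bijective r).2 h'
      exact ⟨C, by simp [G, hh']⟩
  have hGsm : ∀ (b : K) C, G (b • C) = sm f K b _ ≫ G C := fun b C => by
    show u.hom ≫ Ψ.map (hForms r (b • C)) ≫ E'.hom = sm f K b _ ≫ u.hom ≫ Ψ.map (hForms r C) ≫ E'.hom
    have h1 : e.iso.hom.appTop (Coh.toGlobal (CohB1.ProjSpace.toSpec m K) b) =
        Coh.toGlobal (BrSev.bcTo f K) b := by
      rw [← KLin.toGlobal_comp, e.comm]
    rw [hForms_smul, Functor.map_comp, pullback_smulModΓ, h1, ← Category.assoc u.hom, ← Category.assoc u.hom,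
      KLin.comp_smulModΓ u.hom]
    simp only [Category.assoc]
    rfl
  let Ωe : (K ⊗[k] (Coh.structureModule X ⟶ W)) ≃+
      (bcF f K (Coh.structureModule X) ⟶ bcF f K W) :=
    AddEquiv.ofBijective (omg f K hO.1) (omg_bijective f K hO hW.1)
  let J₀ : (Fin r → Fin (m + 1) → K) →ₗ[K] K ⊗[k] (Coh.structureModule X ⟶ W) :=
    { toFun := fun C => Ωe.symm (G C)
      map_add' := fun C C' => by
        rw [← map_add]
        congr 1
        show u.hom ≫ Ψ.map (hForms r (C + C')) ≫ E'.hom = _
        rw [hForms_add, Functor.map_add, Preadditive.add_comp, Preadditive.comp_add]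
      map_smul' := fun b C => by
        rw [RingHom.id_apply, AddEquiv.symm_apply_eq]
        show G (b • C) = omg f K hO.1 (b • Ωe.symm (G C))
        rw [omg_smul, hGsm]
        congr 1
        exact (Ωe.apply_symm_apply (G C)).symm }
  let J := LinearEquiv.ofBijective J₀ (Ωe.symm.bijective.comp hG)
  have hΩ : ∀ C, omg f K hO.1 (J C) = G C := fun C => Ωe.apply_symm_apply (G C)
  have hker : ∀ g w, Act.Pivot w → IsPt Φ s g w → ∀ x, (x ∈ Act.Ker J w ↔ VanAt f K hO.1 g x) := by
    intro g w hw hg x
    obtain ⟨i, a, ha, hcrd, g₀, hg₀, hg₀'⟩ := exists_isPt Φ hA s e he w hw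
    obtain rfl := hg.unique Φ s hg₀'
    obtain ⟨C, rfl⟩ := J.surjective x
    have hbar : ptBar f K g = chartPt i a ≫ e.iso.inv := by
      apply pullback.hom_ext
      · exact (ptBar_proj f K g).trans hg₀
      · refine (ptBar_bcTo f K g).trans ?_
        show _ = (chartPt i a ≫ e.iso.inv) ≫ BrSev.bcTo f K
        rw [Category.assoc, ← e.comm, Iso.inv_hom_id_assoc, chartPt_toSpec i a ha]
    let P := Scheme.Modules.pullback (chartPt i a)
    haveI : P.Additive := (Scheme.Modules.pullbackPushforwardAdjunction (chartPt i a)).left_adjoint_additive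
    let B := Scheme.Modules.pullback (ptBar f K g)
    haveI : B.Additive := (Scheme.Modules.pullbackPushforwardAdjunction (ptBar f K g)).left_adjoint_additive
    have e1 : B.map (G C) = 0 ↔ B.map (Ψ.map (hForms r C)) = 0 := by
      show B.map (u.hom ≫ Ψ.map (hForms r C) ≫ E'.hom) = 0 ↔ _
      rw [Functor.map_comp, Functor.map_comp]
      exact ⟨fun h => (cancel_mono (B.map E'.hom)).1 ((cancel_epi (B.map u.hom)).1 (h.trans (by simp))),
        fun h => by rw [h, zero_comp, comp_zero]⟩
    have e2 : P.map (hForms r C) = 0 ↔ ∀ l, P.map (lform m K (C l)) = 0 := by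
      constructor
      · intro h l
        have := congrArg (fun t => t ≫ P.map (biproduct.π (fun _ : Fin r => Twist.twistProjSpace m K 1) l)) h
        simpa [← Functor.map_comp, hForms] using this
      · intro h
        rw [← sum_comp_π_ι _ (hForms r C), Functor.map_sum]
        refine Finset.sum_eq_zero fun l _ => ?_
        rw [Functor.map_comp, hForms, biproduct.lift_π, h l, zero_comp]
    show (∀ l, J.symm (J C) l ⬝ᵥ w = 0) ↔ B.map (omg f K hO.1 (J C)) = 0
    rw [hΩ, e1, pullback_map_comp_eq_zero_iff, hbar, Category.assoc, Iso.inv_hom_id, Category.comp_id, e2,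
      LinearEquiv.symm_apply_apply]
    refine forall_congr' fun l => ?_
    rw [map_lform_eq_zero_iff i a ha]
    simp [dotProduct, hcrd]
  refine ⟨?_, ?_⟩
  · have h1 : Module.finrank K (K ⊗[k] (Coh.structureModule X ⟶ W)) = r * (m + 1) := by
      rw [← J.finrank_eq, Module.finrank_pi_fintype]
      simp
    rwa [Module.finrank_baseChange] at h1
  have hpt : ∀ (σ : K ≃ₐ[k] K) w', Act.Pivot w' → ∃ w, Act.Pivot w ∧
      (∀ x, Act.sV (Coh.structureModule X ⟶ W) σ x ∈ Act.Ker J w' ↔ x ∈ Act.Ker J w) ∧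
      ∀ y, Act.Row w' (Φ (Act.sA A σ y)) ↔ Act.Row w (Φ y) := by
    intro σ w' hw'
    obtain ⟨_, _, _, _, g', -, hg'⟩ := exists_isPt Φ hA s e he w' hw'
    obtain ⟨w, hw, hg⟩ := exists_vec Φ hA s (BrSev.Pts.map f σ.symm.toAlgHom g')
    have hmap : BrSev.Pts.map f σ.toAlgHom (BrSev.Pts.map f σ.symm.toAlgHom g') = g' := map_symm_map σ.symm g'
    refine ⟨w, hw, fun x => ?_, fun y => ?_⟩
    · rw [hker _ _ hw hg, hker _ _ hw' hg']
      conv_lhs => rw [← hmap]
      exact vanAt_sig f K hO.1 _ σ x
    · rw [← hg, ← hg']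
      conv_lhs => rw [← hmap]
      exact sA_mem_iff s σ _ y
  obtain ⟨φ, hφ⟩ := Act.exists_act Φ J hr hpt
  refine ⟨φ, fun d a v => ?_⟩
  let Ld : (Coh.structureModule X ⟶ W) →ₗ[k] (Coh.structureModule X ⟶ W) := Linear.rightComp k _ d
  have h := hφ Ld (fun w hw x hx => by
    obtain ⟨_, _, _, _, g, -, hg⟩ := exists_isPt Φ hA s e he w hw
    rw [hker g w hw hg] at hx ⊢
    exact vanAt_comp f K hO.1 g d Ld (fun _ => rfl) x hx) a
  exact LinearMap.congr_fun h v

end Groth.Agent.ASB
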