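import Groth.Agent.ASB.PtLinear
import Groth.Agent.ASB.Dim
import Groth.Agent.ASB.Twisted
import Groth.Agent.ASB.Sigma
import Groth.Agent.ASB.SplitTwist
import Groth.Agent.S0844
import Groth.Agent.PicPnLib.Uniq

/-!
# Dimensions of the sections of twists on a split base change
-/

set_option linter.style.haveILetI false
set_option linter.unusedSectionVars false
set_option backward.isDefEq.respectTransparency false
set_option backward.isDefEq.respectTransparency.types false
set_option maxHeartbeats 1000000

universe u

open CategoryTheory CategoryTheory.Limits AlgebraicGeometry TopologicalSpace Opposite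

noncomputable section

namespace Groth.Agent.ASB

/-- Twists with as many sections as `O(1)` are `O(1)`, in positive dimension. -/
theorem eq_one_of_finrank {m : ℕ} (hm : m ≠ 0) (L : Type u) [Field L] (a : ℤ)
    (h : letI := ovrP m L
      Module.finrank L (Coh.structureModule (CohB1.ProjSpace m L) ⟶ Twist.twistProjSpace m L a) = m + 1) :
    a = 1 := by
  letI := ovrP m L
  obtain ⟨e₁⟩ := ExtShX.exists_hom_HH0 (A := L) (Twist.twistProjSpace m L a)
  rw [e₁.finrank_eq] at h
  by_cases ha : 0 ≤ a
  · obtain ⟨d, rfl⟩ := Int.eq_ofNat_of_zero_le ha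
    obtain ⟨e₂⟩ := S0843.result L m d
    rw [e₂.finrank_eq, (ComodLib.GradedAug.finrank_homogeneous (k := L) (m + 1) d).2,
      show m + 1 + d - 1 = m + d by omega] at h
    rcases d with _ | _ | d
    · simp at h
      omega
    · rfl
    · exfalso
      have h1 := Nat.choose_le_choose m (show m + 2 ≤ m + (d + 1 + 1) by omega)
      rw [Nat.choose_symm_add (a := m) (b := 2), Nat.choose_symm_add, h] at h1
      have h2 : (m + 2).choose 2 = (m + 1) + (m + 1).choose 2 := by
        rw [Nat.choose_succ_succ' (m + 1) 1, Nat.choose_one_right]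
      have h3 : 0 < (m + 1).choose 2 := Nat.choose_pos (by omega)
      omega
  · haveI := S0844.result L m a 0 (fun h' => ha h'.2) (fun h' => hm h'.1.symm)
    rw [Module.finrank_zero_of_subsingleton] at h
    omega

variable {k : Type u} [Field k] {X : Scheme.{u}} {p : X ⟶ Spec (CommRingCat.of k)}
  {K : Type u} [Field K] [Algebra k K] {m : ℕ}

/-- Morphisms between pullbacks along a splitting. -/
theorem finrank_splitting (e : BrSev.Splitting p K m) (M N : (CohB1.ProjSpace m K).Modules) :
    letI := ovrP m K
    letI := ovrK p K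
    Module.finrank K (M ⟶ N) = Module.finrank K
      ((Scheme.Modules.pullback e.iso.hom).obj M ⟶ (Scheme.Modules.pullback e.iso.hom).obj N) := by
  letI := ovrP m K
  letI := ovrK p K
  let Ψ := Scheme.Modules.pullback e.iso.hom
  haveI : Ψ.IsEquivalence := (pullbackEquiv e.iso).isEquivalence_functor
  haveI : Ψ.Additive := Functor.additive_of_preserves_binary_products _
  let L : (M ⟶ N) →ₗ[K] (Ψ.obj M ⟶ Ψ.obj N) :=
    { toFun := fun φ => Ψ.map φ
      map_add' := fun φ ψ => Ψ.map_add
      map_smul' := fun b φ => by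
        show Ψ.map (Formal.smulModΓ M (Coh.toGlobal (CohB1.ProjSpace.toSpec m K) b) ≫ φ) =
          Formal.smulModΓ (Ψ.obj M) (Coh.toGlobal (BrSev.bcTo p K) b) ≫ Ψ.map φ
        rw [Functor.map_comp, pullback_smulModΓ, ← KLin.toGlobal_comp, e.comm] }
  exact (LinearEquiv.ofBijective L ⟨fun _ _ h => Ψ.map_injective h, fun g => Ψ.map_surjective g⟩).finrank_eq

/-- A twist with as many sections as `O_e(1)` is `O_e(1)`. -/
theorem twist_iso_one_of_finrank (e : BrSev.Splitting p K m) (a : ℤ)
    (h : letI := ovrK p K
      Module.finrank K (bcF p K (Coh.structureModule X) ⟶ e.twist a) = m + 1) :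
    Nonempty (e.twist a ≅ e.twist 1) := by
  by_cases hm : m = 0
  · exact (PicPnLib.twist_iso_of_zero (n := m) (R := K) hm a 1).map
      fun θ => (Scheme.Modules.pullback e.iso.hom).mapIso θ
  letI := ovrP m K
  letI := ovrK p K
  obtain ⟨u₁⟩ := PicClLib.nonempty_pullback_structureModule (BrSev.proj p K)
  obtain ⟨u₂⟩ := PicClLib.nonempty_pullback_structureModule e.iso.hom
  have h1 := finrank_splitting e (Coh.structureModule (CohB1.ProjSpace m K)) (Twist.twistProjSpace m K a)
  rw [finrank_congr K (u₂ ≪≫ u₁.symm) (Iso.refl _)] at h1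
  exact ⟨eqToIso (by rw [eq_one_of_finrank hm K a (h1.trans h)])⟩

end Groth.Agent.ASB
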