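import Groth.Agent.ASB.Taut
import Groth.Agent.ASB.TwistDim
import Groth.Agent.ASB.BrAlg
import Groth.Agent.ASB.GalDescent
import Groth.Agent.CSALib.Splitting
import Groth.Agent.H23.PullPush
import Mathlib.FieldTheory.SeparableClosure

/-!
# The indecomposable module of type `O(1)`
-/

set_option linter.style.haveILetI false
set_option linter.unusedSectionVars false
set_option backward.isDefEq.respectTransparency false
set_option backward.isDefEq.respectTransparency.types false
set_option maxHeartbeats 1000000

universe u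

open CategoryTheory CategoryTheory.Limits AlgebraicGeometry TopologicalSpace Opposite
open scoped TensorProduct

noncomputable section

namespace Groth.Agent.ASB

open Groth.Agent.CSALib

attribute [local instance] Abelian.hasFiniteBiproducts preservesBinaryBiproducts_of_preservesBiproducts

variable {k : Type u} [Field k] {A : Type u} [Ring A] [Algebra k A] [Algebra.IsCentral k A] [IsSimpleRing A]
  {m : ℕ} {X : Scheme.{u}} {f : X ⟶ Spec (CommRingCat.of k)} [IsProper f]
  {K : Type u} [Field K] [Algebra k K] [IsAlgClosure k K]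

/-- The algebra is similar to the opposite of the endomorphisms of the indecomposable of type `O(1)`. -/
theorem exists_typeOne (hA : Module.finrank k A = (m + 1) * (m + 1))
    (s : BrSev.SBStr k A ((m + 1) * (m + 1) - (m + 1)) f) (e : BrSev.Splitting f K m) :
    ∃ (W : X.Modules) (r : ℕ), r ≠ 0 ∧ FlatMod.IsFinLocFree W ∧ Indec W ∧
      Nonempty (bcF f K W ≅ sumL (List.replicate r (e.twist 1))) ∧
      letI := ovr f
      Algebra.IsCentral k (CategoryTheory.End W) ∧ Similar k (A ⊗[k] CategoryTheory.End W) k := by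
  haveI : IsAlgClosed K := IsAlgClosure.isAlgClosed k
  haveI : Algebra.IsAlgebraic k K := IsAlgClosure.isAlgebraic
  haveI : Normal k K := IsAlgClosure.normal k K
  haveI : FiniteDimensional k A := Module.finite_of_finrank_pos (by rw [hA]; positivity)
  let Ks := separableClosure k K
  haveI : IsGalois k Ks := separableClosure.isGalois k K
  haveI : IsSepClosed Ks := (separableClosure.isSepClosure k K).sep_closed
  haveI : Algebra.IsCentral Ks (Ks ⊗[k] A) := isCentral_baseChange k A Ks
  haveI : IsSimpleRing (Ks ⊗[k] A) := isSimpleRing_baseChange k A Ks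
  obtain ⟨N, -, ⟨Φ₀⟩⟩ := exists_algEquiv_matrix_of_isSepClosed (k := Ks) (Ks ⊗[k] A)
  obtain rfl : N = m + 1 := by
    have h := Φ₀.toLinearEquiv.finrank_eq
    rw [Module.finrank_baseChange, hA, Module.finrank_matrix, Fintype.card_fin, Module.finrank_self, mul_one] at h
    exact (Nat.mul_self_inj.1 h).symm
  obtain ⟨es, hes⟩ := SBSplit.exists_splitting_chart Φ₀ hA s
  haveI := isNoetherian_of_proper f
  haveI : IsIntegral (BrSev.bc f Ks) := isIntegral_bc es
  haveI : IsIntegral (BrSev.bc f K) := isIntegral_bc e
  have h1 : PicF.IsInvertible (es.twist 1) := isInvertible_twist es 1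
  obtain ⟨W, r, hr, hWf, hWi, ⟨eW⟩⟩ := exists_indec_of_invariant f Ks
    (H23.PullPush.isFinLocFree_of_isInvertible h1) (indec_invertible h1) (twist_sig es 1)
  have hW : Coh.IsCoh W := CurveDeg.isCoh_of_isFinLocFree hWf
  have hO : Coh.IsCoh (Coh.structureModule X) := CurveDeg.isCoh_of_isInvertible CurveDeg.isInvertible_structureModule
  obtain ⟨eb⟩ := biproduct_replicate (es.twist 1) r
  letI := ovr f
  obtain ⟨hdim, φ, hφ⟩ := exists_act_sections Φ₀ hA s es hes hO hW hr (eW ≪≫ eb.symm)
  -- transport the type to the algebraic closure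
  let q : BrSev.bc f K ⟶ BrSev.bc f Ks :=
    pullback.lift (BrSev.proj f K) (BrSev.bcTo f K ≫ Spec.map (CommRingCat.ofHom (algebraMap Ks K))) (by
      rw [Category.assoc, ← Spec.map_comp, ← CommRingCat.ofHom_comp, ← IsScalarTower.algebraMap_eq]
      exact pullback.condition)
  have hq : q ≫ BrSev.proj f Ks = BrSev.proj f K := pullback.lift_fst _ _ _
  let M := (Scheme.Modules.pullback q).obj (es.twist 1)
  have hM : PicF.IsInvertible M := PicClLib.isInvertible_pullback _ h1
  obtain ⟨a, ⟨ea⟩⟩ := exists_iso_twist e hM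
  obtain ⟨g₁⟩ := map_replicate (Scheme.Modules.pullback q) (es.twist 1) r
  obtain ⟨g₂⟩ := replicate_congr ea r
  let E : bcF f K W ≅ sumL (List.replicate r (e.twist a)) :=
    (Scheme.Modules.pullbackCongr hq.symm).app W ≪≫ ((Scheme.Modules.pullbackComp _ _).app W).symm ≪≫
      (Scheme.Modules.pullback q).mapIso eW ≪≫ g₁ ≪≫ g₂
  letI := ovrK f K
  have hta : ∀ j, PicF.IsInvertible (e.twist j) := isInvertible_twist e
  haveI : IsProper (BrSev.bc f K ↘ Spec (CommRingCat.of K)) := inferInstanceAs (IsProper (BrSev.bcTo f K))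
  haveI := finite_hom (k := K) (BrSev.bc f K) (ZClosLib.isCoh_pullback (BrSev.proj f K) hO)
    (CurveDeg.isCoh_of_isInvertible (hta a))
  haveI := finite_hom (k := K) (BrSev.bc f K) (CurveDeg.isCoh_of_isInvertible (hta a))
    (CurveDeg.isCoh_of_isInvertible (hta a))
  have hOa : Module.finrank K (bcF f K (Coh.structureModule X) ⟶ e.twist a) = m + 1 := by
    rw [finrank_bc f K hO hW, finrank_congr K (show bcF f K (Coh.structureModule X) ≅
      sumL (List.replicate 1 (bcF f K (Coh.structureModule X))) from isoBiprodZero isZero_top) E,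
      finrank_replicate, one_mul] at hdim
    exact Nat.eq_of_mul_eq_mul_left (Nat.pos_of_ne_zero hr) hdim
  obtain ⟨θ⟩ := twist_iso_one_of_finrank e a hOa
  obtain ⟨g₃⟩ := replicate_congr θ r
  refine ⟨W, r, hr, hWf, hWi, ⟨E ≪≫ g₃⟩, ?_⟩
  -- the endomorphisms
  have hsc : ∀ g : e.twist a ⟶ e.twist a, g ≠ 0 → IsIso g := isIso_of_ne_zero_invertible (BrSev.bcTo f K) (hta a)
  obtain ⟨eb'⟩ := biproduct_replicate (e.twist a) r
  haveI : IsSimpleRing (CategoryTheory.End W) := isSimpleRing_end f K hW hWi.1 hsc (E ≪≫ eb'.symm)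
  haveI : Module.Finite k (CategoryTheory.End W) := finite_end f hW
  have hD : Module.finrank k (CategoryTheory.End W) = r * r := by
    show Module.finrank k (W ⟶ W) = r * r
    rw [finrank_bc f K hW hW, finrank_congr K E E, finrank_replicate,
      finrank_end_invertible (BrSev.bcTo f K) (hta a), mul_one]
  haveI : IsProper (X ↘ Spec (CommRingCat.of k)) := ‹IsProper f›
  haveI := finite_hom (k := k) X hO hW
  haveI : Nontrivial (Coh.structureModule X ⟶ W) :=
    Module.nontrivial_of_finrank_pos (R := k) (by rw [hdim]; positivity)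
  let L : CategoryTheory.End W →ₐ[k] Module.End k (Coh.structureModule X ⟶ W) :=
    AlgHom.ofLinearMap
      { toFun := fun d => Linear.rightComp k (Coh.structureModule X) (show W ⟶ W from d)
        map_add' := fun d d' => LinearMap.ext fun v => Preadditive.comp_add _ _ _ v d d'
        map_smul' := fun c d => LinearMap.ext fun v => Linear.comp_smul _ _ _ v c d }
      (LinearMap.ext fun v => Category.comp_id v)
      (fun d d' => LinearMap.ext fun v => (Category.assoc v d' d).symm)
  have h := BrAlg.central_and_similar φ L (fun a d => LinearMap.ext fun v => hφ d a v)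
    (by rw [hA, hD, hdim]; ring)
  exact ⟨h.1, h.2.1⟩

end Groth.Agent.ASB
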